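import Groth.Agent.HilbStab.Poly
import Groth.Prelude.Def_StabCat
import Mathlib.Analysis.Polynomial.Basic

/-!
# The eventual order of polynomials, in cross-multiplied reduced form
-/

set_option autoImplicit false

open Polynomial

namespace Groth.HilbStab

/-- Nonnegative in the eventual order. -/
def NN (P : ℚ[X]) : Prop := 0 ≤ P.leadingCoeff

/-- Positive in the eventual order. -/
def PP (P : ℚ[X]) : Prop := 0 < P.leadingCoeff

theorem pp_ne_zero {P : ℚ[X]} (h : PP P) : P ≠ 0 := fun e => by simp [PP, e] at h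

theorem PP.nn {P : ℚ[X]} (h : PP P) : NN P := le_of_lt h

theorem nn_zero : NN (0 : ℚ[X]) := by simp [NN]

theorem not_pp_zero : ¬ PP (0 : ℚ[X]) := by simp [PP]

theorem nn_iff {P : ℚ[X]} : NN P ↔ P = 0 ∨ PP P := by
  refine ⟨fun h => ?_, ?_⟩
  · rcases eq_or_lt_of_le h with e | e
    · exact Or.inl (leadingCoeff_eq_zero.mp e.symm)
    · exact Or.inr e
  · rintro (rfl | h)
    · exact nn_zero
    · exact h.nn

theorem nn_neg_iff {P : ℚ[X]} : NN (-P) ↔ ¬ PP P := by
  simp [NN, PP, leadingCoeff_neg]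

theorem pp_neg_iff {P : ℚ[X]} : PP (-P) ↔ ¬ NN P := by
  simp [NN, PP, leadingCoeff_neg]

theorem PP.add_nn {P Q : ℚ[X]} (hP : PP P) (hQ : NN Q) : PP (P + Q) := by
  rcases nn_iff.mp hQ with rfl | hQ
  · rwa [add_zero]
  rcases lt_trichotomy P.degree Q.degree with h | h | h
  · rwa [PP, leadingCoeff_add_of_degree_lt h]
  · unfold PP at hP hQ ⊢
    rw [leadingCoeff_add_of_degree_eq h (by linarith)]
    linarith
  · rwa [PP, leadingCoeff_add_of_degree_lt' h]

theorem NN.add_pp {P Q : ℚ[X]} (hP : NN P) (hQ : PP Q) : PP (P + Q) :=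
  add_comm Q P ▸ hQ.add_nn hP

theorem NN.add {P Q : ℚ[X]} (hP : NN P) (hQ : NN Q) : NN (P + Q) := by
  rcases nn_iff.mp hP with rfl | hP
  · rwa [zero_add]
  · exact (hP.add_nn hQ).nn

theorem PP.smul {P : ℚ[X]} {a : ℚ} (hP : PP P) (ha : 0 < a) : PP (a • P) := by
  unfold PP at hP ⊢
  rw [Polynomial.smul_eq_C_mul, leadingCoeff_mul, leadingCoeff_C]
  exact mul_pos ha hP

theorem NN.smul {P : ℚ[X]} {a : ℚ} (hP : NN P) (ha : 0 ≤ a) : NN (a • P) := by
  unfold NN at hP ⊢
  rw [Polynomial.smul_eq_C_mul, leadingCoeff_mul, leadingCoeff_C]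
  exact mul_nonneg ha hP

theorem pp_smul_iff {P : ℚ[X]} {a : ℚ} (ha : 0 < a) : PP (a • P) ↔ PP P := by
  refine ⟨fun h => ?_, fun h => h.smul ha⟩
  have := h.smul (inv_pos.mpr ha)
  rwa [smul_smul, inv_mul_cancel₀ ha.ne', one_smul] at this

theorem nn_smul_iff {P : ℚ[X]} {a : ℚ} (ha : 0 < a) : NN (a • P) ↔ NN P := by
  refine ⟨fun h => ?_, fun h => h.smul ha.le⟩
  have := h.smul (inv_pos.mpr ha).le
  rwa [smul_smul, inv_mul_cancel₀ ha.ne', one_smul] at this

theorem exists_eval_pos {P : ℚ[X]} (h : PP P) : ∃ N : ℕ, ∀ m, N ≤ m → 0 < P.eval (m : ℚ) := by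
  rcases Nat.eq_zero_or_pos P.natDegree with hd | hd
  · refine ⟨0, fun m _ => ?_⟩
    rw [eq_C_of_natDegree_eq_zero hd, eval_C]
    rwa [PP, leadingCoeff, hd] at h
  · obtain ⟨x, hx⟩ := Filter.eventually_atTop.mp
      ((P.tendsto_atTop_of_leadingCoeff_nonneg (natDegree_pos_iff_degree_pos.mp hd) h.le).eventually
        (Filter.eventually_gt_atTop 0))
    obtain ⟨N, hN⟩ := exists_nat_ge x
    exact ⟨N, fun m hm => hx _ (hN.trans (by exact_mod_cast hm))⟩

theorem polyLT_iff {P Q : ℚ[X]} : StabCat.PolyLT P Q ↔ PP (Q - P) := by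
  refine ⟨fun ⟨N, hN⟩ => ?_, fun h => ?_⟩
  · by_contra hc
    rcases nn_iff.mp (nn_neg_iff.mpr hc) with h0 | h0
    · have := hN N le_rfl
      rw [neg_sub, sub_eq_zero] at h0
      rw [h0] at this
      exact lt_irrefl _ this
    · obtain ⟨M, hM⟩ := exists_eval_pos h0
      have h1 := hM (max N M) (le_max_right _ _)
      have h2 := hN (max N M) (le_max_left _ _)
      rw [neg_sub, eval_sub] at h1
      linarith
  · obtain ⟨N, hN⟩ := exists_eval_pos h
    exact ⟨N, fun m hm => by have := hN m hm; rw [eval_sub] at this; linarith⟩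

theorem polyLE_iff {P Q : ℚ[X]} : StabCat.PolyLE P Q ↔ NN (Q - P) := by
  refine ⟨fun ⟨N, hN⟩ => ?_, fun h => ?_⟩
  · by_contra hc
    obtain ⟨M, hM⟩ := exists_eval_pos (pp_neg_iff.mpr hc)
    have h1 := hM (max N M) (le_max_right _ _)
    have h2 := hN (max N M) (le_max_left _ _)
    rw [neg_sub, eval_sub] at h1
    linarith
  · rcases nn_iff.mp h with h | h
    · exact ⟨0, fun m _ => by rw [(sub_eq_zero.mp h)]⟩
    · obtain ⟨N, hN⟩ := exists_eval_pos h
      exact ⟨N, fun m hm => by have := hN m hm; rw [eval_sub] at this; linarith⟩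

variable (d : ℕ)

/-- The cross-multiplied difference of reduced polynomials. -/
noncomputable def cr (P Q : ℚ[X]) : ℚ[X] := StabCat.alpha d P • Q - StabCat.alpha d Q • P

theorem redLE_iff {P Q : ℚ[X]} : StabCat.RedLE d P Q ↔ NN (cr d P Q) := polyLE_iff

theorem redLT_iff {P Q : ℚ[X]} : StabCat.RedLT d P Q ↔ PP (cr d P Q) := polyLT_iff

theorem redEq_iff {P Q : ℚ[X]} : StabCat.RedEq d P Q ↔ cr d P Q = 0 := by
  rw [StabCat.RedEq, cr, sub_eq_zero, eq_comm]

theorem alpha_add (P Q : ℚ[X]) :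
    StabCat.alpha d (P + Q) = StabCat.alpha d P + StabCat.alpha d Q := by
  simp [StabCat.alpha, mul_add]

theorem alpha_sub (P Q : ℚ[X]) :
    StabCat.alpha d (P - Q) = StabCat.alpha d P - StabCat.alpha d Q := by
  simp [StabCat.alpha, mul_sub]

theorem cr_self (P : ℚ[X]) : cr d P P = 0 := sub_self _

theorem cr_swap (P Q : ℚ[X]) : cr d Q P = - cr d P Q := (neg_sub _ _).symm

theorem cr_add_right (P Q R : ℚ[X]) : cr d P (Q + R) = cr d P Q + cr d P R := by
  simp only [cr, alpha_add, smul_add, add_smul]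
  abel

theorem cr_add_left (P Q R : ℚ[X]) : cr d (P + Q) R = cr d P R + cr d Q R := by
  simp only [cr, alpha_add, smul_add, add_smul]
  abel

theorem cr_left_self (A C : ℚ[X]) : cr d A (A + C) = cr d A C := by
  rw [cr_add_right, cr_self, zero_add]

theorem cr_right_self (A C : ℚ[X]) : cr d (A + C) C = cr d A C := by
  rw [cr_add_left, cr_self, add_zero]

theorem cr_trans_eq (P Q R : ℚ[X]) : StabCat.alpha d Q • cr d P R =
    StabCat.alpha d R • cr d P Q + StabCat.alpha d P • cr d Q R := by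
  simp only [cr, smul_sub, smul_smul]
  module

variable {d}

theorem nn_cr_trans {P Q R : ℚ[X]} (hP : 0 ≤ StabCat.alpha d P) (hQ : 0 < StabCat.alpha d Q)
    (hR : 0 ≤ StabCat.alpha d R) (h₁ : NN (cr d P Q)) (h₂ : NN (cr d Q R)) : NN (cr d P R) := by
  rw [← nn_smul_iff hQ, cr_trans_eq]
  exact (h₁.smul hR).add (h₂.smul hP)

theorem pp_cr_trans_left {P Q R : ℚ[X]} (hP : 0 ≤ StabCat.alpha d P) (hQ : 0 < StabCat.alpha d Q)
    (hR : 0 < StabCat.alpha d R) (h₁ : PP (cr d P Q)) (h₂ : NN (cr d Q R)) : PP (cr d P R) := by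
  rw [← pp_smul_iff hQ, cr_trans_eq]
  exact (h₁.smul hR).add_nn (h₂.smul hP)

theorem pp_cr_trans_right {P Q R : ℚ[X]} (hP : 0 < StabCat.alpha d P) (hQ : 0 < StabCat.alpha d Q)
    (hR : 0 ≤ StabCat.alpha d R) (h₁ : NN (cr d P Q)) (h₂ : PP (cr d Q R)) : PP (cr d P R) := by
  rw [← pp_smul_iff hQ, cr_trans_eq]
  exact (h₁.smul hR).add_pp (h₂.smul hP)

theorem cr_of_alpha_eq_zero {P T : ℚ[X]} (hT : StabCat.alpha d T = 0) :
    cr d P T = StabCat.alpha d P • T := by
  simp [cr, hT]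

theorem alpha_pos_of_natDegree_eq {P : ℚ[X]} (hP : PP P) (h : P.natDegree = d) :
    0 < StabCat.alpha d P := by
  rw [StabCat.alpha, ← h]
  exact mul_pos (by exact_mod_cast Nat.factorial_pos _) hP

theorem alpha_nonneg_of_natDegree_le {P : ℚ[X]} (hP : NN P) (h : P.natDegree ≤ d) :
    0 ≤ StabCat.alpha d P := by
  rcases eq_or_lt_of_le h with e | e
  · rw [StabCat.alpha, ← e]
    exact mul_nonneg (by positivity) hP
  · rw [StabCat.alpha, coeff_eq_zero_of_natDegree_lt e, mul_zero]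

theorem alpha_eq_zero_iff {P : ℚ[X]} (hP0 : P ≠ 0) (h : P.natDegree ≤ d) :
    StabCat.alpha d P = 0 ↔ P.natDegree < d := by
  refine ⟨fun h0 => lt_of_le_of_ne h fun e => hP0 ?_, fun e => ?_⟩
  · rw [StabCat.alpha, ← e, mul_eq_zero] at h0
    exact leadingCoeff_eq_zero.mp (h0.resolve_left (by exact_mod_cast (Nat.factorial_pos _).ne'))
  · rw [StabCat.alpha, coeff_eq_zero_of_natDegree_lt e, mul_zero]

/-- The multiplicity of an integer valued polynomial is an integer. -/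
theorem exists_alpha_eq_int : ∀ (d : ℕ) {P : ℚ[X]}, P.natDegree ≤ d →
    (∀ m : ℕ, ∃ z : ℤ, P.eval (m : ℚ) = z) → ∃ z : ℤ, StabCat.alpha d P = z := by
  intro d
  induction d with
  | zero =>
    intro P hP h
    obtain ⟨z, hz⟩ := h 0
    refine ⟨z, ?_⟩
    rw [eq_C_of_natDegree_eq_zero (Nat.le_zero.mp hP), eval_C] at hz
    simp [StabCat.alpha, hz]
  | succ d ih =>
    intro P hP h
    have hd : (hasseDeriv d P).natDegree ≤ 1 := (natDegree_hasseDeriv_le P d).trans (by omega)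
    have hdeg : (taylor 1 P - P).natDegree ≤ d := by
      by_cases h0 : taylor 1 P - P = 0
      · simp [h0]
      · have := natDegree_lt_of_taylor_sub_ne_zero h0
        omega
    obtain ⟨z, hz⟩ := ih hdeg fun m => by
      obtain ⟨a, ha⟩ := h (m + 1)
      obtain ⟨b, hb⟩ := h m
      exact ⟨a - b, by push_cast at ha ⊢; rw [eval_sub, taylor_eval, ha, hb]⟩
    refine ⟨z, ?_⟩
    rw [← hz, StabCat.alpha, StabCat.alpha, coeff_sub, taylor_coeff,
      eq_X_add_C_of_natDegree_le_one hd, eval_add, eval_mul, eval_C, eval_X, eval_C,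
      hasseDeriv_coeff, hasseDeriv_coeff, zero_add, Nat.choose_self, Nat.cast_one, one_mul,
      add_sub_cancel_right, mul_one, Nat.add_comm 1 d, Nat.choose_succ_self_right,
      Nat.factorial_succ]
    push_cast
    ring

end Groth.HilbStab
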