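import Groth.Agent.HilbStab.Degree
import Groth.Agent.HilbStab.Cmp
import Groth.Agent.SpectralTopology.Dim

/-!
# Hilbert polynomials of submodules and quotients of pure modules
-/

set_option autoImplicit false

universe u

open CategoryTheory CategoryTheory.Limits AlgebraicGeometry
open Groth.PicAux

namespace Groth.HilbStab

variable (k : Type u) [Field k] {X : Scheme.{u}} [X.Over (Spec (CommRingCat.of k))]
  [IsProper (X ↘ Spec (CommRingCat.of k))] {L : X.Modules} (hL : CohB1.IsAmple L)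

include k hL in
/-- Everything about the Hilbert polynomial of a coherent module at once. -/
theorem exists_hp {F : X.Modules} (hF : Coh.IsCoh F) :
    ∃ P, ShStab.IsHilbPoly k X L F P ∧ NN P := by
  obtain ⟨P, hP⟩ := exists_isHilbPoly k X hL hF
  refine ⟨P, hP, ?_⟩
  by_cases h : IsZero F
  · rw [eq_zero_of_isZero k h hP]; exact nn_zero
  · exact PP.nn (leadingCoeff_pos k hL hF h hP)

include hL in
theorem pp_of_not_isZero {F : X.Modules} (hF : Coh.IsCoh F) (h0 : ¬ IsZero F) {P : Polynomial ℚ}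
    (hP : ShStab.IsHilbPoly k X L F P) : PP P :=
  leadingCoeff_pos k hL hF h0 hP

include hL in
theorem nn_hilbPoly {F : X.Modules} (hF : Coh.IsCoh F) {P : Polynomial ℚ}
    (hP : ShStab.IsHilbPoly k X L F P) : NN P := by
  obtain ⟨Q, hQ, hnn⟩ := exists_hp k hL hF
  rwa [isHilbPoly_unique k hP hQ]

include hL in
theorem natDegree_of_isPure {E F : X.Modules} {d : ℕ} (hp : ShStab.IsPure X E d) (ι : F ⟶ E)
    [Mono ι] (hF : Coh.IsCoh F) (h0 : ¬ IsZero F) {P : Polynomial ℚ}
    (hP : ShStab.IsHilbPoly k X L F P) : P.natDegree = d := by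
  have h1 := natDegree_eq_dim k hL hF h0 hP
  rw [hp F ι inferInstance hF h0] at h1
  exact_mod_cast h1.symm

include hL in
theorem natDegree_le_of_support_subset {E F : X.Modules} {d : ℕ}
    (hdim : topologicalKrullDim (CohB1.support E) ≤ (d : WithBot ℕ∞))
    (hsub : CohB1.support F ⊆ CohB1.support E) (hF : Coh.IsCoh F) {P : Polynomial ℚ}
    (hP : ShStab.IsHilbPoly k X L F P) : P.natDegree ≤ d := by
  by_cases h0 : IsZero F
  · simp [eq_zero_of_isZero k h0 hP]
  · have h1 := (SpectralTopology.dim_le_of_subset hsub).trans hdim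
    rw [natDegree_eq_dim k hL hF h0 hP] at h1
    exact_mod_cast h1

include hL in
theorem alpha_pos_of_isPure {E F : X.Modules} {d : ℕ} (hp : ShStab.IsPure X E d) (ι : F ⟶ E)
    [Mono ι] (hF : Coh.IsCoh F) (h0 : ¬ IsZero F) {P : Polynomial ℚ}
    (hP : ShStab.IsHilbPoly k X L F P) : 0 < StabCat.alpha d P :=
  alpha_pos_of_natDegree_eq (pp_of_not_isZero k hL hF h0 hP) (natDegree_of_isPure k hL hp ι hF h0 hP)

omit [X.Over (Spec (CommRingCat.of k))] [IsProper (X ↘ Spec (CommRingCat.of k))] in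
theorem isPure_of_mono {E F : X.Modules} {d : ℕ} (hp : ShStab.IsPure X E d) (ι : F ⟶ E) [Mono ι] :
    ShStab.IsPure X F d := fun G κ _ hG h0 => hp G (κ ≫ ι) (mono_comp κ ι) hG h0

theorem dim_support_le_of_isPure {E : X.Modules} {d : ℕ} (hE : Coh.IsCoh E)
    (hp : ShStab.IsPure X E d) : topologicalKrullDim (CohB1.support E) ≤ (d : WithBot ℕ∞) := by
  by_cases h0 : IsZero E
  · have : IsEmpty (CohB1.support E) :=
      Set.isEmpty_coe_sort.mpr ((QCohMod.isZero_iff_support_eq_empty E).mp h0)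
    have : IsEmpty (TopologicalSpace.IrreducibleCloseds (CohB1.support E)) :=
      ⟨fun c => IsEmpty.false c.isIrreducible.1.some⟩
    rw [topologicalKrullDim, Order.krullDim_eq_bot]
    exact bot_le
  · exact (hp E (𝟙 E) inferInstance hE h0).le

include hL in
theorem natDegree_quot_le {E G : X.Modules} {d : ℕ} (hE : Coh.IsCoh E)
    (hp : ShStab.IsPure X E d) (q : E ⟶ G) [Epi q] (hG : Coh.IsCoh G) {P : Polynomial ℚ}
    (hP : ShStab.IsHilbPoly k X L G P) : P.natDegree ≤ d :=
  natDegree_le_of_support_subset k hL (dim_support_le_of_isPure hE hp)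
    (KTheory.Devissage.support_subset_of_epi q) hG hP

include hL in
theorem alpha_quot_nonneg {E G : X.Modules} {d : ℕ} (hE : Coh.IsCoh E)
    (hp : ShStab.IsPure X E d) (q : E ⟶ G) [Epi q] (hG : Coh.IsCoh G) {P : Polynomial ℚ}
    (hP : ShStab.IsHilbPoly k X L G P) : 0 ≤ StabCat.alpha d P :=
  alpha_nonneg_of_natDegree_le (nn_hilbPoly k hL hG hP) (natDegree_quot_le k hL hE hp q hG hP)

include hL in
theorem isHilbPoly_kernel_add {E G : X.Modules} (hE : Coh.IsCoh E) (q : E ⟶ G) [Epi q]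
    (hG : Coh.IsCoh G) {PK PE PG : Polynomial ℚ} (hK : ShStab.IsHilbPoly k X L (kernel q) PK)
    (hPE : ShStab.IsHilbPoly k X L E PE) (hPG : ShStab.IsHilbPoly k X L G PG) : PE = PK + PG := by
  have := isLocallyNoetherian k (X := X)
  have := hG.1
  have hS : (ShortComplex.mk (kernel.ι q) q (kernel.condition q)).ShortExact :=
    { exact := ShortComplex.exact_of_f_is_kernel _ (kernelIsKernel q) }
  exact isHilbPoly_add k hL hS (QCohMod.isCoh_kernel q hE) hG hK hPE hPG

include hL in
theorem isHilbPoly_cokernel_add {F E : X.Modules} (hF : Coh.IsCoh F) (ι : F ⟶ E) [Mono ι]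
    (hE : Coh.IsCoh E) {PF PE PC : Polynomial ℚ} (hPF : ShStab.IsHilbPoly k X L F PF)
    (hPE : ShStab.IsHilbPoly k X L E PE) (hC : ShStab.IsHilbPoly k X L (cokernel ι) PC) :
    PE = PF + PC := by
  have := hF.1
  have hS : (ShortComplex.mk ι (cokernel.π ι) (cokernel.condition ι)).ShortExact :=
    { exact := ShortComplex.exact_of_g_is_cokernel _ (cokernelIsCokernel ι) }
  exact isHilbPoly_add k hL hS hF (QCohMod.isCoh_cokernel ι hE) hPF hPE hC

include hL in
theorem isIso_of_mono_of_eq {F E : X.Modules} (hF : Coh.IsCoh F) (ι : F ⟶ E) [Mono ι]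
    (hE : Coh.IsCoh E) {P : Polynomial ℚ} (hPF : ShStab.IsHilbPoly k X L F P)
    (hPE : ShStab.IsHilbPoly k X L E P) : IsIso ι := by
  have := hF.1
  have hC := QCohMod.isCoh_cokernel ι hE
  obtain ⟨PC, hPC⟩ := exists_isHilbPoly k X hL hC
  have h := isHilbPoly_cokernel_add k hL hF ι hE hPF hPE hPC
  have : PC = 0 := by simpa using h.symm
  have : Epi ι := Preadditive.epi_of_cokernel_zero
    ((((eq_zero_iff k hL hC hPC).mp this)).eq_of_tgt _ _)
  exact isIso_of_mono_of_epi ι

include hL in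
theorem isIso_of_epi_of_eq {E G : X.Modules} (hE : Coh.IsCoh E) (q : E ⟶ G) [Epi q]
    (hG : Coh.IsCoh G) {P : Polynomial ℚ} (hPE : ShStab.IsHilbPoly k X L E P)
    (hPG : ShStab.IsHilbPoly k X L G P) : IsIso q := by
  have := isLocallyNoetherian k (X := X)
  have := hG.1
  have hK := QCohMod.isCoh_kernel q hE
  obtain ⟨PK, hPK⟩ := exists_isHilbPoly k X hL hK
  have h := isHilbPoly_kernel_add k hL hE q hG hPK hPE hPG
  have : PK = 0 := by simpa using h
  have : Mono q := Preadditive.mono_of_kernel_zero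
    (((eq_zero_iff k hL hK hPK).mp this).eq_of_src _ _)
  exact isIso_of_mono_of_epi q

end Groth.HilbStab
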