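import Groth.Agent.Ega2Proj.TensorGen
import Groth.Agent.PropsBasic.AmpleSec
import Groth.Agent.QCohMod.QCQS
import Groth.Agent.QCohMod.SupportPullback
import Groth.Agent.KTheory.Devissage
import Groth.Agent.CohTwo.SupportLocal

/-!
# Multiplication by a section of an invertible module
-/

set_option autoImplicit false

universe u

open CategoryTheory CategoryTheory.Limits AlgebraicGeometry Opposite TopologicalSpace
open Groth.PicAux Groth.PropsBasic.Ample

namespace Groth.HilbStab

variable {X : Scheme.{u}}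

/-- A morphism bijective on all small opens near `x` is bijective on the stalk at `x`. -/
theorem stalk_bijective_of_app {M N : X.Modules} (φ : M ⟶ N) {U : X.Opens} {x : X} (hx : x ∈ U)
    (h : ∀ V : X.Opens, V ≤ U → Function.Bijective (φ.app V)) :
    Function.Bijective ((QCohMod.stalk x).map φ) := by
  refine ⟨fun a b hab => ?_, fun b => ?_⟩
  · obtain ⟨V, hxV, s, rfl⟩ := TopCat.Presheaf.exists_germ_eq M.presheaf a
    obtain ⟨W, hxW, t, rfl⟩ := TopCat.Presheaf.exists_germ_eq M.presheaf b
    change (TopCat.Presheaf.stalkFunctor AddCommGrpCat.{u} x).map φ.mapPresheaf _ =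
      (TopCat.Presheaf.stalkFunctor AddCommGrpCat.{u} x).map φ.mapPresheaf _ at hab
    rw [TopCat.Presheaf.stalkFunctor_map_germ_apply, TopCat.Presheaf.stalkFunctor_map_germ_apply] at hab
    obtain ⟨O, hxO, i, j, hij⟩ := TopCat.Presheaf.germ_eq N.presheaf x hxV hxW _ _ hab
    have e : res M (inf_le_left.trans i.le : O ⊓ U ≤ V) s =
        res M (inf_le_left.trans j.le : O ⊓ U ≤ W) t := by
      refine (h (O ⊓ U) inf_le_right).1 ?_
      rw [app_res, app_res, ← res_res (M := N) i.le (inf_le_left : O ⊓ U ≤ O),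
        ← res_res (M := N) j.le (inf_le_left : O ⊓ U ≤ O)]
      exact congrArg _ hij
    exact TopCat.Presheaf.germ_ext M.presheaf (O ⊓ U) ⟨hxO, hx⟩ (homOfLE (inf_le_left.trans i.le))
      (homOfLE (inf_le_left.trans j.le)) e
  · obtain ⟨V, hxV, s, rfl⟩ := TopCat.Presheaf.exists_germ_eq N.presheaf b
    obtain ⟨t, ht⟩ := (h (V ⊓ U) inf_le_right).2 (res N inf_le_left s)
    refine ⟨M.presheaf.germ (V ⊓ U) x ⟨hxV, hx⟩ t, ?_⟩
    refine (TopCat.Presheaf.stalkFunctor_map_germ_apply (V ⊓ U) x ⟨hxV, hx⟩ φ.mapPresheaf t).trans ?_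
    change N.presheaf.germ (V ⊓ U) x ⟨hxV, hx⟩ (φ.app (V ⊓ U) t) = _
    rw [ht]
    exact TopCat.Presheaf.germ_res_apply N.presheaf (homOfLE inf_le_left) x ⟨hxV, hx⟩ s

theorem mono_of_conj {C : Type*} [Category C] {a a' b b' : C} (A : a' ≅ a) (B : b' ≅ b) (f : a ⟶ b)
    (h : Mono (A.hom ≫ f ≫ B.inv)) : Mono f := by
  rw [show f = A.inv ≫ (A.hom ≫ f ≫ B.inv) ≫ B.hom by simp]
  infer_instance

variable {M : X.Modules}

theorem exists_mulSec (s : Γ(M, ⊤)) (F : X.Modules) :
    ∃ φ : F ⟶ CohB1.tensorMod F M, ∀ (V : X.Opens) (a : Γ(F, V)),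
      φ.app V a = tmulSec a (res M (le_top : V ≤ ⊤) s) := by
  let g (V : X.Opens) : Γ(F, V) →+ Γ(CohB1.tensorMod F M, V) :=
    AddMonoidHom.mk' (fun a => tmulSec a (res M (le_top : V ≤ ⊤) s)) fun a b => by
      change ptenUnit F M V ((a + b) ⊗ₜ _) = ptenUnit F M V (a ⊗ₜ _) + ptenUnit F M V (b ⊗ₜ _)
      rw [TensorProduct.add_tmul, map_add]
  let η : F.presheaf ⟶ (CohB1.tensorMod F M).presheaf :=
    { app := fun V => AddCommGrpCat.ofHom (g V.unop)
      naturality := fun V W i => by
        ext a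
        change tmulSec (res F (leOfHom i.unop) a) (res M le_top s) =
          res (CohB1.tensorMod F M) (leOfHom i.unop) (tmulSec a (res M le_top s))
        rw [res_tmulSec, res_res] }
  refine ⟨⟨PresheafOfModules.homMk η ?_⟩, fun V a => rfl⟩
  intro V r a
  have key : ∀ (r : Γ(X, V.unop)) (a : Γ(F, V.unop)), g V.unop (r • a) = r • g V.unop a :=
    fun r a => tmulSec_smul_left r a _
  exact key r a

/-- Multiplication by a global section `F ⟶ F ⊗ M`. -/
noncomputable def mulSec (s : Γ(M, ⊤)) (F : X.Modules) : F ⟶ CohB1.tensorMod F M :=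
  (exists_mulSec s F).choose

theorem mulSec_app (s : Γ(M, ⊤)) (F : X.Modules) (V : X.Opens) (a : Γ(F, V)) :
    (mulSec s F).app V a = tmulSec a (res M (le_top : V ≤ ⊤) s) :=
  (exists_mulSec s F).choose_spec V a

theorem mulSec_app_bijective (s : Γ(M, ⊤)) (F : X.Modules) {V : X.Opens} (hV : V ≤ gloc s) :
    Function.Bijective ((mulSec s F).app V) := by
  have h := Ega2Proj.tmulSec_bijective (M := F) (le_refl V) (gen_gloc s hV)
  have e : ((mulSec s F).app V : Γ(F, V) → Γ(CohB1.tensorMod F M, V)) =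
      fun a => tmulSec a (res M (le_refl V) (res M (le_top : V ≤ ⊤) s)) := funext fun a => by
    rw [mulSec_app, res_self]
  rw [e]
  exact h

theorem mulSec_stalk_bijective (s : Γ(M, ⊤)) (F : X.Modules) {x : X} (hx : x ∈ gloc s) :
    Function.Bijective ((QCohMod.stalk x).map (mulSec s F)) :=
  stalk_bijective_of_app _ hx fun _ hV => mulSec_app_bijective s F hV

theorem mulSec_naturality (s : Γ(M, ⊤)) {F G : X.Modules} (φ : F ⟶ G) :
    φ ≫ mulSec s G = mulSec s F ≫ (DCoh.tensorRightMod M).map φ := by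
  refine hom_ext_cover (U := fun _ : Unit => (⊤ : X.Opens)) (ciSup_const) fun _ V _ a => ?_
  change (mulSec s G).app V (φ.app V a) = ((DCoh.tensorRightMod M).map φ).app V ((mulSec s F).app V a)
  rw [mulSec_app, mulSec_app]
  exact (tensorRightMod_map_tmulSec M φ V a _).symm

theorem support_cokernel_mulSec_subset (s : Γ(M, ⊤)) (F : X.Modules) :
    CohB1.support (cokernel (mulSec s F)) ⊆ (gloc s : Set X)ᶜ := fun x hx h =>
  KTheory.Devissage.subsingleton_cokernel_stalk _ x (mulSec_stalk_bijective s F h).2 hx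

theorem support_kernel_mulSec_subset (s : Γ(M, ⊤)) (F : X.Modules) :
    CohB1.support (kernel (mulSec s F)) ⊆ (gloc s : Set X)ᶜ := fun x hx h => hx <| by
  haveI := (AddCommGrpCat.mono_iff_injective _).2 (mulSec_stalk_bijective s F h).1
  exact AddCommGrpCat.subsingleton_of_isZero
    ((isZero_kernel_of_mono ((QCohMod.stalk x).map (mulSec s F))).of_iso
      (PreservesKernel.iso (QCohMod.stalk x) _))

theorem support_tensorMod_subset (hM : PicF.IsInvertible M) (F : X.Modules) :
    CohB1.support (CohB1.tensorMod F M) ⊆ CohB1.support F := by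
  intro x hx hF
  apply hx
  obtain ⟨U, e, -, hxU, he⟩ := exists_affine_gen_mem hM x
  refine ⟨fun a b => ?_⟩
  suffices key : ∀ a : (CohB1.tensorMod F M).presheaf.stalk x, a = 0 from (key a).trans (key b).symm
  intro a
  obtain ⟨V, hxV, t, rfl⟩ := TopCat.Presheaf.exists_germ_eq _ a
  obtain ⟨y, hy⟩ := (Ega2Proj.tmulSec_bijective (M := F) (inf_le_right : V ⊓ U ≤ U) he).2
    (res _ inf_le_left t)
  have h0 : F.presheaf.germ (V ⊓ U) x ⟨hxV, hxU⟩ y = F.presheaf.germ (V ⊓ U) x ⟨hxV, hxU⟩ 0 :=
    Subsingleton.elim (h := hF) _ _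
  obtain ⟨W, hxW, i, j, hij⟩ := TopCat.Presheaf.germ_eq F.presheaf x _ _ _ _ h0
  have e1 : res (CohB1.tensorMod F M) (i.le.trans inf_le_left : W ≤ V) t = 0 := by
    rw [← res_res (M := CohB1.tensorMod F M) (inf_le_left : V ⊓ U ≤ V) i.le, ← hy, res_tmulSec,
      show res F i.le y = 0 from hij.trans (map_zero _)]
    exact tmulSec_zero_left _
  rw [← TopCat.Presheaf.germ_res_apply (CohB1.tensorMod F M).presheaf
    (homOfLE (i.le.trans inf_le_left)) x hxW t]
  exact (congrArg _ e1).trans (map_zero _)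

/-- Off the generating locus multiplication by the section is not surjective on nonzero stalks. -/
theorem mem_support_cokernel_mulSec (hM : PicF.IsInvertible M) (s : Γ(M, ⊤)) {F : X.Modules}
    (hF : Coh.IsCoh F) {x : X} (hx : x ∈ CohB1.support F) (hs : x ∉ gloc s) :
    x ∈ CohB1.support (cokernel (mulSec s F)) := by
  intro hsub
  apply hx
  haveI := hF.1
  have hsurj : Function.Surjective ((QCohMod.stalk x).map (mulSec s F)) := by
    rw [← AddCommGrpCat.epi_iff_surjective]
    refine Preadditive.epi_of_cokernel_zero ?_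
    haveI : Subsingleton ↑((QCohMod.stalk x).obj (cokernel (mulSec s F))) := hsub
    exact ((AddCommGrpCat.isZero_of_subsingleton _).of_iso
      (PreservesCokernel.iso (QCohMod.stalk x) (mulSec s F)).symm).eq_of_tgt _ _
  obtain ⟨U, e, -, hxU, he⟩ := exists_affine_gen_mem hM x
  obtain ⟨c, hc⟩ := he.exists_coeff le_rfl (res M (le_top : U ≤ ⊤) s)
  rw [res_self] at hc
  have hcx : X.presheaf.germ U x hxU c ∈ IsLocalRing.maximalIdeal (X.presheaf.stalk x) := by
    rw [IsLocalRing.mem_maximalIdeal, mem_nonunits_iff, ← X.mem_basicOpen c x hxU]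
    intro hmem
    rw [← gloc_inf_eq_basicOpen he hc] at hmem
    exact hs hmem.1
  haveI := QCohMod.finite_stalk F hF.2 x
  have key : (⊤ : Submodule (X.presheaf.stalk x) (F.presheaf.stalk x)) ≤
      IsLocalRing.maximalIdeal (X.presheaf.stalk x) • ⊤ := by
    intro g _
    obtain ⟨V, hxV, a, rfl⟩ := TopCat.Presheaf.exists_germ_eq F.presheaf g
    obtain ⟨b₀, hb₀⟩ := hsurj ((CohB1.tensorMod F M).presheaf.germ (V ⊓ U) x ⟨hxV, hxU⟩
      (tmulSec (res F inf_le_left a) (res M inf_le_right e)))
    obtain ⟨W, hxW, b, rfl⟩ := TopCat.Presheaf.exists_germ_eq F.presheaf b₀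
    change (TopCat.Presheaf.stalkFunctor AddCommGrpCat.{u} x).map (mulSec s F).mapPresheaf _ = _ at hb₀
    rw [TopCat.Presheaf.stalkFunctor_map_germ_apply] at hb₀
    obtain ⟨O, hxO, i, j, hij⟩ := TopCat.Presheaf.germ_eq _ x _ _ _ _ hb₀
    have hij' : res (CohB1.tensorMod F M) i.le ((mulSec s F).app W b) =
        res (CohB1.tensorMod F M) j.le (tmulSec (res F inf_le_left a) (res M inf_le_right e)) := hij
    have hOU : O ≤ U := j.le.trans inf_le_right
    have h1 : res M (le_top : O ≤ ⊤) s = resX X hOU c • res M hOU e := by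
      rw [← res_smul, ← hc, res_res]
    rw [mulSec_app, res_tmulSec, res_tmulSec, res_res, res_res, res_res, h1, tmulSec_smul_right,
      ← tmulSec_smul_left] at hij'
    have h2 : resX X hOU c • res F i.le b = res F (j.le.trans inf_le_left) a :=
      (Ega2Proj.tmulSec_bijective (M := F) hOU he).1 hij'
    rw [← TopCat.Presheaf.germ_res_apply F.presheaf (homOfLE (j.le.trans inf_le_left)) x hxO a]
    change F.presheaf.germ O x hxO (res F (j.le.trans inf_le_left) a) ∈ _
    rw [← h2]
    erw [PresheafOfModules.germ_smul F.val x O hxO (resX X hOU c) (res F i.le b)]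
    refine Submodule.smul_mem_smul ?_ trivial
    exact (congrArg (· ∈ IsLocalRing.maximalIdeal (X.presheaf.stalk x))
      (TopCat.Presheaf.germ_res_apply X.presheaf (homOfLE hOU) x hxO c)).mpr hcx
  have := Submodule.eq_bot_of_le_smul_of_le_jacobson_bot (IsLocalRing.maximalIdeal (X.presheaf.stalk x))
    (⊤ : Submodule (X.presheaf.stalk x) (F.presheaf.stalk x)) Module.Finite.fg_top key
    (IsLocalRing.maximalIdeal_le_jacobson _)
  exact (Submodule.subsingleton_iff _).mp (subsingleton_of_bot_eq_top this.symm)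

variable [IsLocallyNoetherian X]

/-- Remove the sections supported off a quasi-compact open: a coherent quotient, unchanged on the
open, on which multiplication by any section invertible on the open is injective. -/
theorem exists_quotient_injective {F : X.Modules} (hF : Coh.IsCoh F) (s : Γ(M, ⊤))
    (hqc : QuasiCompact (gloc s).ι) :
    ∃ (G : X.Modules) (q : F ⟶ G), Epi q ∧ Coh.IsCoh G ∧
      (∀ x ∈ gloc s, x ∈ CohB1.support F → x ∈ CohB1.support G) ∧ Mono (mulSec s G) := by
  haveI := hF.1
  haveI := hqc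
  let η : F ⟶ (Scheme.Modules.pushforward (gloc s).ι).obj
      ((Scheme.Modules.restrictFunctor (gloc s).ι).obj F) :=
    (Scheme.Modules.restrictAdjunction (gloc s).ι).unit.app F
  haveI hq1 : ((Scheme.Modules.restrictFunctor (gloc s).ι).obj F).IsQuasicoherent :=
    inferInstance
  haveI hq2 : ((Scheme.Modules.pushforward (gloc s).ι).obj
      ((Scheme.Modules.restrictFunctor (gloc s).ι).obj F)).IsQuasicoherent :=
    QCohMod.isQCoh_pushforward _ (gloc s).ι
  have hK : Coh.IsCoh (kernel η) := QCohMod.isCoh_kernel η hF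
  haveI := hK.1
  have hG : Coh.IsCoh (Abelian.coimage η) := QCohMod.isCoh_cokernel (kernel.ι η) hF
  refine ⟨Abelian.coimage η, Abelian.coimage.π η, inferInstance, hG, fun x hx hxF hxG => ?_, ?_⟩
  · apply hxF
    have hinj : Function.Injective ((QCohMod.stalk x).map η) := by
      have h := CohTwo.restrict_stalk_map η (gloc s) ⟨x, hx⟩
      have hsplit : Function.Injective ((QCohMod.stalk (⟨x, hx⟩ : (gloc s : Scheme.{u}))).map
          ((Scheme.Modules.restrictFunctor (gloc s).ι).map η)) := by
        haveI : IsSplitMono ((Scheme.Modules.restrictFunctor (gloc s).ι).map η) :=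
          IsSplitMono.mk' ⟨(Scheme.Modules.restrictAdjunction (gloc s).ι).counit.app _,
            Adjunction.left_triangle_components _ _⟩
        exact (AddCommGrpCat.mono_iff_injective _).1 inferInstance
      rw [h] at hsplit
      have hm := (AddCommGrpCat.mono_iff_injective _).2 hsplit
      have hm := (AddCommGrpCat.mono_iff_injective _).2 hsplit
      exact (AddCommGrpCat.mono_iff_injective _).1 (mono_of_conj
        ((Scheme.Modules.restrictStalkNatIso (gloc s).ι ⟨x, hx⟩).app _)
        ((Scheme.Modules.restrictStalkNatIso (gloc s).ι ⟨x, hx⟩).app _) _ hm)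
    have hinj' : Function.Injective ((QCohMod.stalk x).map (Abelian.coimage.π η)) := fun a b hab =>
      hinj (by
        rw [← Abelian.coimage.fac η, Functor.map_comp, ConcreteCategory.comp_apply,
          ConcreteCategory.comp_apply, hab])
    exact @Function.Injective.subsingleton _ _ _ hinj' hxG
  · refine Preadditive.mono_of_kernel_zero ?_
    let m := Abelian.factorThruCoimage η
    have hmono : Mono m := inferInstance
    have hz : IsZero ((Scheme.Modules.restrictFunctor (gloc s).ι).obj (kernel (mulSec s (Abelian.coimage η)))) :=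
      (QCohMod.isZero_iff_stalk _).2 fun y => CohTwo.subsingleton_stalk_restrict _ _ y
        fun hy => support_kernel_mulSec_subset s _ hy y.2
    rw [← cancel_mono m, zero_comp]
    exact ((Scheme.Modules.restrictAdjunction (gloc s).ι).homEquiv _ _).symm.injective
      (hz.eq_of_src _ _)

end Groth.HilbStab
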