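import Groth.Agent.HilbStab.Morph
import Groth.Agent.Misc1.TorSh
import Groth.Agent.RefRank.Stalk
import Groth.Agent.RefRank.HomSec
import Groth.Agent.CohTwo.SupportLocal

/-!
# Torsion-free modules are pure
-/

set_option autoImplicit false

universe u

open CategoryTheory CategoryTheory.Limits AlgebraicGeometry
open Groth.PicAux

namespace Groth.HilbStab

variable {X : Scheme.{u}} [IsIntegral X]

/-- A nonzero coherent submodule of a torsion-free module has full support. -/
theorem support_eq_univ_of_mono {A F : X.Modules} [F.IsQuasicoherent]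
    (hF : _root_.TorSh.IsTorsionFree F) (ι : A ⟶ F) [Mono ι] (hA : Coh.IsCoh A) (h0 : ¬ IsZero A) :
    CohB1.support A = Set.univ := by
  have hη : genericPoint X ∈ CohB1.support A := by
    intro hsub
    refine h0 ((QCohMod.isZero_iff_support_eq_empty A).mpr (Set.eq_empty_iff_forall_notMem.mpr ?_))
    refine fun x hx => hx ⟨fun a b => ?_⟩
    suffices key : ∀ a : A.presheaf.stalk x, a = 0 from (key a).trans (key b).symm
    intro a
    obtain ⟨U, hxU, s, rfl⟩ := TopCat.Presheaf.exists_germ_eq A.presheaf a
    have hs : s = 0 := by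
      refine QCohMod.app_injective_of_mono ι U ?_
      rw [map_zero]
      refine Misc1.TorSh.eq_zero_of_germ F _ fun y hy => ?_
      refine Misc1.TorSh.germ_eq_zero_of_generic F hF hy _ ?_
      have h : RefHull.stalkMapₗ ι (genericPoint X) (A.presheaf.germ U _ (Misc1.TorSh.generic_mem hy) s)
          = 0 := by rw [Subsingleton.elim (A.presheaf.germ U _ (Misc1.TorSh.generic_mem hy) s) 0, map_zero]
      rw [RefHull.stalkMapₗ_germ] at h
      exact h
    rw [hs, map_zero]
  refine Set.eq_univ_of_forall fun x => ?_
  exact (CohTwo.isClosed_support A hA).closure_subset_iff.mpr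
    (Set.singleton_subset_iff.mpr hη) ((genericPoint_spec X).def ▸ Set.mem_univ x)

/-- Torsion-free modules on an integral scheme are pure of its dimension. -/
theorem isPure_of_isTorsionFree {F : X.Modules} [F.IsQuasicoherent]
    (hF : _root_.TorSh.IsTorsionFree F) {n : ℕ} (hX : topologicalKrullDim X = (n : WithBot ℕ∞)) :
    ShStab.IsPure X F n := by
  intro A ι hι hA h0
  rw [support_eq_univ_of_mono hF ι hA h0, ← hX]
  exact (Homeomorph.Set.univ X).isInducing.topologicalKrullDim_le.antisymm
    (Homeomorph.Set.univ X).symm.isInducing.topologicalKrullDim_le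

/-- Reflexive coherent modules on an integral locally Noetherian scheme are torsion-free. -/
theorem isTorsionFree_of_isReflexive [IsLocallyNoetherian X] {F : X.Modules} (hF : Coh.IsCoh F)
    (hr : RefHull.IsReflexive F) : _root_.TorSh.IsTorsionFree F := by
  have hs : Coh.IsCoh (Coh.structureModule X) := QCohMod.isCoh_unit
  have hd : Coh.IsCoh (RefHull.dual F) := RefRank.isCoh_homSh hF hs
  haveI := hd.1
  haveI := hs.1
  haveI : IsIso (RefHull.bidualMap F) := hr
  have htf : _root_.TorSh.IsTorsionFree (RefHull.ddual F) :=
    RefRank.isTorsionFree_homSh hd.2 (by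
      intro x
      exact Function.Injective.moduleIsTorsionFree (RefRank.oneEquiv x).symm
        (RefRank.oneEquiv x).symm.injective (map_smul _))
  intro x
  have := htf x
  have h1 : IsIso ((Scheme.Modules.toPresheaf X).map (RefHull.bidualMap F)) := inferInstance
  have h2 : IsIso ((TopCat.Presheaf.stalkFunctor Ab x).map
      ((Scheme.Modules.toPresheaf X).map (RefHull.bidualMap F))) := inferInstance
  refine Function.Injective.moduleIsTorsionFree (RefHull.stalkMapₗ (RefHull.bidualMap F) x) ?_
    (map_smul _)
  exact (AddCommGrpCat.mono_iff_injective ((TopCat.Presheaf.stalkFunctor Ab x).map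
    ((Scheme.Modules.toPresheaf X).map (RefHull.bidualMap F)))).mp inferInstance

end Groth.HilbStab
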