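import Groth.Agent.HilbStab.Morph
import Mathlib.LinearAlgebra.Eigenspace.Triangularizable

/-!
# Endomorphisms of stable modules over an algebraically closed field
-/

set_option autoImplicit false

universe u

open CategoryTheory CategoryTheory.Limits AlgebraicGeometry Opposite TopologicalSpace
open Groth.PicAux

namespace Groth.HilbStab

variable {X : Scheme.{u}}

theorem exists_scalar (g : Γ(X, ⊤)) (M : X.Modules) :
    ∃ φ : M ⟶ M, ∀ (V : X.Opens) (a : Γ(M, V)), φ.app V a = resX X (le_top : V ≤ ⊤) g • a := by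
  let h (V : X.Opens) : Γ(M, V) →+ Γ(M, V) :=
    AddMonoidHom.mk' (fun a => resX X (le_top : V ≤ ⊤) g • a) fun a b => smul_add _ _ _
  let η : M.presheaf ⟶ M.presheaf :=
    { app := fun V => AddCommGrpCat.ofHom (h V.unop)
      naturality := fun V W i => by
        ext a
        exact (show ∀ a : Γ(M, V.unop), resX X (le_top : W.unop ≤ ⊤) g • res M (leOfHom i.unop) a =
          res M (leOfHom i.unop) (resX X (le_top : V.unop ≤ ⊤) g • a) from fun a => by
            rw [res_smul, resX_resX]) a }
  refine ⟨⟨PresheafOfModules.homMk η ?_⟩, fun V a => rfl⟩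
  intro V r a
  have key : ∀ (r : Γ(X, V.unop)) (a : Γ(M, V.unop)), h V.unop (r • a) = r • h V.unop a :=
    fun r a => smul_comm _ _ _
  exact key r a

/-- Multiplication by a global function. -/
noncomputable def scalar (g : Γ(X, ⊤)) (M : X.Modules) : M ⟶ M := (exists_scalar g M).choose

theorem scalar_app (g : Γ(X, ⊤)) (M : X.Modules) (V : X.Opens) (a : Γ(M, V)) :
    (scalar g M).app V a = resX X (le_top : V ≤ ⊤) g • a :=
  (exists_scalar g M).choose_spec V a

theorem tensor_scalar (g : Γ(X, ⊤)) (M N : X.Modules) :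
    (DCoh.tensorRightMod N).map (scalar g M) = scalar g (CohB1.tensorMod M N) :=
  tensor_hom_ext (L := M) (M := N) fun W a l => by
    refine (tensorRightMod_map_tmulSec N (scalar g M) W a l).trans ?_
    rw [scalar_app, tmulSec_smul_left]
    exact (scalar_app g _ W _).symm

variable (k : Type u) [Field k] [X.Over (Spec (CommRingCat.of k))]
  [IsProper (X ↘ Spec (CommRingCat.of k))] {L : X.Modules} (hL : CohB1.IsAmple L)

include hL in
/-- If all nonzero endomorphisms are invertible, all endomorphisms are scalars. -/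
theorem exists_eq_scalar [IsAlgClosed k] {E : X.Modules} (hE : Coh.IsCoh E) (h0 : ¬ IsZero E)
    (h : ∀ ψ : E ⟶ E, ψ ≠ 0 → IsIso ψ) (φ : E ⟶ E) :
    ∃ c : k, φ = scalar (Coh.toGlobal (X ↘ Spec (CommRingCat.of k)) c) E := by
  obtain ⟨P, hP⟩ := exists_isHilbPoly k X hL hE
  obtain ⟨N, hN⟩ := exists_one_le_eval k hL hE h0 hP
  obtain ⟨N', hN'⟩ := exists_eval_eq_h0 k hL hE hP
  let m := max N N'
  let f := X ↘ Spec (CommRingCat.of k)
  let F := DCoh.tensorRightMod (CohB1.tensorPow L m)
  haveI : Module.Finite k (CohFin.HA f (F.obj E) 0) :=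
    EulerDeg.finite_HH k X (isCoh_twist hL hE m) 0
  haveI : Nontrivial (CohFin.HA f (F.obj E) 0) := by
    refine Module.nontrivial_of_finrank_pos (R := k) ?_
    have h1 := hN m (le_max_left _ _)
    rw [hN' m (le_max_right _ _)] at h1
    exact_mod_cast lt_of_lt_of_le one_pos h1
  obtain ⟨c, hc⟩ := Module.End.exists_eigenvalue (CohFin.mapL f (F.map φ) 0)
  obtain ⟨v, hv⟩ := hc.exists_hasEigenvector
  refine ⟨c, sub_eq_zero.mp (by_contra fun hne => hv.2 ?_)⟩
  haveI := h _ hne
  let g : Γ(X, ⊤) := Coh.toGlobal f c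
  have e : (F.map (φ - scalar g E)).app ⊤ (CohFin.equivSections f (F.obj E) v) = 0 := by
    have hadd : F.map (φ - scalar g E) = F.map φ - scalar g (F.obj E) := by
      rw [eq_sub_iff_add_eq, show scalar g (F.obj E) = F.map (scalar g E) from
        (tensor_scalar g E _).symm]
      refine tensor_hom_ext (L := E) fun W a l => ?_
      change (F.map (φ - scalar g E)).app W (tmulSec a l) + (F.map (scalar g E)).app W (tmulSec a l) =
        (F.map φ).app W (tmulSec a l)
      rw [tensorRightMod_map_tmulSec, tensorRightMod_map_tmulSec, tensorRightMod_map_tmulSec]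
      refine (tmulSec_add_left _ _ _).symm.trans ?_
      exact congrArg (fun z => tmulSec z l) (sub_add_cancel (φ.app W a) ((scalar g E).app W a))
    rw [hadd]
    change (F.map φ).app ⊤ _ - (scalar g (F.obj E)).app ⊤ _ = 0
    rw [scalar_app, ← CohFin.equivSections_mapL, hv.apply_eq_smul, CohFin.equivSections_smul,
      sub_eq_zero]
    congr 1
    exact (resX_self _ g).symm
  refine (CohFin.equivSections f (F.obj E)).injective ?_
  rw [map_zero]
  have e' := congrArg ((inv (F.map (φ - scalar g E))).app ⊤) e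
  rw [map_zero] at e'
  refine Eq.trans ?_ e'
  exact congr(($(IsIso.hom_inv_id (F.map (φ - scalar g E)))).app ⊤
    (CohFin.equivSections f (F.obj E) v)).symm

end Groth.HilbStab
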