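import Groth.Agent.HilbStab.Dict

/-!
# Filtrations as series and as chains
-/

set_option autoImplicit false

universe u

open CategoryTheory CategoryTheory.Limits AlgebraicGeometry
open Groth.PicAux

namespace Groth.HilbStab

namespace PolyLattice

variable {α : Type u} [Lattice α] {d : ℕ} {S : PolyLattice α d}

theorem isHN_ofFn : ∀ {n : ℕ} (c : Fin (n + 1) → α),
    (∀ i : Fin n, S.SS (c i.castSucc) (c i.succ)) →
    (∀ i j : Fin n, i.val + 1 = j.val →
      PP (cr d (S.Q (c j.castSucc) (c j.succ)) (S.Q (c i.castSucc) (c i.succ)))) →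
    S.IsHN (c 0) (c (Fin.last n)) (List.ofFn fun i : Fin n => c i.succ)
  | 0, c, _, _ => by simp [IsHN]
  | n + 1, c, hss, hpp => by
    rw [List.ofFn_succ]
    refine ⟨by simpa using hss 0, ?_, ?_⟩
    · intro c' hc'
      cases n with
      | zero => simp at hc'
      | succ m =>
        rw [List.ofFn_succ] at hc'
        simp only [List.head?_cons, Option.mem_def, Option.some.injEq] at hc'
        subst hc'
        simpa using hpp 0 1 rfl
    · have := isHN_ofFn (fun i : Fin (n + 1) => c i.succ) (fun i => by simpa using hss i.succ)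
        (fun i j h => by simpa using hpp i.succ j.succ (by simp [← h]))
      simpa using this

theorem exists_fn_of_isHN : ∀ {l : List α} {a b : α}, S.IsHN a b l →
    ∃ (n : ℕ) (c : Fin (n + 1) → α), c 0 = a ∧ c (Fin.last n) = b ∧
      (l = List.ofFn fun i : Fin n => c i.succ) ∧
      (∀ i : Fin n, S.SS (c i.castSucc) (c i.succ)) ∧
      (∀ i j : Fin n, i.val + 1 = j.val →
        PP (cr d (S.Q (c j.castSucc) (c j.succ)) (S.Q (c i.castSucc) (c i.succ))))
  | [], a, b, h => ⟨0, fun _ => a, rfl, h, by simp, fun i => i.elim0, fun i => i.elim0⟩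
  | x :: l, a, b, ⟨hss, hdec, htl⟩ => by
    obtain ⟨n, c, h0, hlast, hl, hs, hp⟩ := exists_fn_of_isHN htl
    refine ⟨n + 1, Fin.cons a c, rfl, by simpa [← Fin.succ_last] using hlast, ?_, ?_, ?_⟩
    · rw [List.ofFn_succ]
      simp [h0, hl]
    · intro i
      cases i using Fin.cases with
      | zero => simpa [h0] using hss
      | succ i => simpa [Fin.castSucc_succ, ← Fin.succ_castSucc] using hs i
    · intro i j hij
      cases j using Fin.cases with
      | zero => simp at hij
      | succ j =>
        cases i using Fin.cases with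
        | zero =>
          cases n with
          | zero => exact j.elim0
          | succ m =>
            obtain rfl : j = 0 := Fin.ext (by simpa using hij.symm)
            have := hdec (c (0 : Fin (m + 1)).succ) (by rw [hl, List.ofFn_succ]; simp)
            simp only [Fin.cons_succ, Fin.cons_zero, Fin.castSucc_zero, ← Fin.succ_castSucc, h0] at this ⊢
            exact this
        | succ i =>
          have := hp i j (by simpa using hij)
          simpa [← Fin.succ_castSucc] using this

theorem isJH_ofFn (p : Polynomial ℚ) : ∀ {n : ℕ} (c : Fin (n + 1) → α),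
    (∀ i : Fin n, S.St (c i.castSucc) (c i.succ) ∧
      cr d (S.Q (c i.castSucc) (c i.succ)) p = 0) →
    S.IsJH p (c 0) (c (Fin.last n)) (List.ofFn fun i : Fin n => c i.succ)
  | 0, c, _ => by simp [IsJH]
  | n + 1, c, h => by
    rw [List.ofFn_succ]
    refine ⟨by simpa using (h 0).1, by simpa using (h 0).2, ?_⟩
    have := isJH_ofFn p (fun i : Fin (n + 1) => c i.succ) (fun i => by simpa using h i.succ)
    simpa using this

theorem exists_fn_of_isJH (p : Polynomial ℚ) : ∀ {l : List α} {a b : α}, S.IsJH p a b l →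
    ∃ (n : ℕ) (c : Fin (n + 1) → α), c 0 = a ∧ c (Fin.last n) = b ∧
      (∀ i : Fin n, S.St (c i.castSucc) (c i.succ) ∧
        cr d (S.Q (c i.castSucc) (c i.succ)) p = 0)
  | [], a, b, h => ⟨0, fun _ => a, rfl, h, fun i => i.elim0⟩
  | x :: l, a, b, ⟨hst, hcr, htl⟩ => by
    obtain ⟨n, c, h0, hlast, hs⟩ := exists_fn_of_isJH p htl
    refine ⟨n + 1, Fin.cons a c, rfl, by simpa [← Fin.succ_last] using hlast, ?_⟩
    intro i
    cases i using Fin.cases with
    | zero => simpa [h0] using And.intro hst hcr
    | succ i => simpa [← Fin.succ_castSucc] using hs i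

end PolyLattice

variable {k : Type u} [Field k] {X : Scheme.{u}} [X.Over (Spec (CommRingCat.of k))]
  [IsProper (X ↘ Spec (CommRingCat.of k))] [IsLocallyNoetherian X] {E : X.Modules}

/-- The terms of a series with coherent factors starting at `⊥` are coherent. -/
theorem isCoh_series (hE : Coh.IsCoh E) (s : LTSeries (Subobject E)) (h0 : s.head = ⊥)
    (hf : ∀ i : Fin s.length, Coh.IsCoh (StabCat.factor s i)) (i : Fin (s.length + 1)) :
    Coh.IsCoh ((s i : Subobject E) : X.Modules) := by
  induction i using Fin.induction with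
  | zero =>
    rw [show s 0 = ⊥ from h0]
    exact isCoh_bot E hE
  | succ i ih =>
    let ι := Subobject.ofLE (s i.castSucc) (s i.succ) (le_of_lt (s.step i))
    have hS : (ShortComplex.mk ι (cokernel.π ι) (cokernel.condition ι)).ShortExact :=
      { exact := ShortComplex.exact_of_g_is_cokernel _ (cokernelIsCokernel ι) }
    haveI : (ShortComplex.mk ι (cokernel.π ι) (cokernel.condition ι)).X₁.IsQuasicoherent := ih.1
    haveI : (ShortComplex.mk ι (cokernel.π ι) (cokernel.condition ι)).X₃.IsQuasicoherent := (hf i).1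
    haveI := CohTwo.QCohExt.isQCoh_of_shortExact hS
    exact QCohMod.isCoh_of_shortExact hS ih (hf i)

/-- A strictly increasing chain of coherent submodules as a series. -/
def toSeries {hE : Coh.IsCoh E} {n : ℕ} (c : Fin (n + 1) → cohSub E hE)
    (h : ∀ i : Fin n, c i.castSucc < c i.succ) : LTSeries (Subobject E) where
  length := n
  toFun i := (c i).1
  step i := show (c i.castSucc).1 < (c i.succ).1 from h i

variable (k) {L : X.Modules} (hL : CohB1.IsAmple L) {d : ℕ} (hE : Coh.IsCoh E)
  (hp : ShStab.IsPure X E d)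

/-- Harder–Narasimhan series give chains. -/
theorem isHN_of_series (s : LTSeries (Subobject E)) (hs : ShStab.IsHNFiltration k X L E d s) :
    ∃ c : Fin (s.length + 1) → cohSub E hE, (∀ i, (c i).1 = s i) ∧
      (subLattice k hL hE hp).IsHN (cBot hE) (cTop hE)
        (List.ofFn fun i : Fin s.length => c i.succ) := by
  obtain ⟨h0, h1, hf, hdec⟩ := hs
  let c : Fin (s.length + 1) → cohSub E hE := fun i =>
    ⟨s i, isCoh_series hE s h0 (fun i => (hf i).1) i⟩
  have hle : ∀ i : Fin s.length, c i.castSucc ≤ c i.succ := fun i => le_of_lt (s.step i)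
  refine ⟨c, fun _ => rfl, ?_⟩
  have e0 : c 0 = cBot hE := Subtype.ext h0
  have e1 : c (Fin.last _) = cTop hE := Subtype.ext h1
  rw [← e0, ← e1]
  refine PolyLattice.isHN_ofFn c (fun i => (ss_iff k hL hE hp (hle i)).mpr (hf i)) fun i j h => ?_
  exact (redLT_iff d).mp (hdec i j h _ _ (isHilbPoly_fac' k hL hE hp (hle i))
    (isHilbPoly_fac' k hL hE hp (hle j)))

/-- Harder–Narasimhan chains give series. -/
theorem exists_series_of_isHN {l : List (cohSub E hE)}
    (hl : (subLattice k hL hE hp).IsHN (cBot hE) (cTop hE) l) :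
    ∃ s : LTSeries (Subobject E), ShStab.IsHNFiltration k X L E d s := by
  obtain ⟨n, c, h0, h1, -, hss, hpp⟩ := PolyLattice.exists_fn_of_isHN hl
  refine ⟨toSeries c fun i => (hss i).1, congrArg Subtype.val h0, congrArg Subtype.val h1,
    fun i => (ss_iff k hL hE hp (hss i).1.le).mp (hss i), fun i j h p q hP hQ => ?_⟩
  rw [isHilbPoly_unique k hP (isHilbPoly_fac' k hL hE hp (hss i).1.le),
    isHilbPoly_unique k hQ (isHilbPoly_fac' k hL hE hp (hss j).1.le)]
  exact (redLT_iff d).mpr (hpp i j h)

include hL hE hp in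
theorem hnFiltration_unique (s t : LTSeries (Subobject E))
    (hs : ShStab.IsHNFiltration k X L E d s) (ht : ShStab.IsHNFiltration k X L E d t) : s = t := by
  obtain ⟨c, hc, hcl⟩ := isHN_of_series k hL hE hp s hs
  obtain ⟨e, he, hel⟩ := isHN_of_series k hL hE hp t ht
  have hl := hcl.unique hel
  have hlen : s.length = t.length := by simpa using congrArg List.length hl
  obtain ⟨n, f, hf⟩ := s
  obtain ⟨m, g, hg⟩ := t
  subst hlen
  have hfg := List.ofFn_inj.mp hl
  obtain rfl : f = g := funext fun i => by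
    cases i using Fin.cases with
    | zero => exact hs.1.trans ht.1.symm
    | succ i => exact (hc i.succ).symm.trans ((congrArg Subtype.val (congrFun hfg i)).trans (he i.succ))
  rfl

/-- Jordan–Hölder chains give series. -/
theorem exists_series_of_isJH {p : Polynomial ℚ} (hP : ShStab.IsHilbPoly k X L E p)
    {l : List (cohSub E hE)} (hl : (subLattice k hL hE hp).IsJH p (cBot hE) (cTop hE) l) :
    ∃ s : LTSeries (Subobject E), ShStab.IsJHFiltration k X L E d s := by
  obtain ⟨n, c, h0, h1, h⟩ := PolyLattice.exists_fn_of_isJH p hl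
  refine ⟨toSeries c fun i => (h i).1.1, congrArg Subtype.val h0, congrArg Subtype.val h1,
    fun i => ⟨(st_iff k hL hE hp (h i).1.1.le).mp (h i).1, fun P q hPi hq => ?_⟩⟩
  rw [isHilbPoly_unique k hPi (isHilbPoly_fac' k hL hE hp (h i).1.1.le), isHilbPoly_unique k hq hP]
  exact (redEq_iff d).mpr (h i).2

end Groth.HilbStab

namespace Groth.HilbStab

variable {X : Scheme.{u}} (k : Type u) [Field k] [X.Over (Spec (CommRingCat.of k))]
  [IsProper (X ↘ Spec (CommRingCat.of k))] [IsLocallyNoetherian X] {L E : X.Modules}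
  (hL : CohB1.IsAmple L) {d : ℕ}

theorem isHilbPoly_top (hE : Coh.IsCoh E) :
    ShStab.IsHilbPoly k X L E (subPoly k hL (cTop hE)) :=
  isHilbPoly_iso k (asIso (⊤ : Subobject E).arrow) (isHilbPoly_subPoly k hL (cTop hE))

theorem ss_top (h : ShStab.IsSemistable k X L E d) :
    (subLattice k hL h.1 h.2.2.1).SS (cBot h.1) (cTop h.1) := by
  refine ⟨cBot_lt_cTop h.1 h.2.1, pure_subLattice k hL h.1 h.2.2.1, fun C hC hCt => ?_⟩
  rw [Q_cBot, Q_cBot]
  refine (redLE_iff d).mp (h.2.2.2 _ C.1.arrow inferInstance C.2 (fun hz => hC.ne ?_) (fun hi => ?_)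
    _ _ (isHilbPoly_subPoly k hL C) (isHilbPoly_top k hL h.1))
  · refine (subLattice k hL h.1 h.2.2.1).eq_of_le_of_Q_eq_zero hC.le ?_
    rw [Q_cBot]
    exact eq_zero_of_isZero k hz (isHilbPoly_subPoly k hL C)
  · exact hCt.ne (Subtype.ext (Subobject.eq_top_of_isIso_arrow C.1))

theorem compactSpace_of_proper (k : Type u) [Field k] (X : Scheme.{u})
    [X.Over (Spec (CommRingCat.of k))] [IsProper (X ↘ Spec (CommRingCat.of k))] : CompactSpace X :=
  QuasiCompact.compactSpace_of_compactSpace (X ↘ Spec (CommRingCat.of k))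

end Groth.HilbStab
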