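import Groth.Agent.HilbStab.Lattice
import Groth.Agent.HilbStab.Pure
import Groth.Agent.QCohMod.Affine
import Groth.Agent.CohTwo.QCohExt
import Mathlib.CategoryTheory.Subobject.Lattice
import Mathlib.Data.DFinsupp.WellFounded

/-!
# The lattice of coherent submodules and its Hilbert polynomials
-/

set_option autoImplicit false

universe u

open CategoryTheory CategoryTheory.Limits AlgebraicGeometry TopologicalSpace
open Groth.PicAux

namespace Groth.HilbStab

variable {X : Scheme.{u}}

/-- A monomorphism of quasi-coherent modules bijective on an affine cover is an isomorphism. -/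
theorem isIso_of_mono_of_surjective {M N : X.Modules} [M.IsQuasicoherent] [N.IsQuasicoherent]
    (φ : M ⟶ N) [Mono φ] {ι : Type*} (U : ι → X.Opens) (hU : ∀ i, IsAffineOpen (U i))
    (hcov : ∀ x, ∃ i, x ∈ U i) (h : ∀ i, Function.Surjective (φ.app (U i))) : IsIso φ := by
  have : Epi φ := by
    refine Preadditive.epi_of_cokernel_zero (IsZero.eq_of_tgt ?_ _ _)
    rw [QCohMod.isZero_iff_support_eq_empty, Set.eq_empty_iff_forall_notMem]
    intro x hx
    obtain ⟨i, hi⟩ := hcov x
    rw [QCohMod.mem_support_iff _ (hU i) x hi] at hx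
    have : Subsingleton Γ(cokernel φ, U i) := by
      refine ⟨fun a b => ?_⟩
      suffices key : ∀ c : Γ(cokernel φ, U i), c = 0 from (key a).trans (key b).symm
      intro c
      obtain ⟨t, rfl⟩ := QCohMod.app_surjective_of_epi (cokernel.π φ) (hU i) c
      obtain ⟨m, rfl⟩ := h i t
      change (φ ≫ cokernel.π φ).app (U i) m = 0
      rw [cokernel.condition]
      rfl
    rw [Module.mem_support_iff'] at hx
    obtain ⟨m, hm⟩ := hx
    exact hm 1 (Ideal.ne_top_iff_one _ |>.mp (Ideal.IsPrime.ne_top inferInstance))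
      (Subsingleton.elim _ _)
  exact isIso_of_mono_of_epi φ

section Lattice

variable (E : X.Modules) [IsLocallyNoetherian X]

omit [IsLocallyNoetherian X] in
theorem exists_epi_sup (A B : Subobject E) :
    ∃ q : (A : X.Modules) ⊞ (B : X.Modules) ⟶ ((A ⊔ B : Subobject E) : X.Modules),
      Epi q ∧ q ≫ (A ⊔ B).arrow = biprod.desc A.arrow B.arrow ∧
        Nonempty (kernel q ≅ ((A ⊓ B : Subobject E) : X.Modules)) := by
  let φ := biprod.desc A.arrow B.arrow
  have him : imageSubobject φ = A ⊔ B := by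
    refine le_antisymm ?_ (sup_le ?_ ?_)
    · exact imageSubobject_le φ
        (biprod.desc (Subobject.ofLE A _ le_sup_left) (Subobject.ofLE B _ le_sup_right))
        (biprod.hom_ext' _ _ (by simp [φ]) (by simp [φ]))
    · exact Subobject.le_of_comm (biprod.inl ≫ factorThruImageSubobject φ) (by simp [φ])
    · exact Subobject.le_of_comm (biprod.inr ≫ factorThruImageSubobject φ) (by simp [φ])
  obtain ⟨q, _, hq⟩ : ∃ q : (A : X.Modules) ⊞ (B : X.Modules) ⟶ ((A ⊔ B : Subobject E) : X.Modules),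
      Epi q ∧ q ≫ (A ⊔ B).arrow = φ :=
    ⟨factorThruImageSubobject φ ≫ (Subobject.isoOfEq _ _ him).hom, epi_comp _ _, by simp⟩
  refine ⟨q, inferInstance, hq, ⟨?_⟩⟩
  have hk : (kernel.ι q ≫ biprod.fst) ≫ A.arrow + (kernel.ι q ≫ biprod.snd) ≫ B.arrow = 0 := by
    have h : kernel.ι q ≫ φ = 0 := by
      rw [← hq, kernel.condition_assoc, zero_comp]
    rw [Category.assoc, Category.assoc, ← Preadditive.comp_add, ← biprod.desc_eq]
    exact h
  refine
    { hom := (A ⊓ B).factorThru (kernel.ι q ≫ biprod.fst ≫ A.arrow) ?_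
      inv := kernel.lift q
        (biprod.lift (Subobject.ofLE (A ⊓ B) A inf_le_left)
          (- Subobject.ofLE (A ⊓ B) B inf_le_right)) ?_
      hom_inv_id := ?_
      inv_hom_id := ?_ }
  · refine (Subobject.inf_factors _).mpr ⟨?_, ?_⟩
    · rw [← Category.assoc]; exact Subobject.factors_comp_arrow _
    · have h0 : kernel.ι q ≫ biprod.fst ≫ A.arrow = (- (kernel.ι q ≫ biprod.snd)) ≫ B.arrow := by
        rw [Preadditive.neg_comp, eq_neg_iff_add_eq_zero, ← Category.assoc]
        exact hk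
      rw [h0]
      exact Subobject.factors_comp_arrow _
  · rw [← cancel_mono (A ⊔ B).arrow, Category.assoc, hq, zero_comp]
    refine (biprod.lift_desc).trans ?_
    rw [Preadditive.neg_comp, Subobject.ofLE_arrow, Subobject.ofLE_arrow, add_neg_cancel]
  · rw [← cancel_mono (kernel.ι q), Category.assoc, kernel.lift_ι, Category.id_comp]
    refine biprod.hom_ext _ _ ?_ ?_
    · rw [← cancel_mono A.arrow]
      simp
    · rw [← cancel_mono B.arrow]
      simp only [Category.assoc, biprod.lift_snd, Preadditive.neg_comp, Preadditive.comp_neg,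
        Subobject.ofLE_arrow, Subobject.factorThru_arrow]
      rw [neg_eq_iff_add_eq_zero]
      simpa using hk
  · rw [← cancel_mono (A ⊓ B).arrow]
    simp

theorem isCoh_sup {A B : Subobject E} (hE : Coh.IsCoh E) (hA : Coh.IsCoh (A : X.Modules))
    (hB : Coh.IsCoh (B : X.Modules)) : Coh.IsCoh ((A ⊔ B : Subobject E) : X.Modules) := by
  haveI := hE.1
  haveI := hA.1
  haveI := hB.1
  let φ := biprod.desc A.arrow B.arrow
  have h : imageSubobject φ = A ⊔ B := by
    refine le_antisymm ?_ (sup_le ?_ ?_)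
    · exact imageSubobject_le φ
        (biprod.desc (Subobject.ofLE A _ le_sup_left) (Subobject.ofLE B _ le_sup_right))
        (biprod.hom_ext' _ _ (by simp [φ]) (by simp [φ]))
    · exact Subobject.le_of_comm (biprod.inl ≫ factorThruImageSubobject φ) (by simp [φ])
    · exact Subobject.le_of_comm (biprod.inr ≫ factorThruImageSubobject φ) (by simp [φ])
  rw [← h]
  have hi : Coh.IsCoh (Limits.image φ) := by
    have := QCohMod.isQCoh_cokernel φ
    exact QCohMod.isCoh_of_iso ((Abelian.imageIsoImage φ))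
      (QCohMod.isCoh_kernel (cokernel.π φ) hE)
  exact QCohMod.isCoh_of_iso (imageSubobjectIso φ).symm hi

theorem isCoh_inf {A B : Subobject E} (hE : Coh.IsCoh E) (hA : Coh.IsCoh (A : X.Modules))
    (hB : Coh.IsCoh (B : X.Modules)) : Coh.IsCoh ((A ⊓ B : Subobject E) : X.Modules) := by
  haveI := hE.1
  haveI := hB.1
  let ψ := A.arrow ≫ cokernel.π B.arrow
  haveI := QCohMod.isQCoh_cokernel B.arrow
  refine QCohMod.isCoh_of_iso ?_ (QCohMod.isCoh_kernel ψ hA)
  have hB' : B.Factors (kernel.ι ψ ≫ A.arrow) := by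
    let S : ShortComplex X.Modules :=
      ShortComplex.mk B.arrow (cokernel.π B.arrow) (cokernel.condition _)
    have hS : S.Exact := ShortComplex.exact_of_g_is_cokernel _ (cokernelIsCokernel B.arrow)
    haveI : Mono S.f := inferInstanceAs (Mono B.arrow)
    obtain ⟨l, hl⟩ := KernelFork.IsLimit.lift' hS.fIsKernel (kernel.ι ψ ≫ A.arrow) (by
      change (kernel.ι ψ ≫ A.arrow) ≫ cokernel.π B.arrow = 0
      rw [Category.assoc]
      exact kernel.condition ψ)
    exact (Subobject.factors_iff _ _).mpr ⟨l, hl⟩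
  exact
    { hom := (A ⊓ B).factorThru (kernel.ι ψ ≫ A.arrow)
        ((Subobject.inf_factors _).mpr ⟨Subobject.factors_comp_arrow _, hB'⟩)
      inv := kernel.lift ψ (Subobject.ofLE (A ⊓ B) A inf_le_left) (by
        simp only [ψ, Subobject.ofLE_arrow_assoc]
        rw [← Subobject.ofLE_arrow (inf_le_right : A ⊓ B ≤ B), Category.assoc, cokernel.condition,
          comp_zero])
      hom_inv_id := by
        rw [← cancel_mono (kernel.ι ψ), ← cancel_mono A.arrow]
        simp
      inv_hom_id := by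
        rw [← cancel_mono (A ⊓ B).arrow]
        simp }

theorem isCoh_bot (hE : Coh.IsCoh E) : Coh.IsCoh ((⊥ : Subobject E) : X.Modules) := by
  haveI := hE.1
  exact QCohMod.isCoh_of_iso (IsZero.iso (isZero_kernel_of_mono (𝟙 E))
    ((isZero_zero _).of_iso Subobject.botCoeIsoZero)) (QCohMod.isCoh_kernel _ hE)

/-- The sublattice of coherent submodules. -/
def cohSub (hE : Coh.IsCoh E) : Sublattice (Subobject E) where
  carrier := {A | Coh.IsCoh (A : X.Modules)}
  supClosed' _ hA _ hB := isCoh_sup E hE hA hB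
  infClosed' _ hA _ hB := isCoh_inf E hE hA hB

variable {E} (hE : Coh.IsCoh E)

theorem mem_cohSub {A : Subobject E} : A ∈ cohSub E hE ↔ Coh.IsCoh (A : X.Modules) := Iff.rfl

theorem isCoh_top (hE : Coh.IsCoh E) : Coh.IsCoh ((⊤ : Subobject E) : X.Modules) :=
  QCohMod.isCoh_of_iso (asIso (⊤ : Subobject E).arrow).symm hE

/-- The whole module, as a coherent submodule. -/
noncomputable def cTop : cohSub E hE := ⟨⊤, isCoh_top hE⟩

/-- The zero submodule, as a coherent submodule. -/
noncomputable def cBot : cohSub E hE := ⟨⊥, isCoh_bot E hE⟩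

theorem wellFoundedGT_cohSub [CompactSpace X] : WellFoundedGT (cohSub E hE) := by
  haveI := hE.1
  obtain ⟨t, ht⟩ := isCompact_univ.elim_finite_subcover
    (fun V : X.affineOpens => (V.1 : Set X)) (fun V => V.1.2) fun x _ => by
      obtain ⟨U, hU, hx⟩ := QCohMod.exists_affine_mem x
      exact Set.mem_iUnion.mpr ⟨⟨U, hU⟩, hx⟩
  haveI : ∀ V : t, IsNoetherian Γ(X, V.1.1) Γ(E, V.1.1) := fun V => by
    haveI := QCohMod.finite_sections E hE.2 V.1.2
    haveI : IsNoetherianRing Γ(X, V.1.1) := IsLocallyNoetherian.component_noetherian V.1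
    exact isNoetherian_of_isNoetherianRing_of_finite _ _
  let r : cohSub E hE → ∀ V : t, Submodule Γ(X, V.1.1) Γ(E, V.1.1) := fun A V =>
    LinearMap.range (QCohMod.appₗ (A.1).arrow V.1.1)
  have hr : StrictMono r := by
    intro A B hAB
    have hle : ∀ V, r A V ≤ r B V := fun V => by
      rintro _ ⟨a, rfl⟩
      refine ⟨(Subobject.ofLE A.1 B.1 hAB.le).app V.1.1 a, ?_⟩
      exact congr(($(Subobject.ofLE_arrow (show A.1 ≤ B.1 from hAB.le))).app V.1.1 a)
    refine lt_of_le_of_ne hle fun e => ?_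
    haveI : ((A.1 : Subobject E) : X.Modules).IsQuasicoherent := A.2.1
    haveI : ((B.1 : Subobject E) : X.Modules).IsQuasicoherent := B.2.1
    have : IsIso (Subobject.ofLE A.1 B.1 hAB.le) := by
      refine isIso_of_mono_of_surjective _ (fun V : t => V.1.1) (fun V => V.1.2) (fun x => ?_)
        fun V b => ?_
      · obtain ⟨V, hV, hxV⟩ := Set.mem_iUnion₂.mp (ht (Set.mem_univ x))
        exact ⟨⟨V, hV⟩, hxV⟩
      · obtain ⟨a, ha⟩ : QCohMod.appₗ (B.1).arrow V.1.1 b ∈ r A V := by
          rw [congrFun e V]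
          exact ⟨b, rfl⟩
        refine ⟨a, QCohMod.app_injective_of_mono (B.1).arrow V.1.1 ?_⟩
        exact (congr(($(Subobject.ofLE_arrow (show A.1 ≤ B.1 from hAB.le))).app V.1.1 a)).trans ha
    exact hAB.ne (Subtype.ext (Subobject.eq_of_comm (asIso (Subobject.ofLE A.1 B.1 hAB.le))
      (Subobject.ofLE_arrow _)))
  haveI : ∀ V : t, WellFoundedGT (Submodule Γ(X, V.1.1) Γ(E, V.1.1)) := fun V => inferInstance
  haveI : WellFoundedGT (∀ V : t, Submodule Γ(X, V.1.1) Γ(E, V.1.1)) :=
    inferInstanceAs (WellFoundedLT (∀ V : t, (Submodule Γ(X, V.1.1) Γ(E, V.1.1))ᵒᵈ))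
  exact hr.wellFoundedGT

variable {hE}

/-- The factor of an inclusion. -/
noncomputable abbrev fac {A B : Subobject E} (h : A ≤ B) : X.Modules :=
  cokernel (Subobject.ofLE A B h)

theorem mono_facMap {A C B : Subobject E} (h₁ : A ≤ C) (h₂ : C ≤ B) :
    ∃ m : fac h₁ ⟶ fac (h₁.trans h₂), Mono m := by
  let m : fac h₁ ⟶ fac (h₁.trans h₂) := cokernel.map _ _ (𝟙 _) (Subobject.ofLE C B h₂) (by simp)
  refine ⟨m, Preadditive.mono_of_cancel_zero m fun {W} ψ hψ => ?_⟩
  let π := cokernel.π (Subobject.ofLE A C h₁)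
  let S : ShortComplex X.Modules :=
    ShortComplex.mk (Subobject.ofLE A B (h₁.trans h₂)) (cokernel.π _) (cokernel.condition _)
  have hS : S.Exact := ShortComplex.exact_of_g_is_cokernel _ (cokernelIsCokernel _)
  haveI : Mono S.f := inferInstanceAs (Mono (Subobject.ofLE A B _))
  have hw : (pullback.snd ψ π ≫ Subobject.ofLE C B h₂) ≫ S.g = 0 := by
    have h := cokernel.π_desc (Subobject.ofLE A C h₁)
      (Subobject.ofLE C B h₂ ≫ cokernel.π (Subobject.ofLE A B (h₁.trans h₂))) (by simp)
    rw [Category.assoc]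
    change pullback.snd ψ π ≫ Subobject.ofLE C B h₂ ≫ _ = 0
    rw [← h]
    change pullback.snd ψ π ≫ π ≫ m = 0
    rw [← Category.assoc, ← pullback.condition, Category.assoc, hψ, comp_zero]
  obtain ⟨l, hl⟩ := KernelFork.IsLimit.lift' hS.fIsKernel _ hw
  rw [← cancel_epi (pullback.fst ψ π), comp_zero, pullback.condition]
  have e : pullback.snd ψ π = l ≫ Subobject.ofLE A C h₁ := by
    rw [← cancel_mono (Subobject.ofLE C B h₂), Category.assoc, Subobject.ofLE_comp_ofLE]
    exact hl.symm
  rw [e, Category.assoc, cokernel.condition, comp_zero]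

theorem isIso_iff_eq {A B : Subobject E} (h : A ≤ B) :
    IsIso (Subobject.ofLE A B h) ↔ A = B := by
  refine ⟨fun _ => Subobject.eq_of_comm (asIso (Subobject.ofLE A B h)) (Subobject.ofLE_arrow _),
    ?_⟩
  rintro rfl
  rw [Subobject.ofLE_refl]
  infer_instance

section HP

variable (k : Type u) [Field k] [X.Over (Spec (CommRingCat.of k))]
  [IsProper (X ↘ Spec (CommRingCat.of k))] {L : X.Modules} (hL : CohB1.IsAmple L)

/-- The Hilbert polynomial of a coherent submodule. -/
noncomputable def subPoly (A : cohSub E hE) : Polynomial ℚ :=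
  (exists_isHilbPoly k X hL A.2).choose

theorem isHilbPoly_subPoly (A : cohSub E hE) :
    ShStab.IsHilbPoly k X L (A.1 : X.Modules) (subPoly k hL A) :=
  (exists_isHilbPoly k X hL A.2).choose_spec

theorem isCoh_fac {A B : cohSub E hE} (h : A ≤ B) :
    Coh.IsCoh (fac (show A.1 ≤ B.1 from h)) := by
  haveI := A.2.1
  exact QCohMod.isCoh_cokernel _ B.2

include hL in
theorem isHilbPoly_fac {A B : cohSub E hE} (h : A ≤ B) :
    ShStab.IsHilbPoly k X L (fac (show A.1 ≤ B.1 from h)) (subPoly k hL B - subPoly k hL A) := by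
  obtain ⟨P, hP⟩ := exists_isHilbPoly k X hL (isCoh_fac h)
  have := isHilbPoly_cokernel_add k hL A.2 (Subobject.ofLE A.1 B.1 h) B.2
    (isHilbPoly_subPoly k hL A) (isHilbPoly_subPoly k hL B) hP
  rw [this, add_sub_cancel_left]
  exact hP

theorem not_isZero_fac {A B : cohSub E hE} (h : A < B) :
    ¬ IsZero (fac (show A.1 ≤ B.1 from h.le)) := fun hz => h.ne <| by
  haveI : Epi (Subobject.ofLE A.1 B.1 h.le) :=
    Preadditive.epi_of_cokernel_zero (hz.eq_of_tgt _ _)
  exact Subtype.ext ((isIso_iff_eq _).mp (isIso_of_mono_of_epi _))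

include hL in
theorem subPoly_modular (hE : Coh.IsCoh E) (A B : cohSub E hE) :
    subPoly k hL (A ⊔ B) + subPoly k hL (A ⊓ B) = subPoly k hL A + subPoly k hL B := by
  obtain ⟨q, _, -, ⟨ek⟩⟩ := exists_epi_sup (E := E) A.1 B.1
  have hAB : Coh.IsCoh ((A.1 : X.Modules) ⊞ (B.1 : X.Modules)) := QCohMod.isCoh_biprod A.2 B.2
  obtain ⟨pAB, hpAB⟩ := exists_isHilbPoly k X hL hAB
  have h1 := isHilbPoly_kernel_add k hL hAB q (A ⊔ B).2
    (isHilbPoly_iso k ek.symm (isHilbPoly_subPoly k hL (A ⊓ B))) hpAB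
    (isHilbPoly_subPoly k hL (A ⊔ B))
  have hS : (ShortComplex.mk (biprod.inl : (A.1 : X.Modules) ⟶ _ ⊞ (B.1 : X.Modules)) biprod.snd
      (by simp)).ShortExact :=
    ShortComplex.Splitting.shortExact { r := biprod.fst, s := biprod.inr }
  have h2 := isHilbPoly_add k hL hS A.2 B.2 (isHilbPoly_subPoly k hL A) hpAB
    (isHilbPoly_subPoly k hL B)
  rw [← h2, h1, add_comm]

variable {d : ℕ} (hdim : topologicalKrullDim (CohB1.support E) ≤ (d : WithBot ℕ∞))

/-- Coherent submodules with their Hilbert polynomials. -/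
noncomputable def polyLattice (hE : Coh.IsCoh E) : PolyLattice (cohSub E hE) d where
  P := subPoly k hL
  pp_of_lt {A B} h :=
    pp_of_not_isZero k hL (isCoh_fac h.le) (not_isZero_fac h) (isHilbPoly_fac k hL h.le)
  natDegree_le {A B} h :=
    natDegree_le_of_support_subset k hL hdim
      ((KTheory.Devissage.support_subset_of_epi (cokernel.π _)).trans
        (KTheory.Devissage.support_subset_of_mono B.1.arrow))
      (isCoh_fac h) (isHilbPoly_fac k hL h)
  modular A B := subPoly_modular k hL hE A B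
  integral A m := ⟨_, (isHilbPoly_subPoly k hL A m).symm⟩

end HP

end Lattice

end Groth.HilbStab
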