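import Groth.Agent.HilbStab.Pure

/-!
# Morphisms between semistable modules
-/

set_option autoImplicit false

universe u

open CategoryTheory CategoryTheory.Limits AlgebraicGeometry
open Groth.PicAux

namespace Groth.HilbStab

variable (k : Type u) [Field k] {X : Scheme.{u}} [X.Over (Spec (CommRingCat.of k))]
  [IsProper (X ↘ Spec (CommRingCat.of k))] {L : X.Modules} (hL : CohB1.IsAmple L)
  {d : ℕ} {E G : X.Modules} {φ : E ⟶ G} {pE pG : Polynomial ℚ}

include hL in
/-- The image of a nonzero morphism out of a semistable module. -/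
theorem image_facts (hE : ShStab.IsSemistable k X L E d) (hG : ShStab.IsSemistable k X L G d)
    (hpE : ShStab.IsHilbPoly k X L E pE) (hpG : ShStab.IsHilbPoly k X L G pG) (hφ : φ ≠ 0) :
    ∃ pI : Polynomial ℚ, 0 < StabCat.alpha d pE ∧ 0 < StabCat.alpha d pI ∧
      0 < StabCat.alpha d pG ∧ NN (cr d pE pI) ∧ NN (cr d pI pG) ∧
      (ShStab.IsStable k X L E d → ¬ Mono φ → PP (cr d pE pI)) ∧
      (ShStab.IsStable k X L G d → ¬ Epi φ → PP (cr d pI pG)) := by
  obtain ⟨hEc, hE0, hEp, hEs⟩ := hE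
  obtain ⟨hGc, hG0, hGp, hGs⟩ := hG
  have := isLocallyNoetherian k (X := X)
  have := hEc.1
  have := hGc.1
  have hC := QCohMod.isCoh_cokernel φ hGc
  have := hC.1
  have hI : Coh.IsCoh (Abelian.image φ) := QCohMod.isCoh_kernel (cokernel.π φ) hGc
  have hI0 : ¬ IsZero (Abelian.image φ) := fun h => hφ (by
    rw [← Abelian.image.fac φ, h.eq_of_src (Abelian.image.ι φ) 0, comp_zero])
  obtain ⟨pI, hpI⟩ := exists_isHilbPoly k X hL hI
  have hαI : 0 < StabCat.alpha d pI := alpha_pos_of_isPure k hL hGp (Abelian.image.ι φ) hI hI0 hpI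
  refine ⟨pI, alpha_pos_of_isPure k hL hEp (𝟙 E) hEc hE0 hpE, hαI,
    alpha_pos_of_isPure k hL hGp (𝟙 G) hGc hG0 hpG, ?_⟩
  let q : E ⟶ Abelian.image φ := Abelian.factorThruImage φ
  have := hI.1
  have hK := QCohMod.isCoh_kernel q hEc
  obtain ⟨pK, hpK⟩ := exists_isHilbPoly k X hL hK
  have hsum := isHilbPoly_kernel_add k hL hEc q hI hpK hpE hpI
  have hKiso : ¬ IsIso (kernel.ι q) := fun h => hφ (by
    have e : q = 0 := by rw [← cancel_epi (kernel.ι q), kernel.condition, comp_zero]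
    rw [← Abelian.image.fac φ]
    change q ≫ _ = 0
    rw [e, zero_comp])
  have cK : cr d pE pI = cr d pK pE := by rw [hsum, cr_right_self, cr_left_self]
  refine ⟨?_, ?_, fun hst hm => ?_, fun hst he => ?_⟩
  · rw [cK]
    by_cases h0 : IsZero (kernel q)
    · rw [eq_zero_of_isZero k h0 hpK]
      simp [cr, StabCat.alpha, nn_zero]
    · exact (redLE_iff d).mp (hEs _ (kernel.ι q) inferInstance hK h0 hKiso pK pE hpK hpE)
  · by_cases h0 : IsIso (Abelian.image.ι φ)
    · have := isHilbPoly_iso k (asIso (Abelian.image.ι φ)) hpI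
      rw [isHilbPoly_unique k this hpG, cr_self]
      exact nn_zero
    · exact (redLE_iff d).mp (hGs _ (Abelian.image.ι φ) inferInstance hI hI0 h0 pI pG hpI hpG)
  · rw [cK]
    refine (redLT_iff d).mp (hst.2.2.2 _ (kernel.ι q) inferInstance hK (fun h0 => hm ?_) hKiso
      pK pE hpK hpE)
    have : Mono q := Preadditive.mono_of_kernel_zero (h0.eq_of_src _ _)
    rw [← Abelian.image.fac φ]
    exact mono_comp q _
  · refine (redLT_iff d).mp (hst.2.2.2 _ (Abelian.image.ι φ) inferInstance hI hI0 (fun h0 => he ?_)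
      pI pG hpI hpG)
    rw [← Abelian.image.fac φ]
    exact epi_comp q _

include hL in
theorem hom_eq_zero_of_redLT (hE : ShStab.IsSemistable k X L E d)
    (hG : ShStab.IsSemistable k X L G d) (hpE : ShStab.IsHilbPoly k X L E pE)
    (hpG : ShStab.IsHilbPoly k X L G pG) (hlt : StabCat.RedLT d pG pE) : φ = 0 := by
  by_contra hφ
  obtain ⟨pI, h1, h2, h3, h4, h5, -⟩ := image_facts k hL hE hG hpE hpG hφ
  have := nn_cr_trans h1.le h2 h3.le h4 h5
  rw [redLT_iff, cr_swap, pp_neg_iff] at hlt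
  exact hlt this

include hL in
theorem mono_of_stable_source (hE : ShStab.IsStable k X L E d) (hE' : ShStab.IsSemistable k X L E d)
    (hG : ShStab.IsSemistable k X L G d) (hpE : ShStab.IsHilbPoly k X L E pE)
    (hpG : ShStab.IsHilbPoly k X L G pG) (heq : StabCat.RedEq d pE pG) (hφ : φ ≠ 0) : Mono φ := by
  by_contra hm
  obtain ⟨pI, h1, h2, h3, -, h5, h6, -⟩ := image_facts k hL hE' hG hpE hpG hφ
  have := pp_cr_trans_left h1.le h2 h3 (h6 hE hm) h5
  rw [(redEq_iff d).mp heq] at this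
  exact not_pp_zero this

include hL in
theorem epi_of_stable_target (hG : ShStab.IsStable k X L G d) (hE : ShStab.IsSemistable k X L E d)
    (hG' : ShStab.IsSemistable k X L G d) (hpE : ShStab.IsHilbPoly k X L E pE)
    (hpG : ShStab.IsHilbPoly k X L G pG) (heq : StabCat.RedEq d pE pG) (hφ : φ ≠ 0) : Epi φ := by
  by_contra he
  obtain ⟨pI, h1, h2, h3, h4, -, -, h7⟩ := image_facts k hL hE hG' hpE hpG hφ
  have := pp_cr_trans_right h1 h2 h3.le h4 (h7 hG he)
  rw [(redEq_iff d).mp heq] at this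
  exact not_pp_zero this

omit [IsProper (X ↘ Spec (CommRingCat.of k))] in
theorem isSemistable_of_isStable (hE : ShStab.IsStable k X L E d) :
    ShStab.IsSemistable k X L E d :=
  ⟨hE.1, hE.2.1, hE.2.2.1, fun F ι hι hF h0 hi pF pE' h h' =>
    (redLE_iff d).mpr ((redLT_iff d).mp (hE.2.2.2 F ι hι hF h0 hi pF pE' h h')).nn⟩

include hL in
theorem isIso_of_semistable (hE : ShStab.IsSemistable k X L E d)
    (hG : ShStab.IsSemistable k X L G d)
    (hst : ShStab.IsStable k X L E d ∨ ShStab.IsStable k X L G d)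
    (hpE : ShStab.IsHilbPoly k X L E pE) (hpG : ShStab.IsHilbPoly k X L G pE) (hφ : φ ≠ 0) :
    IsIso φ := by
  have heq : StabCat.RedEq d pE pE := rfl
  rcases hst with h | h
  · have := mono_of_stable_source k hL h hE hG hpE hpG heq hφ
    exact isIso_of_mono_of_eq k hL hE.1 φ hG.1 hpE hpG
  · have := epi_of_stable_target k hL h hE hG hpE hpG heq hφ
    exact isIso_of_epi_of_eq k hL hE.1 φ hG.1 hpE hpG

include hL in
theorem isIso_endo_of_stable (hE : ShStab.IsStable k X L E d) {ψ : E ⟶ E} (hψ : ψ ≠ 0) :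
    IsIso ψ := by
  obtain ⟨P, hP⟩ := exists_isHilbPoly k X hL hE.1
  exact isIso_of_semistable k hL (isSemistable_of_isStable k hE) (isSemistable_of_isStable k hE)
    (Or.inl hE) hP hP hψ

end Groth.HilbStab
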