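import Groth.Agent.HilbStab.Exists
import Groth.Agent.Chow.QcohExtend
import Groth.Agent.QCohMod.Category
import Mathlib.Analysis.Polynomial.Basic

/-!
# Additivity and positivity of Hilbert polynomials
-/

set_option autoImplicit false

universe u

open CategoryTheory CategoryTheory.Limits AlgebraicGeometry
open Groth.PicAux

namespace Groth.HilbStab

theorem poly_ext_nat {P Q : Polynomial ℚ} (h : ∀ m : ℕ, P.eval (m : ℚ) = Q.eval (m : ℚ)) : P = Q :=
  Polynomial.eq_of_infinite_eval_eq _ _
    ((Set.infinite_range_of_injective Nat.cast_injective).mono (by rintro _ ⟨m, rfl⟩; exact h m))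

/-- A globally generated module without global sections is zero. -/
theorem isZero_of_isGloballyGenerated {X : Scheme.{u}} {M : X.Modules}
    (h : Curv2.IsGloballyGenerated M) (h0 : Subsingleton Γ(M, ⊤)) : IsZero M := by
  obtain ⟨ι, p, hp⟩ := h
  let F : X.Modules := SheafOfModules.free ι
  let q : F ⟶ M := p
  haveI : Epi q := hp
  have hq : q = 0 := by
    refine Cofan.IsColimit.hom_ext (SheafOfModules.isColimitFreeCofan (R := X.ringCatSheaf) ι) _ _
      fun i => ?_
    exact hom_structure_ext (X := X) (M := M) (h0.elim _ _)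
  exact IsZero.of_epi_eq_zero q hq

variable (k : Type u) [Field k] {X : Scheme.{u}} [X.Over (Spec (CommRingCat.of k))]
  {L : X.Modules}

theorem isHilbPoly_unique {F : X.Modules} {P Q : Polynomial ℚ}
    (hP : ShStab.IsHilbPoly k X L F P) (hQ : ShStab.IsHilbPoly k X L F Q) : P = Q :=
  poly_ext_nat fun m => (hP m).symm.trans (hQ m)

theorem isHilbPoly_iso {F G : X.Modules} (e : F ≅ G) {P : Polynomial ℚ}
    (hP : ShStab.IsHilbPoly k X L F P) : ShStab.IsHilbPoly k X L G P := fun m => by
  rw [← hP m]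
  exact congrArg _ (EulerDeg.euler_congr k (PicGrp.tensorModIso e.symm (Iso.refl _)))

variable [IsProper (X ↘ Spec (CommRingCat.of k))] (hL : CohB1.IsAmple L)

omit [X.Over (Spec (CommRingCat.of k))] [IsProper (X ↘ Spec (CommRingCat.of k))] in
include hL in
theorem isCoh_twist {F : X.Modules} (hF : Coh.IsCoh F) (m : ℕ) :
    Coh.IsCoh (ShStab.twist X L F m) :=
  RefRank.isCoh_tensorMod hF ⟨isQCoh_of_isInvertible (isInvertible_tensorPow hL.1 m),
    Ega2Proj.isFT_of_isInvertible (isInvertible_tensorPow hL.1 m)⟩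

include hL in
theorem isHilbPoly_add {S : ShortComplex X.Modules} (hS : S.ShortExact) (h₁ : Coh.IsCoh S.X₁)
    (h₃ : Coh.IsCoh S.X₃) {P₁ P₂ P₃ : Polynomial ℚ} (hP₁ : ShStab.IsHilbPoly k X L S.X₁ P₁)
    (hP₂ : ShStab.IsHilbPoly k X L S.X₂ P₂) (hP₃ : ShStab.IsHilbPoly k X L S.X₃ P₃) :
    P₂ = P₁ + P₃ := by
  refine poly_ext_nat fun m => ?_
  have h := EulerDeg.euler_add (k := k)
    (S := S.map (DCoh.tensorRightMod (CohB1.tensorPow L m)))
    (shortExact_tensorRightMod (isInvertible_tensorPow hL.1 m) hS)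
    (EulerDeg.finCoh k X (isCoh_twist hL h₁ m)) (EulerDeg.finCoh k X (isCoh_twist hL h₃ m))
  have h' : (Curv2.euler k X (ShStab.twist X L S.X₂ m) : ℚ) =
      (Curv2.euler k X (ShStab.twist X L S.X₁ m) : ℚ) +
        (Curv2.euler k X (ShStab.twist X L S.X₃ m) : ℚ) := by
    rw [← Int.cast_add]
    exact congrArg _ h
  rw [hP₁ m, hP₂ m, hP₃ m] at h'
  rw [Polynomial.eval_add, h']

include hL in
/-- For large twists the Hilbert polynomial counts global sections. -/
theorem exists_eval_eq_h0 {F : X.Modules} (hF : Coh.IsCoh F) {P : Polynomial ℚ}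
    (hP : ShStab.IsHilbPoly k X L F P) : ∃ N : ℕ, ∀ m, N ≤ m →
      P.eval (m : ℚ) = (Module.finrank k (Coh.HH X (ShStab.twist X L F m) 0) : ℚ) := by
  obtain ⟨d₀, hd⟩ := PnCoh.exists_subsingleton_of_isAmple (X ↘ Spec (CommRingCat.of k)) hL F hF
  refine ⟨d₀, fun m hm => ?_⟩
  rw [← hP m, EulerDeg.euler_eq_sum (M := ShStab.twist X L F m) (N := 1)
    (fun q hq => hd m hm q hq)]
  simp

include hL in
/-- The Hilbert polynomial of a nonzero coherent module is eventually at least one. -/
theorem exists_one_le_eval {F : X.Modules} (hF : Coh.IsCoh F) (h0 : ¬ IsZero F) {P : Polynomial ℚ}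
    (hP : ShStab.IsHilbPoly k X L F P) : ∃ N : ℕ, ∀ m, N ≤ m → 1 ≤ P.eval (m : ℚ) := by
  haveI := hF.1
  obtain ⟨N, hN⟩ := exists_eval_eq_h0 k hL hF hP
  obtain ⟨n₀, hn⟩ := Chow.exists_isGloballyGenerated_twist hL F hF.2
  refine ⟨max N n₀, fun m hm => ?_⟩
  rw [hN m (le_of_max_le_left hm)]
  have hfin := EulerDeg.finite_HH k X (isCoh_twist hL hF m) 0
  refine Nat.one_le_cast.mpr (Nat.one_le_iff_ne_zero.mpr fun h => h0 ?_)
  haveI := hfin
  have hsub : Subsingleton (Coh.HH X (ShStab.twist X L F m) 0) := Module.finrank_zero_iff.mp h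
  haveI : Subsingleton (CohFin.HA (X ↘ Spec (CommRingCat.of k)) (ShStab.twist X L F m) 0) := hsub
  have hz : IsZero (ShStab.twist X L F m) :=
    isZero_of_isGloballyGenerated (hn m (le_of_max_le_right hm))
      (CohFin.equivSections (X ↘ Spec (CommRingCat.of k)) (ShStab.twist X L F m)).symm.toEquiv.subsingleton
  haveI := isEquivalence_tensorRightMod_of_isInvertible (isInvertible_tensorPow hL.1 m)
  rw [IsZero.iff_id_eq_zero]
  exact (DCoh.tensorRightMod (CohB1.tensorPow L m)).map_injective (hz.eq_of_src _ _)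

theorem leadingCoeff_pos_of_eventually {P : Polynomial ℚ}
    (h : ∃ N : ℕ, ∀ m, N ≤ m → 1 ≤ P.eval (m : ℚ)) : 0 < P.leadingCoeff := by
  obtain ⟨N, hN⟩ := h
  rcases lt_trichotomy P.leadingCoeff 0 with hlc | hlc | hlc
  · exfalso
    rcases Nat.eq_zero_or_pos P.natDegree with hd | hd
    · have := hN N le_rfl
      rw [Polynomial.eq_C_of_natDegree_eq_zero hd, Polynomial.eval_C] at this
      rw [Polynomial.leadingCoeff, hd] at hlc
      linarith
    · have ht : Filter.Tendsto (fun x : ℚ => P.eval x) Filter.atTop Filter.atBot :=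
        Polynomial.tendsto_atBot_of_leadingCoeff_nonpos P
          (Polynomial.natDegree_pos_iff_degree_pos.mp hd) hlc.le
      obtain ⟨x, hx⟩ := Filter.eventually_atTop.mp (ht.eventually (Filter.eventually_le_atBot 0))
      obtain ⟨m, hm⟩ := exists_nat_ge x
      have h1 := hN (max m N) (le_max_right _ _)
      have h2 := hx ((max m N : ℕ) : ℚ) (hm.trans (by exact_mod_cast le_max_left m N))
      linarith
  · have := hN N le_rfl
    rw [Polynomial.leadingCoeff_eq_zero.mp hlc, Polynomial.eval_zero] at this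
    linarith
  · exact hlc

include hL in
theorem leadingCoeff_pos {F : X.Modules} (hF : Coh.IsCoh F) (h0 : ¬ IsZero F) {P : Polynomial ℚ}
    (hP : ShStab.IsHilbPoly k X L F P) : 0 < P.leadingCoeff :=
  leadingCoeff_pos_of_eventually (exists_one_le_eval k hL hF h0 hP)

omit [IsProper (X ↘ Spec (CommRingCat.of k))] in
theorem eq_zero_of_isZero {F : X.Modules} (hF : IsZero F) {P : Polynomial ℚ}
    (hP : ShStab.IsHilbPoly k X L F P) : P = 0 := by
  refine poly_ext_nat fun m => ?_
  rw [← hP m, Polynomial.eval_zero, EulerDeg.euler_of_isZero fun n => ?_]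
  · rfl
  · exact CohFin.subsingleton_of_isZero (f := X ↘ Spec (CommRingCat.of k))
      ((DCoh.tensorRightMod (CohB1.tensorPow L m)).map_isZero hF) n

include hL in
theorem eq_zero_iff {F : X.Modules} (hF : Coh.IsCoh F) {P : Polynomial ℚ}
    (hP : ShStab.IsHilbPoly k X L F P) : P = 0 ↔ IsZero F :=
  ⟨fun h => by_contra fun h0 => by
    have := leadingCoeff_pos k hL hF h0 hP
    rw [h, Polynomial.leadingCoeff_zero] at this
    exact lt_irrefl _ this, fun h => eq_zero_of_isZero k h hP⟩

include hL in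
/-- The degree of the middle term of a short exact sequence is the larger of the two degrees. -/
theorem natDegree_add_eq {A B : X.Modules} (hA : Coh.IsCoh A) (hB : Coh.IsCoh B) {P Q : Polynomial ℚ}
    (hP : ShStab.IsHilbPoly k X L A P) (hQ : ShStab.IsHilbPoly k X L B Q) :
    (P + Q).natDegree = max P.natDegree Q.natDegree := by
  by_cases hA0 : IsZero A
  · rw [eq_zero_of_isZero k hA0 hP, zero_add, Polynomial.natDegree_zero, Nat.zero_max]
  by_cases hB0 : IsZero B
  · rw [eq_zero_of_isZero k hB0 hQ, add_zero, Polynomial.natDegree_zero, Nat.max_zero]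
  rcases lt_trichotomy P.natDegree Q.natDegree with h | h | h
  · rw [Polynomial.natDegree_add_eq_right_of_natDegree_lt h, max_eq_right h.le]
  · refine le_antisymm (Polynomial.natDegree_add_le _ _) ?_
    rw [← h, max_self]
    refine Polynomial.le_natDegree_of_ne_zero ?_
    rw [Polynomial.coeff_add]
    have h1 := leadingCoeff_pos k hL hA hA0 hP
    have h2 := leadingCoeff_pos k hL hB hB0 hQ
    rw [Polynomial.leadingCoeff] at h1 h2
    rw [← h] at h2
    linarith
  · rw [Polynomial.natDegree_add_eq_left_of_natDegree_lt h, max_eq_left h.le]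

end Groth.HilbStab
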