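import Groth.Agent.HilbStab.Morph

/-!
# Purity from the semistability inequality; slopes
-/

set_option autoImplicit false

universe u

open CategoryTheory CategoryTheory.Limits AlgebraicGeometry
open Groth.PicAux

namespace Groth.HilbStab

variable (k : Type u) [Field k] {X : Scheme.{u}} [X.Over (Spec (CommRingCat.of k))]
  [IsProper (X ↘ Spec (CommRingCat.of k))] {L : X.Modules} (hL : CohB1.IsAmple L)

include hL in
/-- The semistability inequality forces purity. -/
theorem isPure_of_isSS {d : ℕ} {E : X.Modules} (hE : Coh.IsCoh E) (h0 : ¬ IsZero E)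
    (hdim : topologicalKrullDim (CohB1.support E) = (d : WithBot ℕ∞))
    (h : StabCat.IsSS Coh.IsCoh (ShStab.IsHilbPoly k X L) d E) : ShStab.IsPure X E d := by
  intro F ι hι hF hF0
  obtain ⟨pF, hpF⟩ := exists_isHilbPoly k X hL hF
  obtain ⟨pE, hpE⟩ := exists_isHilbPoly k X hL hE
  by_cases hi : IsIso ι
  · have hp := isHilbPoly_iso k (asIso ι) hpF
    rw [natDegree_eq_dim k hL hF hF0 hpF, ← natDegree_eq_dim k hL hE h0 hp, hdim]
  have hle : pF.natDegree ≤ d := natDegree_le_of_support_subset k hL hdim.le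
    (KTheory.Devissage.support_subset_of_mono ι) hF hpF
  rw [natDegree_eq_dim k hL hF hF0 hpF]
  refine congrArg (fun n : ℕ => (n : WithBot ℕ∞)) (le_antisymm hle (not_lt.mp fun hlt => ?_))
  have hpos := pp_of_not_isZero k hL hF hF0 hpF
  have hαF : StabCat.alpha d pF = 0 := (alpha_eq_zero_iff (pp_ne_zero hpos) hle).mpr hlt
  have hαE : 0 < StabCat.alpha d pE := alpha_pos_of_natDegree_eq (pp_of_not_isZero k hL hE h0 hpE)
    (by rw [natDegree_eq_dim k hL hE h0 hpE] at hdim; exact_mod_cast hdim)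
  have := (redLE_iff d).mp (h F ι hι hF hF0 hi pF pE hpF hpE)
  rw [cr, hαF, zero_smul, zero_sub, nn_neg_iff] at this
  exact this (hpos.smul hαE)

theorem nn_coeff_pred {d : ℕ} {P : Polynomial ℚ} (h : NN P) (hdeg : P.natDegree ≤ d)
    (hd : P.coeff d = 0) : 0 ≤ P.coeff (d - 1) := by
  rcases eq_or_lt_of_le hdeg with e | e
  · have h0 : P = 0 := Polynomial.leadingCoeff_eq_zero.mp (by rw [Polynomial.leadingCoeff, e, hd])
    rw [h0, Polynomial.coeff_zero]
  rcases eq_or_lt_of_le (Nat.le_sub_one_of_lt e) with e' | e'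
  · rw [← e']; exact h
  · rw [Polynomial.coeff_eq_zero_of_natDegree_lt e']

theorem coeff_cr_top (d : ℕ) (P Q : Polynomial ℚ) : (cr d P Q).coeff d = 0 := by
  simp [cr, StabCat.alpha]
  ring

theorem natDegree_cr_le {d : ℕ} {P Q : Polynomial ℚ} (hP : P.natDegree ≤ d) (hQ : Q.natDegree ≤ d) :
    (cr d P Q).natDegree ≤ d :=
  (Polynomial.natDegree_sub_le _ _).trans
    (max_le ((Polynomial.natDegree_smul_le _ _).trans hQ) ((Polynomial.natDegree_smul_le _ _).trans hP))

theorem hatSlope_le_of_redLE {d : ℕ} {P Q : Polynomial ℚ} (hP : P.natDegree ≤ d)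
    (hQ : Q.natDegree ≤ d) (hαP : 0 < StabCat.alpha d P) (hαQ : 0 < StabCat.alpha d Q)
    (h : NN (cr d P Q)) : StabCat.hatSlope d P ≤ StabCat.hatSlope d Q := by
  have h1 := nn_coeff_pred h (natDegree_cr_le hP hQ) (coeff_cr_top d P Q)
  rw [cr, Polynomial.coeff_sub, Polynomial.coeff_smul, Polynomial.coeff_smul, smul_eq_mul,
    smul_eq_mul, sub_nonneg] at h1
  rw [StabCat.hatSlope, StabCat.hatSlope, div_le_div_iff₀ hαP hαQ]
  unfold StabCat.alpha at h1 hαP hαQ ⊢
  calc ((d - 1).factorial : ℚ) * P.coeff (d - 1) * (d.factorial * Q.coeff d)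
      = ((d - 1).factorial : ℚ) * ((d.factorial * Q.coeff d) * P.coeff (d - 1)) := by ring
    _ ≤ ((d - 1).factorial : ℚ) * ((d.factorial * P.coeff d) * Q.coeff (d - 1)) :=
        mul_le_mul_of_nonneg_left h1 (by positivity)
    _ = _ := by ring

end Groth.HilbStab
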