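import Mathlib.Algebra.Polynomial.Taylor
import Mathlib.Algebra.Polynomial.HasseDeriv
import Mathlib.Topology.Sober
import Mathlib.Topology.KrullDimension
import Groth.Agent.DescentBase.DimEtale

/-!
# Degrees through differences; chains of specializations in a closed set
-/

set_option autoImplicit false

universe u

open Polynomial TopologicalSpace

namespace Groth.HilbStab

theorem natDegree_le_of_taylor_sub {P : ℚ[X]} {e : ℚ} (he : e ≠ 0) {d : ℕ}
    (h : (taylor e P - P).natDegree ≤ d) : P.natDegree ≤ d + 1 := by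
  by_contra hlt
  push Not at hlt
  obtain ⟨j, hj⟩ : ∃ j, P.natDegree = j + 1 := ⟨P.natDegree - 1, by omega⟩
  have h0 : (taylor e P - P).coeff j = 0 := coeff_eq_zero_of_natDegree_lt (by omega)
  have hd : (hasseDeriv j P).natDegree ≤ 1 := (natDegree_hasseDeriv_le P j).trans (by omega)
  rw [coeff_sub, taylor_coeff, eq_X_add_C_of_natDegree_le_one hd, eval_add, eval_mul, eval_C,
    eval_X, eval_C, hasseDeriv_coeff, hasseDeriv_coeff, zero_add, Nat.choose_self, Nat.cast_one,
    one_mul, add_sub_cancel_right] at h0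
  rcases mul_eq_zero.mp h0 with h1 | h1
  · rcases mul_eq_zero.mp h1 with h2 | h2
    · exact absurd h2 (by exact_mod_cast (Nat.choose_pos (by omega : j ≤ 1 + j)).ne')
    · refine (leadingCoeff_ne_zero.mpr fun hP => ?_) (?_ : P.leadingCoeff = 0)
      · rw [hP] at hj
        simp at hj
      · rwa [leadingCoeff, hj, Nat.add_comm]
  · exact he h1

theorem natDegree_eq_zero_of_taylor_eq {P : ℚ[X]} {e : ℚ} (he : e ≠ 0) (h : taylor e P = P) :
    P.natDegree = 0 := by
  by_contra h0
  obtain ⟨j, hj⟩ : ∃ j, P.natDegree = j + 1 := ⟨P.natDegree - 1, by omega⟩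
  have hd : (hasseDeriv j P).natDegree ≤ 1 := (natDegree_hasseDeriv_le P j).trans (by omega)
  have h1 := congrArg (fun p : ℚ[X] => p.coeff j) h
  simp only [taylor_coeff] at h1
  rw [eq_X_add_C_of_natDegree_le_one hd, eval_add, eval_mul, eval_C, eval_X, eval_C,
    hasseDeriv_coeff, hasseDeriv_coeff, zero_add, Nat.choose_self, Nat.cast_one, one_mul,
    add_eq_right, mul_eq_zero, mul_eq_zero] at h1
  rcases h1 with (h2 | h2) | h2
  · exact absurd h2 (by exact_mod_cast (Nat.choose_pos (by omega : j ≤ 1 + j)).ne')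
  · refine (leadingCoeff_ne_zero.mpr fun hP => ?_) (?_ : P.leadingCoeff = 0)
    · rw [hP] at hj
      simp at hj
    · rwa [leadingCoeff, hj, Nat.add_comm]
  · exact he h2

theorem natDegree_lt_of_taylor_sub_ne_zero {P : ℚ[X]} {e : ℚ} (h : taylor e P - P ≠ 0) :
    (taylor e P - P).natDegree < P.natDegree := by
  have hP : P ≠ 0 := fun h0 => h (by rw [h0, map_zero, sub_zero])
  have hd : degree (taylor e P) = degree P := by
    rw [degree_eq_natDegree hP, degree_eq_natDegree (fun h0 => hP ?_), natDegree_taylor]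
    exact taylor_injective e (by rw [h0, map_zero])
  have := degree_sub_lt hd (fun h0 => hP (taylor_injective e (by rw [h0, map_zero])))
    (leadingCoeff_taylor ..)
  have h2 := natDegree_lt_natDegree h this
  rwa [natDegree_taylor] at h2

section Chains

variable {α : Type u} [TopologicalSpace α]

/-- A chain of `d` proper specializations inside `S` starting at `x`. -/
def ChainAt (S : Set α) : α → ℕ → Prop
  | x, 0 => x ∈ S
  | x, d + 1 => x ∈ S ∧ ∃ y, x ⤳ y ∧ y ≠ x ∧ ChainAt S y d

theorem ChainAt.mem {S : Set α} {x : α} : ∀ {d : ℕ}, ChainAt S x d → x ∈ S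
  | 0, h => h
  | _ + 1, h => h.1

theorem ChainAt.mono {S T : Set α} : ∀ {d : ℕ} {x : α}, ChainAt S x d →
    (∀ z, x ⤳ z → z ∈ S → z ∈ T) → ChainAt T x d
  | 0, x, h, hT => hT x specializes_rfl h
  | _ + 1, x, h, hT => by
    obtain ⟨hx, y, hxy, hne, hy⟩ := h
    exact ⟨hT x specializes_rfl hx, y, hxy, hne, hy.mono fun z hz => hT z (hxy.trans hz)⟩

/-- Every point of a closed set has a maximal generalization in it. -/
theorem exists_maximal_generalization [QuasiSober α] [T0Space α] {Z : Set α} (hZ : IsClosed Z)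
    {x : α} (hx : x ∈ Z) : ∃ y ∈ Z, y ⤳ x ∧ ∀ w ∈ Z, w ⤳ y → w = y := by
  have := hZ.isClosedEmbedding_subtypeVal.quasiSober
  set C := irreducibleComponent (⟨x, hx⟩ : Z) with hCdef
  obtain ⟨y, hy⟩ := QuasiSober.sober (isIrreducible_irreducibleComponent (x := (⟨x, hx⟩ : Z)))
    isClosed_irreducibleComponent
  refine ⟨y.1, y.2, (subtype_specializes_iff _ _).mp (hy.specializes mem_irreducibleComponent),
    fun z hz hzy => ?_⟩
  have h : (⟨z, hz⟩ : Z) ⤳ y := (subtype_specializes_iff _ _).mpr hzy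
  have hC : C ⊆ closure {(⟨z, hz⟩ : Z)} := by
    rw [show C = closure {y} from hy.def.symm]
    exact closure_minimal (Set.singleton_subset_iff.2 h.mem_closure) isClosed_closure
  have hz' : IsGenericPoint (⟨z, hz⟩ : Z) C :=
    eq_irreducibleComponent isPreirreducible_singleton.closure hC
  exact congrArg Subtype.val (hz'.eq hy)

/-- Chains in a set avoiding the maximal points of a closed set are shorter. -/
theorem not_chainAt_of_avoid [QuasiSober α] [T0Space α] {Z T : Set α} (hZ : IsClosed Z)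
    (hTZ : T ⊆ Z) (hmax : ∀ y ∈ Z, (∀ w ∈ Z, w ⤳ y → w = y) → y ∉ T) {d : ℕ}
    (h : ∀ x, ¬ ChainAt Z x (d + 1)) (x : α) : ¬ ChainAt T x d := by
  intro hc
  obtain ⟨y, hy, hyx, hym⟩ := exists_maximal_generalization hZ (hTZ hc.mem)
  exact h y ⟨hy, x, hyx, fun e => hmax y hy hym (e ▸ hc.mem), hc.mono fun z _ hz => hTZ hz⟩

/-- Chains of specializations bound the dimension from below. -/
theorem le_topologicalKrullDim_of_chainAt [QuasiSober α] [T0Space α] {S : Set α} (hS : IsClosed S)
    {x : α} {d : ℕ} (h : ChainAt S x d) : (d : WithBot ℕ∞) ≤ topologicalKrullDim ↥S := by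
  have := hS.isClosedEmbedding_subtypeVal.quasiSober
  letI : PartialOrder ↥S := specializationOrder ↥S
  rw [Groth.DescentBase.topologicalKrullDim_eq_points]
  suffices key : ∀ (d : ℕ) (x : α) (h : ChainAt S x d),
      ∃ l : LTSeries ↥S, l.length = d ∧ l.last = ⟨x, h.mem⟩ by
    obtain ⟨l, hl, -⟩ := key d x h
    rw [← hl]
    exact Order.LTSeries.length_le_krullDim l
  intro d
  induction d with
  | zero => exact fun x h => ⟨RelSeries.singleton _ ⟨x, h⟩, rfl, rfl⟩
  | succ d ih =>
    rintro x ⟨hx, y, hxy, hne, hy⟩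
    obtain ⟨l, hl, hlast⟩ := ih y hy
    have hlt : (⟨y, hy.mem⟩ : S) < ⟨x, hx⟩ := by
      refine lt_of_le_of_ne ((subtype_specializes_iff _ _).mpr hxy) fun e => hne ?_
      exact congrArg Subtype.val e
    exact ⟨l.snoc ⟨x, hx⟩ (hlast ▸ hlt), by simp [hl], RelSeries.last_snoc ..⟩

/-- Absence of long chains bounds the dimension from above. -/
theorem topologicalKrullDim_le_of_not_chainAt [QuasiSober α] [T0Space α] {S : Set α}
    (hS : IsClosed S) {d : ℕ} (h : ∀ x, ¬ ChainAt S x (d + 1)) :
    topologicalKrullDim ↥S ≤ (d : WithBot ℕ∞) := by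
  have := hS.isClosedEmbedding_subtypeVal.quasiSober
  letI : PartialOrder ↥S := specializationOrder ↥S
  rw [Groth.DescentBase.topologicalKrullDim_eq_points]
  refine iSup_le fun l => ?_
  by_contra hlt
  have hlen : d + 1 ≤ l.length := by
    by_contra h'
    exact hlt (WithBot.coe_le_coe.mpr (Nat.cast_le.mpr (by omega : l.length ≤ d)))
  suffices key : ∀ (j : ℕ) (hj : j ≤ l.length), ChainAt S (l ⟨j, by omega⟩).1 j from
    h _ (key (d + 1) hlen)
  intro j
  induction j with
  | zero => exact fun _ => (l ⟨0, by omega⟩).2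
  | succ j ih =>
    intro hj
    have hlt := l.strictMono (show (⟨j, by omega⟩ : Fin (l.length + 1)) < ⟨j + 1, by omega⟩ from
      Fin.mk_lt_mk.mpr (Nat.lt_succ_self j))
    exact ⟨(l _).2, (l ⟨j, by omega⟩).1, (subtype_specializes_iff _ _).mp hlt.le,
      fun e => hlt.ne (Subtype.ext e), ih (by omega)⟩

end Chains

end Groth.HilbStab
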