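import Groth.Agent.HilbStab.Basic
import Groth.Agent.HilbStab.Mult
import Groth.Agent.HilbStab.Poly
import Groth.Agent.Pi1Ample.FiniteAffine
import Groth.Agent.DivisorLength.Main
import Groth.Agent.CohTwo.SupportLocal

/-!
# The degree of the Hilbert polynomial is the dimension of the support
-/

set_option autoImplicit false

universe u

open CategoryTheory CategoryTheory.Limits AlgebraicGeometry TopologicalSpace
open Groth.PicAux Groth.PropsBasic.Ample

namespace Groth.HilbStab

variable (k : Type u) [Field k] {X : Scheme.{u}} [X.Over (Spec (CommRingCat.of k))]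
  [IsProper (X ↘ Spec (CommRingCat.of k))] {L : X.Modules} (hL : CohB1.IsAmple L)

include k in
theorem isLocallyNoetherian : IsLocallyNoetherian X :=
  LocallyOfFiniteType.isLocallyNoetherian (X ↘ Spec (CommRingCat.of k))

include k in
theorem quasiSeparatedSpace : QuasiSeparatedSpace X :=
  quasiSeparatedSpace_of_quasiSeparated (X ↘ Spec (CommRingCat.of k))

include hL in
/-- The Hilbert polynomial of `F ⊗ L^e`. -/
theorem isHilbPoly_shift {F : X.Modules} {P : Polynomial ℚ} (hP : ShStab.IsHilbPoly k X L F P)
    (e : ℕ) : ShStab.IsHilbPoly k X L (CohB1.tensorMod F (CohB1.tensorPow L e))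
      (Polynomial.taylor (e : ℚ) P) := fun m => by
  obtain ⟨e₁⟩ := tensorPow_add L e m
  rw [Polynomial.taylor_eval, ← Nat.cast_add, ← hP (m + e)]
  congr 1
  refine EulerDeg.euler_congr k ((exists_associator _ _ _).choose ≪≫
    PicGrp.tensorModIso (Iso.refl F) (e₁.symm ≪≫ eqToIso (by rw [Nat.add_comm])))

include hL in
/-- Kernel, source, target and cokernel. -/
theorem hilbPoly_four_term {F F' : X.Modules} (φ : F ⟶ F') (hF : Coh.IsCoh F) (hF' : Coh.IsCoh F')
    {P P' PK PC : Polynomial ℚ} (hP : ShStab.IsHilbPoly k X L F P)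
    (hP' : ShStab.IsHilbPoly k X L F' P') (hK : ShStab.IsHilbPoly k X L (kernel φ) PK)
    (hC : ShStab.IsHilbPoly k X L (cokernel φ) PC) : P' - P = PC - PK := by
  have := hF.1
  have := hF'.1
  have := isLocallyNoetherian k (X := X)
  have hKc : Coh.IsCoh (kernel φ) := QCohMod.isCoh_kernel φ hF
  have hCc : Coh.IsCoh (cokernel φ) := QCohMod.isCoh_cokernel φ hF'
  have := hCc.1
  have hIc : Coh.IsCoh (Abelian.image φ) := QCohMod.isCoh_kernel (cokernel.π φ) hF'
  obtain ⟨PI, hI⟩ := exists_isHilbPoly k X hL hIc
  let S₁ : ShortComplex X.Modules :=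
    ShortComplex.mk (kernel.ι φ) (Abelian.factorThruImage φ) (by
      rw [← cancel_mono (Abelian.image.ι φ), Category.assoc, Abelian.image.fac, kernel.condition,
        zero_comp])
  have hS₁ : S₁.ShortExact :=
    { exact := ShortComplex.exact_of_f_is_kernel _ (KernelFork.IsLimit.ofι _ _
        (fun {W} l hl => kernel.lift φ l (by
          rw [← Abelian.image.fac φ, ← Category.assoc, hl, zero_comp]))
        (fun {W} l hl => kernel.lift_ι _ _ _)
        (fun {W} l hl m hm => by rw [← cancel_mono (kernel.ι φ), kernel.lift_ι]; exact hm)) }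
  let S₂ : ShortComplex X.Modules :=
    ShortComplex.mk (Abelian.image.ι φ) (cokernel.π φ) (kernel.condition _)
  have hS₂ : S₂.ShortExact :=
    { exact := ShortComplex.exact_of_f_is_kernel _ (kernelIsKernel (cokernel.π φ)) }
  rw [isHilbPoly_add k hL hS₁ hKc hIc hK hP hI, isHilbPoly_add k hL hS₂ hIc hCc hI hP' hC]
  ring

include hL in
/-- The degree is at most the length of the chains of specializations in the support. -/
theorem natDegree_le_of_not_chainAt : ∀ (d : ℕ) {F : X.Modules}, Coh.IsCoh F →
    ∀ {P : Polynomial ℚ}, ShStab.IsHilbPoly k X L F P →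
    (∀ x, ¬ ChainAt (CohB1.support F) x (d + 1)) → P.natDegree ≤ d := by
  intro d
  have := EulerDeg.noetherianSpace_of_proper k X
  have := isLocallyNoetherian k (X := X)
  induction d with
  | zero =>
    intro F hF P hP h
    have hcl := CohTwo.isClosed_support F hF
    obtain ⟨N, t, hZt, -, -⟩ := Groth.PropsBasic.Ample.exists_affine_gloc_finite hL
      _ (DivisorLength.finite_maximal_points hcl) ⊤ (fun _ _ => trivial)
    let M := CohB1.tensorPow L (N + 1)
    have hM : Coh.IsCoh (CohB1.tensorMod F M) := isCoh_twist hL hF (N + 1)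
    have := hF.1
    have := hM.1
    have hKc : Coh.IsCoh (kernel (mulSec t F)) := QCohMod.isCoh_kernel _ hF
    have hCc : Coh.IsCoh (cokernel (mulSec t F)) := QCohMod.isCoh_cokernel _ hM
    have hempty : ∀ {G : X.Modules}, CohB1.support G ⊆ CohB1.support F →
        CohB1.support G ⊆ (gloc t : Set X)ᶜ → IsZero G := fun {G} h₁ h₂ => by
      rw [QCohMod.isZero_iff_support_eq_empty, Set.eq_empty_iff_forall_notMem]
      exact fun x hx => not_chainAt_of_avoid hcl h₁
        (fun y hy hym hyT => h₂ hyT (hZt ⟨hy, hym⟩)) h x hx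
    obtain ⟨PK, hK⟩ := exists_isHilbPoly k X hL hKc
    obtain ⟨PC, hC⟩ := exists_isHilbPoly k X hL hCc
    have e := hilbPoly_four_term k hL (mulSec t F) hF hM hP (isHilbPoly_shift k hL hP (N + 1)) hK hC
    rw [eq_zero_of_isZero k (hempty (KTheory.Devissage.support_subset_of_mono (kernel.ι _))
        (support_kernel_mulSec_subset t F)) hK,
      eq_zero_of_isZero k (hempty ((KTheory.Devissage.support_subset_of_epi (cokernel.π _)).trans
        (support_tensorMod_subset (isInvertible_tensorPow hL.1 _) F))
        (support_cokernel_mulSec_subset t F)) hC, sub_zero, sub_eq_zero] at e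
    exact (natDegree_eq_zero_of_taylor_eq (by exact_mod_cast Nat.succ_ne_zero N) e).le
  | succ d ih =>
    intro F hF P hP h
    have hcl := CohTwo.isClosed_support F hF
    obtain ⟨N, t, hZt, -, -⟩ := Groth.PropsBasic.Ample.exists_affine_gloc_finite hL
      _ (DivisorLength.finite_maximal_points hcl) ⊤ (fun _ _ => trivial)
    let M := CohB1.tensorPow L (N + 1)
    have hM : Coh.IsCoh (CohB1.tensorMod F M) := isCoh_twist hL hF (N + 1)
    have := hF.1
    have := hM.1
    have hKc : Coh.IsCoh (kernel (mulSec t F)) := QCohMod.isCoh_kernel _ hF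
    have hCc : Coh.IsCoh (cokernel (mulSec t F)) := QCohMod.isCoh_cokernel _ hM
    have hle : ∀ {G : X.Modules}, Coh.IsCoh G → CohB1.support G ⊆ CohB1.support F →
        CohB1.support G ⊆ (gloc t : Set X)ᶜ → ∀ {Q : Polynomial ℚ},
        ShStab.IsHilbPoly k X L G Q → Q.natDegree ≤ d := fun {G} hG h₁ h₂ {Q} hQ =>
      ih hG hQ fun x => not_chainAt_of_avoid hcl h₁
        (fun y hy hym hyT => h₂ hyT (hZt ⟨hy, hym⟩)) h x
    obtain ⟨PK, hK⟩ := exists_isHilbPoly k X hL hKc
    obtain ⟨PC, hC⟩ := exists_isHilbPoly k X hL hCc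
    have e := hilbPoly_four_term k hL (mulSec t F) hF hM hP (isHilbPoly_shift k hL hP (N + 1)) hK hC
    refine natDegree_le_of_taylor_sub (e := ((N + 1 : ℕ) : ℚ))
      (by exact_mod_cast Nat.succ_ne_zero N) ?_
    rw [e]
    refine (Polynomial.natDegree_sub_le _ _).trans (max_le ?_ ?_)
    · exact hle hCc ((KTheory.Devissage.support_subset_of_epi (cokernel.π _)).trans
        (support_tensorMod_subset (isInvertible_tensorPow hL.1 _) F))
        (support_cokernel_mulSec_subset t F) hC
    · exact hle hKc (KTheory.Devissage.support_subset_of_mono (kernel.ι _))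
        (support_kernel_mulSec_subset t F) hK

include hL in
/-- Chains of specializations in the support bound the degree from below. -/
theorem le_natDegree_of_chainAt : ∀ (d : ℕ) {F : X.Modules}, Coh.IsCoh F →
    ∀ {P : Polynomial ℚ}, ShStab.IsHilbPoly k X L F P →
    ∀ x, ChainAt (CohB1.support F) x d → d ≤ P.natDegree := by
  intro d
  have := isLocallyNoetherian k (X := X)
  have := quasiSeparatedSpace k (X := X)
  induction d with
  | zero => exact fun _ _ _ _ _ => Nat.zero_le _
  | succ d ih =>
    rintro F hF P hP x ⟨hx, y, hxy, hne, hy⟩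
    have hxU : x ∉ closure ({y} : Set X) := fun hc =>
      hne ((hxy.antisymm (specializes_iff_mem_closure.mpr hc)).eq).symm
    obtain ⟨N, t, hxt, htU, -⟩ := Groth.PropsBasic.Ample.exists_affine_gloc_finite hL {x}
      (Set.finite_singleton x) ⟨(closure ({y} : Set X))ᶜ, isClosed_closure.isOpen_compl⟩
      (Set.singleton_subset_iff.mpr hxU)
    let M := CohB1.tensorPow L (N + 1)
    have hMi : PicF.IsInvertible M := isInvertible_tensorPow hL.1 (N + 1)
    have := hF.1
    obtain ⟨G, q, hq, hG, hsupp, hmono⟩ := exists_quotient_injective hF t inferInstance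
    have hxG : x ∈ CohB1.support G := hsupp x (hxt rfl) hx
    have hGM : Coh.IsCoh (CohB1.tensorMod G M) := isCoh_twist hL hG (N + 1)
    have := hG.1
    have := hGM.1
    have hCc : Coh.IsCoh (cokernel (mulSec t G)) := QCohMod.isCoh_cokernel _ hGM
    have hKc : Coh.IsCoh (kernel (mulSec t G)) := QCohMod.isCoh_kernel _ hG
    have hK : ShStab.IsHilbPoly k X L (kernel (mulSec t G)) 0 := by
      obtain ⟨PK, hK⟩ := exists_isHilbPoly k X hL hKc
      rwa [eq_zero_of_isZero k (isZero_kernel_of_mono _) hK] at hK
    have hchain : ChainAt (CohB1.support (cokernel (mulSec t G))) y d := by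
      refine hy.mono fun z hyz _ => mem_support_cokernel_mulSec hMi t hG ?_ ?_
      · exact (CohTwo.isClosed_support G hG).closure_subset_iff.mpr
          (Set.singleton_subset_iff.mpr hxG) (hxy.trans hyz).mem_closure
      · exact fun hz => htU hz hyz.mem_closure
    obtain ⟨PG, hPG⟩ := exists_isHilbPoly k X hL hG
    obtain ⟨PC, hC⟩ := exists_isHilbPoly k X hL hCc
    have e := hilbPoly_four_term k hL (mulSec t G) hG hGM hPG
      (isHilbPoly_shift k hL hPG (N + 1)) hK hC
    rw [sub_zero] at e
    have hC0 : PC ≠ 0 := fun h => by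
      have hz := (eq_zero_iff k hL hCc hC).mp h
      rw [QCohMod.isZero_iff_support_eq_empty] at hz
      exact Set.notMem_empty y (hz ▸ hchain.mem)
    have hd : d + 1 ≤ PG.natDegree := by
      have h1 := ih hCc hC y hchain
      have h2 := natDegree_lt_of_taylor_sub_ne_zero (e ▸ hC0)
      rw [e] at h2
      omega
    -- compare with `F`
    obtain ⟨PK', hK'⟩ := exists_isHilbPoly k X hL (QCohMod.isCoh_kernel q hF)
    have hS : (ShortComplex.mk (kernel.ι q) q (kernel.condition q)).ShortExact :=
      { exact := ShortComplex.exact_of_f_is_kernel _ (kernelIsKernel q) }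
    rw [isHilbPoly_add k hL hS (QCohMod.isCoh_kernel q hF) hG hK' hP hPG,
      natDegree_add_eq k hL (QCohMod.isCoh_kernel q hF) hG hK' hPG]
    exact hd.trans (le_max_right _ _)

include hL in
/-- The degree of the Hilbert polynomial is the dimension of the support. -/
theorem natDegree_eq_dim {F : X.Modules} (hF : Coh.IsCoh F) (h0 : ¬ IsZero F) {P : Polynomial ℚ}
    (hP : ShStab.IsHilbPoly k X L F P) :
    topologicalKrullDim ↥(CohB1.support F) = (P.natDegree : WithBot ℕ∞) := by
  have := isLocallyNoetherian k (X := X)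
  have hcl := CohTwo.isClosed_support F hF
  refine le_antisymm (topologicalKrullDim_le_of_not_chainAt hcl fun x hx => ?_) ?_
  · have := le_natDegree_of_chainAt k hL _ hF hP x hx
    omega
  · obtain hd | hd := Nat.eq_zero_or_pos P.natDegree
    · obtain ⟨x, hx⟩ := Set.nonempty_iff_ne_empty.mpr
        fun h => h0 ((QCohMod.isZero_iff_support_eq_empty F).mpr h)
      rw [hd]
      exact le_topologicalKrullDim_of_chainAt hcl (show ChainAt _ x 0 from hx)
    · by_contra hlt
      obtain ⟨j, hj⟩ : ∃ j, P.natDegree = j + 1 := ⟨P.natDegree - 1, by omega⟩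
      have h2 : ∀ x, ¬ ChainAt (CohB1.support F) x (j + 1) := fun x hx =>
        hlt (hj ▸ le_topologicalKrullDim_of_chainAt hcl hx)
      have := natDegree_le_of_not_chainAt k hL j hF hP h2
      omega

end Groth.HilbStab
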