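import Groth.Agent.HilbStab.Subobjects

/-!
# Dictionary between intervals of coherent submodules and their factors
-/

set_option autoImplicit false

universe u

open CategoryTheory CategoryTheory.Limits AlgebraicGeometry
open Groth.PicAux

namespace Groth.HilbStab

variable (k : Type u) [Field k] {X : Scheme.{u}} [X.Over (Spec (CommRingCat.of k))]
  [IsProper (X ↘ Spec (CommRingCat.of k))] [IsLocallyNoetherian X]
  {L : X.Modules} (hL : CohB1.IsAmple L)
  {E : X.Modules} (hE : Coh.IsCoh E) {d : ℕ} (hp : ShStab.IsPure X E d)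

/-- The polynomial lattice of coherent submodules of a pure module. -/
noncomputable def subLattice : PolyLattice (cohSub E hE) d :=
  polyLattice k hL (dim_support_le_of_isPure hE hp) hE

/-- A coherent module with a monomorphism to `E`, as a coherent submodule. -/
noncomputable def toCoh {F : X.Modules} (ι : F ⟶ E) [Mono ι] (hF : Coh.IsCoh F) : cohSub E hE :=
  ⟨Subobject.mk ι, QCohMod.isCoh_of_iso (Subobject.underlyingIso ι).symm hF⟩

theorem cBot_le (A : cohSub E hE) : cBot hE ≤ A := bot_le (a := A.1)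

theorem le_cTop (A : cohSub E hE) : A ≤ cTop hE := le_top (a := A.1)

theorem isHilbPoly_toCoh {F : X.Modules} (ι : F ⟶ E) [Mono ι] (hF : Coh.IsCoh F) :
    ShStab.IsHilbPoly k X L F (subPoly k hL (toCoh hE ι hF)) :=
  isHilbPoly_iso k (Subobject.underlyingIso ι) (isHilbPoly_subPoly k hL (toCoh hE ι hF))

theorem subPoly_cBot : subPoly k hL (cBot hE) = 0 :=
  eq_zero_of_isZero k ((isZero_zero _).of_iso Subobject.botCoeIsoZero)
    (isHilbPoly_subPoly k hL (cBot hE))

theorem Q_cBot (A : cohSub E hE) :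
    (subLattice k hL hE hp).Q (cBot hE) A = subPoly k hL A := by
  change subPoly k hL A - subPoly k hL (cBot hE) = _
  rw [subPoly_cBot, sub_zero]

include k hL in
theorem cBot_lt_toCoh {F : X.Modules} (ι : F ⟶ E) [Mono ι] (hF : Coh.IsCoh F) (h0 : ¬ IsZero F) :
    cBot hE < toCoh hE ι hF :=
  lt_of_le_of_ne (cBot_le hE _) fun e => pp_ne_zero
    (pp_of_not_isZero k hL hF h0 (isHilbPoly_toCoh k hL hE ι hF))
      (by rw [← e]; exact subPoly_cBot k hL hE)

include hp in
theorem pure_subLattice : (subLattice k hL hE hp).Pure (cBot hE) (cTop hE) := by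
  intro C hC _
  rw [Q_cBot]
  refine natDegree_of_isPure k hL hp C.1.arrow C.2 (fun h => hC.ne ?_) (isHilbPoly_subPoly k hL C)
  refine (subLattice k hL hE hp).eq_of_le_of_Q_eq_zero hC.le ?_
  rw [Q_cBot]
  exact eq_zero_of_isZero k h (isHilbPoly_subPoly k hL C)

include hE in
theorem cBot_lt_cTop (h0 : ¬ IsZero E) : cBot hE < cTop hE :=
  lt_of_le_of_ne (cBot_le hE _) fun e => h0 <| by
    have e' : (⊥ : Subobject E) = ⊤ := congrArg Subtype.val e
    exact (((isZero_zero _).of_iso Subobject.botCoeIsoZero).of_iso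
      (Subobject.isoOfEq _ _ e'.symm)).of_iso (asIso (⊤ : Subobject E).arrow).symm

variable {A B : cohSub E hE}

theorem isHilbPoly_fac' (h : A ≤ B) :
    ShStab.IsHilbPoly k X L (fac (show A.1 ≤ B.1 from h)) ((subLattice k hL hE hp).Q A B) :=
  isHilbPoly_fac k hL h

include hE in
/-- A submodule of a factor comes from an intermediate submodule. -/
theorem exists_between (h : A ≤ B) {G : X.Modules} (ι : G ⟶ fac (show A.1 ≤ B.1 from h)) [Mono ι]
    (hG : Coh.IsCoh G) :
    ∃ C, A ≤ C ∧ C ≤ B ∧ ShStab.IsHilbPoly k X L G ((subLattice k hL hE hp).Q A C) := by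
  haveI := hG.1
  have hfac := isCoh_fac (hE := hE) h
  haveI := hfac.1
  haveI := B.2.1
  let π := cokernel.π (Subobject.ofLE A.1 B.1 h)
  let q := π ≫ cokernel.π ι
  haveI : Epi q := epi_comp _ _
  have hcok : Coh.IsCoh (cokernel ι) := QCohMod.isCoh_cokernel _ hfac
  haveI := hcok.1
  have hK : Coh.IsCoh (kernel q) := QCohMod.isCoh_kernel q B.2
  let C := toCoh hE (kernel.ι q ≫ B.1.arrow) hK
  refine ⟨C, ?_, ?_, ?_⟩
  · refine Subobject.le_mk_of_comm (kernel.lift q (Subobject.ofLE A.1 B.1 h) ?_) ?_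
    · simp [q, π]
    · rw [kernel.lift_ι_assoc, Subobject.ofLE_arrow]
  · exact Subobject.mk_le_of_comm (kernel.ι q) rfl
  · obtain ⟨pC, hpC⟩ := exists_isHilbPoly k X hL hcok
    obtain ⟨pG, hpG⟩ := exists_isHilbPoly k X hL hG
    have h1 := isHilbPoly_kernel_add k hL B.2 q hcok
      (isHilbPoly_toCoh k hL hE (kernel.ι q ≫ B.1.arrow) hK) (isHilbPoly_subPoly k hL B) hpC
    have h2 := isHilbPoly_cokernel_add k hL hG ι hfac hpG (isHilbPoly_fac k hL h) hpC
    have e : (subLattice k hL hE hp).Q A C = pG := by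
      change subPoly k hL C - subPoly k hL A = pG
      linear_combination h2 - h1
    rwa [e]

theorem pure_iff (h : A ≤ B) :
    (subLattice k hL hE hp).Pure A B ↔ ShStab.IsPure X (fac (show A.1 ≤ B.1 from h)) d := by
  constructor
  · intro hpure G ι hι hG h0
    obtain ⟨C, hAC, hCB, hC⟩ := exists_between k hL hE hp h ι hG
    have hlt : A < C := lt_of_le_of_ne hAC fun e => pp_ne_zero (pp_of_not_isZero k hL hG h0 hC)
      (by rw [← e, PolyLattice.Q_self])
    rw [natDegree_eq_dim k hL hG h0 hC, hpure C hlt hCB]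
  · intro hpure C hC hCB
    obtain ⟨m, hm⟩ := mono_facMap (show A.1 ≤ C.1 from hC.le) (show C.1 ≤ B.1 from hCB)
    exact natDegree_of_isPure k hL hpure m (isCoh_fac hC.le) (not_isZero_fac hC)
      (isHilbPoly_fac' k hL hE hp hC.le)

/-- Semistable intervals are semistable factors. -/
theorem ss_iff (h : A ≤ B) :
    (subLattice k hL hE hp).SS A B ↔
      ShStab.IsSemistable k X L (fac (show A.1 ≤ B.1 from h)) d := by
  constructor
  · rintro ⟨hlt, hpure, hs⟩
    refine ⟨isCoh_fac h, not_isZero_fac hlt, (pure_iff k hL hE hp h).mp hpure, ?_⟩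
    intro G ι hι hG h0 hi pG pB hpG hpB
    obtain ⟨C, hAC, hCB, hC⟩ := exists_between k hL hE hp h ι hG
    rw [isHilbPoly_unique k hpG hC, isHilbPoly_unique k hpB (isHilbPoly_fac' k hL hE hp h),
      redLE_iff]
    refine hs C (lt_of_le_of_ne hAC fun e => ?_) (lt_of_le_of_ne hCB fun e => ?_)
    · exact pp_ne_zero (pp_of_not_isZero k hL hG h0 hC) (by rw [← e, PolyLattice.Q_self])
    · exact hi (isIso_of_mono_of_eq k hL hG ι (isCoh_fac h) hC
        (e ▸ isHilbPoly_fac' k hL hE hp h))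
  · rintro ⟨-, h0, hpure, hs⟩
    refine ⟨lt_of_le_of_ne h fun e => h0 ?_, (pure_iff k hL hE hp h).mpr hpure, fun C hC hCB => ?_⟩
    · subst e
      rw [IsZero.iff_id_eq_zero, ← cancel_epi (cokernel.π _), comp_zero, Category.comp_id]
      haveI : IsIso (Subobject.ofLE A.1 A.1 le_rfl) := (isIso_iff_eq _).mpr rfl
      exact (cancel_epi (Subobject.ofLE A.1 A.1 le_rfl)).mp ((cokernel.condition _).trans comp_zero.symm)
    · obtain ⟨m, hm⟩ := mono_facMap (show A.1 ≤ C.1 from hC.le) (show C.1 ≤ B.1 from hCB.le)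
      refine (redLE_iff d).mp (hs _ m hm (isCoh_fac hC.le) (not_isZero_fac hC) (fun hi => ?_) _ _
        (isHilbPoly_fac' k hL hE hp hC.le) (isHilbPoly_fac' k hL hE hp h))
      refine hCB.ne ((subLattice k hL hE hp).eq_of_le_of_Q_eq_zero hCB.le ?_)
      have e := isHilbPoly_unique k (isHilbPoly_iso k (asIso m) (isHilbPoly_fac' k hL hE hp hC.le))
        (isHilbPoly_fac' k hL hE hp h)
      rw [PolyLattice.Q_add _ A C B] at e
      exact left_eq_add.mp e

/-- Stable intervals are stable factors. -/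
theorem st_iff (h : A ≤ B) :
    (subLattice k hL hE hp).St A B ↔
      ShStab.IsStable k X L (fac (show A.1 ≤ B.1 from h)) d := by
  constructor
  · rintro ⟨hlt, hpure, hs⟩
    refine ⟨isCoh_fac h, not_isZero_fac hlt, (pure_iff k hL hE hp h).mp hpure, ?_⟩
    intro G ι hι hG h0 hi pG pB hpG hpB
    obtain ⟨C, hAC, hCB, hC⟩ := exists_between k hL hE hp h ι hG
    rw [isHilbPoly_unique k hpG hC, isHilbPoly_unique k hpB (isHilbPoly_fac' k hL hE hp h),
      redLT_iff]
    refine hs C (lt_of_le_of_ne hAC fun e => ?_) (lt_of_le_of_ne hCB fun e => ?_)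
    · exact pp_ne_zero (pp_of_not_isZero k hL hG h0 hC) (by rw [← e, PolyLattice.Q_self])
    · exact hi (isIso_of_mono_of_eq k hL hG ι (isCoh_fac h) hC
        (e ▸ isHilbPoly_fac' k hL hE hp h))
  · rintro ⟨hG, h0, hpure, hs⟩
    have hss : (subLattice k hL hE hp).SS A B := (ss_iff k hL hE hp h).mpr
      ⟨hG, h0, hpure, fun F ι h1 h2 h3 h4 pF pE h5 h6 =>
        (redLE_iff d).mpr ((redLT_iff d).mp (hs F ι h1 h2 h3 h4 pF pE h5 h6)).nn⟩
    refine ⟨hss.1, hss.2.1, fun C hC hCB => ?_⟩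
    obtain ⟨m, hm⟩ := mono_facMap (show A.1 ≤ C.1 from hC.le) (show C.1 ≤ B.1 from hCB.le)
    refine (redLT_iff d).mp (hs _ m hm (isCoh_fac hC.le) (not_isZero_fac hC) (fun hi => ?_) _ _
      (isHilbPoly_fac' k hL hE hp hC.le) (isHilbPoly_fac' k hL hE hp h))
    refine hCB.ne ((subLattice k hL hE hp).eq_of_le_of_Q_eq_zero hCB.le ?_)
    have e := isHilbPoly_unique k (isHilbPoly_iso k (asIso m) (isHilbPoly_fac' k hL hE hp hC.le))
      (isHilbPoly_fac' k hL hE hp h)
    rw [PolyLattice.Q_add _ A C B] at e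
    exact left_eq_add.mp e

end Groth.HilbStab
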