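import Groth.Agent.HilbStab.Morph

/-!
# Truncated comparisons: `ℓ`-stability against stability
-/

set_option autoImplicit false

universe u

open CategoryTheory CategoryTheory.Limits AlgebraicGeometry Polynomial
open Groth.PicAux

namespace Groth.HilbStab

theorem coeff_topPart (ℓ d : ℕ) (P : ℚ[X]) (i : ℕ) :
    (StabCat.topPart ℓ d P).coeff i = if d - ℓ ≤ i ∧ i ≤ d then P.coeff i else 0 := by
  simp only [StabCat.topPart, finsetSum_coeff, coeff_monomial]
  rw [Finset.sum_ite_eq' (Finset.Icc (d - ℓ) d) i]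
  simp

theorem alpha_topPart (ℓ d : ℕ) (P : ℚ[X]) :
    StabCat.alpha d (StabCat.topPart ℓ d P) = StabCat.alpha d P := by
  simp [StabCat.alpha, coeff_topPart]

theorem topPart_smul (ℓ d : ℕ) (a : ℚ) (P : ℚ[X]) :
    StabCat.topPart ℓ d (a • P) = a • StabCat.topPart ℓ d P := by
  ext i
  simp [coeff_topPart]

theorem topPart_sub (ℓ d : ℕ) (P Q : ℚ[X]) :
    StabCat.topPart ℓ d (P - Q) = StabCat.topPart ℓ d P - StabCat.topPart ℓ d Q := by
  ext i
  simp only [coeff_topPart, coeff_sub]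
  split_ifs <;> simp

theorem cr_topPart (ℓ d : ℕ) (P Q : ℚ[X]) :
    cr d (StabCat.topPart ℓ d P) (StabCat.topPart ℓ d Q) = StabCat.topPart ℓ d (cr d P Q) := by
  simp [cr, alpha_topPart, topPart_sub, topPart_smul]

theorem topPart_eq_self {d : ℕ} {P : ℚ[X]} (h : P.natDegree ≤ d) : StabCat.topPart d d P = P := by
  ext i
  rw [coeff_topPart]
  split_ifs with hi
  · rfl
  · exact (coeff_eq_zero_of_natDegree_lt (by omega)).symm

theorem nn_topPart {ℓ d : ℕ} {P : ℚ[X]} (h : NN P) (hdeg : P.natDegree ≤ d) :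
    NN (StabCat.topPart ℓ d P) := by
  by_cases hlow : P.natDegree < d - ℓ
  · have : StabCat.topPart ℓ d P = 0 := by
      ext i
      rw [coeff_topPart]
      split_ifs with hi
      · exact coeff_eq_zero_of_natDegree_lt (by omega)
      · rfl
    rw [this]
    exact nn_zero
  · rcases eq_or_ne P 0 with rfl | hP
    · simpa [StabCat.topPart] using nn_zero
    have hc : (StabCat.topPart ℓ d P).coeff P.natDegree = P.coeff P.natDegree := by
      rw [coeff_topPart, if_pos ⟨by omega, hdeg⟩]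
    have hn : (StabCat.topPart ℓ d P).natDegree = P.natDegree := by
      refine natDegree_eq_of_le_of_coeff_ne_zero ((natDegree_le_iff_coeff_eq_zero).mpr fun i hi => ?_) ?_
      · rw [coeff_topPart]
        split_ifs
        · exact coeff_eq_zero_of_natDegree_lt hi
        · rfl
      · rw [hc]
        exact leadingCoeff_ne_zero.mpr hP
    unfold NN at h ⊢
    rwa [leadingCoeff, hn, hc]

theorem natDegree_cr_le' {d : ℕ} {P Q : ℚ[X]} (hP : P.natDegree ≤ d) (hQ : Q.natDegree ≤ d) :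
    (cr d P Q).natDegree ≤ d :=
  (natDegree_sub_le _ _).trans
    (max_le ((natDegree_smul_le _ _).trans hQ) ((natDegree_smul_le _ _).trans hP))

variable (k : Type u) [Field k] {X : Scheme.{u}} [X.Over (Spec (CommRingCat.of k))]
  [IsProper (X ↘ Spec (CommRingCat.of k))] {L : X.Modules} (hL : CohB1.IsAmple L)
  {d : ℕ} {E : X.Modules}

include hL in
/-- A submodule of full multiplicity never destabilises. -/
theorem pp_cr_of_alpha_ge {F : X.Modules} (hp : ShStab.IsPure X E d) (hE : Coh.IsCoh E) (ι : F ⟶ E)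
    [Mono ι] (hF : Coh.IsCoh F) (h0 : ¬ IsZero F) (hi : ¬ IsIso ι) {pF pE : ℚ[X]}
    (hpF : ShStab.IsHilbPoly k X L F pF) (hpE : ShStab.IsHilbPoly k X L E pE)
    (h : StabCat.alpha d pE ≤ StabCat.alpha d pF) : PP (cr d pF pE) := by
  have := hF.1
  have hC := QCohMod.isCoh_cokernel ι hE
  obtain ⟨pC, hpC⟩ := exists_isHilbPoly k X hL hC
  have hsum := isHilbPoly_cokernel_add k hL hF ι hE hpF hpE hpC
  have hC0 : ¬ IsZero (cokernel ι) := fun hz => hi <| by
    have : Epi ι := Preadditive.epi_of_cokernel_zero (hz.eq_of_tgt _ _)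
    exact isIso_of_mono_of_epi ι
  have hge := alpha_quot_nonneg k hL hE hp (cokernel.π ι) hC hpC
  have hαC : StabCat.alpha d pC = 0 := by
    rw [hsum, alpha_add] at h
    linarith
  rw [hsum, cr_left_self, cr_of_alpha_eq_zero hαC]
  exact (pp_of_not_isZero k hL hC hC0 hpC).smul (alpha_pos_of_isPure k hL hp ι hF h0 hpF)

include hL in
theorem isEllSemistable_of_isSemistable (ℓ : ℕ) (hE : ShStab.IsSemistable k X L E d) :
    ShStab.IsEllSemistable k X L E d ℓ := by
  obtain ⟨hc, h0, hp, hs⟩ := hE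
  refine ⟨hc, h0, hp, fun F ι hι hF pF pE hpF hpE h1 h2 => ?_⟩
  haveI := hι
  have hF0 : ¬ IsZero F := fun h => by
    rw [eq_zero_of_isZero k h hpF] at h1
    simp [StabCat.alpha] at h1
  have hi : ¬ IsIso ι := fun h => by
    rw [isHilbPoly_unique k (isHilbPoly_iso k (asIso ι) hpF) hpE] at h2
    exact lt_irrefl _ h2
  rw [redLE_iff, cr_topPart]
  exact nn_topPart ((redLE_iff d).mp (hs F ι hι hF hF0 hi pF pE hpF hpE))
    (natDegree_cr_le' (natDegree_of_isPure k hL hp ι hF hF0 hpF).le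
      (natDegree_of_isPure k hL hp (𝟙 E) hc h0 hpE).le)

include hL in
theorem isSemistable_iff_ell_self :
    ShStab.IsSemistable k X L E d ↔ ShStab.IsEllSemistable k X L E d d := by
  refine ⟨isEllSemistable_of_isSemistable k hL d, fun ⟨hc, h0, hp, hs⟩ => ⟨hc, h0, hp, ?_⟩⟩
  intro F ι hι hF hF0 hi pF pE hpF hpE
  haveI := hι
  rw [redLE_iff]
  by_cases hlt : StabCat.alpha d pF < StabCat.alpha d pE
  · have := (redLE_iff d).mp
      (hs F ι hι hF pF pE hpF hpE (alpha_pos_of_isPure k hL hp ι hF hF0 hpF) hlt)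
    rwa [cr_topPart, topPart_eq_self (natDegree_cr_le' (natDegree_of_isPure k hL hp ι hF hF0 hpF).le
      (natDegree_of_isPure k hL hp (𝟙 E) hc h0 hpE).le)] at this
  · exact (pp_cr_of_alpha_ge k hL hp hc ι hF hF0 hi hpF hpE (not_lt.mp hlt)).nn

include hL in
theorem isStable_iff_ell_self :
    ShStab.IsStable k X L E d ↔ ShStab.IsEllStable k X L E d d := by
  refine ⟨fun ⟨hc, h0, hp, hs⟩ => ⟨hc, h0, hp, ?_⟩, fun ⟨hc, h0, hp, hs⟩ => ⟨hc, h0, hp, ?_⟩⟩
  · intro F ι hι hF pF pE hpF hpE h1 h2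
    haveI := hι
    have hF0 : ¬ IsZero F := fun h => by
      rw [eq_zero_of_isZero k h hpF] at h1
      simp [StabCat.alpha] at h1
    have hi : ¬ IsIso ι := fun h => by
      rw [isHilbPoly_unique k (isHilbPoly_iso k (asIso ι) hpF) hpE] at h2
      exact lt_irrefl _ h2
    rw [redLT_iff, cr_topPart, topPart_eq_self (natDegree_cr_le'
      (natDegree_of_isPure k hL hp ι hF hF0 hpF).le
      (natDegree_of_isPure k hL hp (𝟙 E) hc h0 hpE).le)]
    exact (redLT_iff d).mp (hs F ι hι hF hF0 hi pF pE hpF hpE)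
  · intro F ι hι hF hF0 hi pF pE hpF hpE
    haveI := hι
    rw [redLT_iff]
    by_cases hlt : StabCat.alpha d pF < StabCat.alpha d pE
    · have := (redLT_iff d).mp
        (hs F ι hι hF pF pE hpF hpE (alpha_pos_of_isPure k hL hp ι hF hF0 hpF) hlt)
      rwa [cr_topPart, topPart_eq_self (natDegree_cr_le'
        (natDegree_of_isPure k hL hp ι hF hF0 hpF).le
        (natDegree_of_isPure k hL hp (𝟙 E) hc h0 hpE).le)] at this
    · exact pp_cr_of_alpha_ge k hL hp hc ι hF hF0 hi hpF hpE (not_lt.mp hlt)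

end Groth.HilbStab
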