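import Groth.Agent.HilbStab.Lattice
import Groth.Agent.HilbStab.Trunc

/-!
# Harder–Narasimhan theory for truncated comparisons
-/

set_option autoImplicit false

open Polynomial

namespace Groth.HilbStab

universe u

/-- The truncated cross-multiplied difference of reduced polynomials. -/
noncomputable def ecr (ℓ d : ℕ) (P Q : ℚ[X]) : ℚ[X] := StabCat.topPart ℓ d (cr d P Q)

section ecr

variable {ℓ d : ℕ}

theorem topPart_add (P Q : ℚ[X]) :
    StabCat.topPart ℓ d (P + Q) = StabCat.topPart ℓ d P + StabCat.topPart ℓ d Q := by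
  ext i
  simp only [coeff_topPart, coeff_add]
  split_ifs <;> simp

theorem topPart_zero : StabCat.topPart ℓ d (0 : ℚ[X]) = 0 := by
  ext i
  simp [coeff_topPart]

theorem topPart_neg (P : ℚ[X]) : StabCat.topPart ℓ d (-P) = -StabCat.topPart ℓ d P := by
  rw [← neg_one_smul ℚ P, topPart_smul, neg_one_smul]

theorem ecr_self (P : ℚ[X]) : ecr ℓ d P P = 0 := by rw [ecr, cr_self, topPart_zero]

theorem ecr_swap (P Q : ℚ[X]) : ecr ℓ d Q P = - ecr ℓ d P Q := by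
  rw [ecr, cr_swap, topPart_neg]; rfl

theorem ecr_add_left (P Q R : ℚ[X]) : ecr ℓ d (P + Q) R = ecr ℓ d P R + ecr ℓ d Q R := by
  rw [ecr, cr_add_left, topPart_add]; rfl

theorem ecr_add_right (P Q R : ℚ[X]) : ecr ℓ d P (Q + R) = ecr ℓ d P Q + ecr ℓ d P R := by
  rw [ecr, cr_add_right, topPart_add]; rfl

theorem ecr_left_self (A C : ℚ[X]) : ecr ℓ d A (A + C) = ecr ℓ d A C := by
  rw [ecr_add_right, ecr_self, zero_add]

theorem ecr_right_self (A C : ℚ[X]) : ecr ℓ d (A + C) C = ecr ℓ d A C := by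
  rw [ecr_add_left, ecr_self, add_zero]

theorem ecr_trans_eq (P Q R : ℚ[X]) : StabCat.alpha d Q • ecr ℓ d P R =
    StabCat.alpha d R • ecr ℓ d P Q + StabCat.alpha d P • ecr ℓ d Q R := by
  unfold ecr
  rw [← topPart_smul, ← topPart_smul, ← topPart_smul, ← topPart_add, cr_trans_eq]

theorem nn_ecr_trans {P Q R : ℚ[X]} (hP : 0 ≤ StabCat.alpha d P) (hQ : 0 < StabCat.alpha d Q)
    (hR : 0 ≤ StabCat.alpha d R) (h₁ : NN (ecr ℓ d P Q)) (h₂ : NN (ecr ℓ d Q R)) :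
    NN (ecr ℓ d P R) := by
  rw [← nn_smul_iff hQ, ecr_trans_eq]
  exact (h₁.smul hR).add (h₂.smul hP)

theorem pp_ecr_trans_left {P Q R : ℚ[X]} (hP : 0 ≤ StabCat.alpha d P) (hQ : 0 < StabCat.alpha d Q)
    (hR : 0 < StabCat.alpha d R) (h₁ : PP (ecr ℓ d P Q)) (h₂ : NN (ecr ℓ d Q R)) :
    PP (ecr ℓ d P R) := by
  rw [← pp_smul_iff hQ, ecr_trans_eq]
  exact (h₁.smul hR).add_nn (h₂.smul hP)

theorem pp_ecr_trans_right {P Q R : ℚ[X]} (hP : 0 < StabCat.alpha d P) (hQ : 0 < StabCat.alpha d Q)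
    (hR : 0 ≤ StabCat.alpha d R) (h₁ : NN (ecr ℓ d P Q)) (h₂ : PP (ecr ℓ d Q R)) :
    PP (ecr ℓ d P R) := by
  rw [← pp_smul_iff hQ, ecr_trans_eq]
  exact (h₁.smul hR).add_pp (h₂.smul hP)

theorem ecr_of_alpha_eq_zero {P T : ℚ[X]} (hT : StabCat.alpha d T = 0) :
    ecr ℓ d P T = StabCat.alpha d P • StabCat.topPart ℓ d T := by
  rw [ecr, cr_of_alpha_eq_zero hT, topPart_smul]

/-- Strict truncated comparisons imply strict comparisons. -/
theorem redLT_topPart_iff {P Q : ℚ[X]} :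
    StabCat.RedLT d (StabCat.topPart ℓ d P) (StabCat.topPart ℓ d Q) ↔ PP (ecr ℓ d P Q) := by
  rw [redLT_iff, cr_topPart]; rfl

theorem redLE_topPart_iff {P Q : ℚ[X]} :
    StabCat.RedLE d (StabCat.topPart ℓ d P) (StabCat.topPart ℓ d Q) ↔ NN (ecr ℓ d P Q) := by
  rw [redLE_iff, cr_topPart]; rfl

theorem redEq_topPart_iff {P Q : ℚ[X]} :
    StabCat.RedEq d (StabCat.topPart ℓ d P) (StabCat.topPart ℓ d Q) ↔ ecr ℓ d P Q = 0 := by
  rw [redEq_iff, cr_topPart]; rfl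

theorem topPart_one_eq {d : ℕ} (hd : 1 ≤ d) {P : ℚ[X]} (h : P.coeff d = 0) :
    StabCat.topPart 1 d P = monomial (d - 1) (P.coeff (d - 1)) := by
  ext i
  rw [coeff_topPart, coeff_monomial]
  rcases eq_or_ne i d with rfl | hi
  · rw [if_neg (by omega : ¬ i - 1 = i)]
    split_ifs <;> simp [h]
  · split_ifs with h1 h2 h3
    · rw [← h2]
    · exfalso; omega
    · exfalso; omega
    · rfl

theorem ecr_one_leadingCoeff {d : ℕ} (hd : 1 ≤ d) (P Q : ℚ[X]) :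
    (ecr 1 d P Q).leadingCoeff =
      StabCat.alpha d P * Q.coeff (d - 1) - StabCat.alpha d Q * P.coeff (d - 1) := by
  have h : (cr d P Q).coeff d = 0 := by
    simp only [cr, coeff_sub, coeff_smul, smul_eq_mul, StabCat.alpha]
    ring
  rw [ecr, topPart_one_eq hd h, leadingCoeff_monomial]
  simp [cr]

theorem nn_ecr_one_iff {d : ℕ} (hd : 1 ≤ d) {P Q : ℚ[X]} (hP : 0 < StabCat.alpha d P)
    (hQ : 0 < StabCat.alpha d Q) :
    NN (ecr 1 d P Q) ↔ StabCat.hatSlope d P ≤ StabCat.hatSlope d Q := by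
  have hf : (0 : ℚ) < ((d - 1).factorial : ℚ) := by exact_mod_cast Nat.factorial_pos _
  rw [NN, ecr_one_leadingCoeff hd, StabCat.hatSlope, StabCat.hatSlope, div_le_div_iff₀ hP hQ,
    sub_nonneg]
  have e : ∀ R : ℚ[X], StabCat.alpha (d - 1) R = (d - 1).factorial * R.coeff (d - 1) := fun _ => rfl
  rw [e, e]
  refine ⟨fun h => ?_, fun h => le_of_mul_le_mul_left (by linarith) hf⟩
  have := mul_le_mul_of_nonneg_left h hf.le
  linarith

theorem pp_ecr_one_iff {d : ℕ} (hd : 1 ≤ d) {P Q : ℚ[X]} (hP : 0 < StabCat.alpha d P)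
    (hQ : 0 < StabCat.alpha d Q) :
    PP (ecr 1 d P Q) ↔ StabCat.hatSlope d P < StabCat.hatSlope d Q := by
  rw [← not_le, ← nn_ecr_one_iff hd hQ hP, ecr_swap, pp_neg_iff]

end ecr

namespace PolyLattice

variable {α : Type u} [Lattice α] {d : ℕ} {S : PolyLattice α d} {ℓ : ℕ}

variable (S ℓ)

/-- The interval is `ℓ`-semistable. -/
def ESS (a b : α) : Prop :=
  a < b ∧ S.Pure a b ∧ ∀ c, a < c → c < b → NN (ecr ℓ d (S.Q a c) (S.Q a b))

/-- The `ℓ`-maximal destabilising element above `a` in `[a, b]`. -/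
def IsEMaxD (a b D : α) : Prop :=
  a < D ∧ D ≤ b ∧ ∀ c, a < c → c ≤ b →
    NN (ecr ℓ d (S.Q a c) (S.Q a D)) ∧ (ecr ℓ d (S.Q a c) (S.Q a D) = 0 → c ≤ D)

variable {S ℓ}

theorem nn_topPart_Q {a b : α} (h : a ≤ b) : NN (StabCat.topPart ℓ d (S.Q a b)) := by
  refine nn_topPart ?_ (S.natDegree_le h)
  rcases eq_or_lt_of_le h with rfl | h
  · rw [S.Q_self]; exact nn_zero
  · exact (S.pp_of_lt h).nn

theorem ESS.le {a b c : α} (h : S.ESS ℓ a b) (hc : a < c) (hcb : c ≤ b) :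
    NN (ecr ℓ d (S.Q a c) (S.Q a b)) := by
  rcases eq_or_lt_of_le hcb with rfl | e
  · rw [ecr_self]; exact nn_zero
  · exact h.2.2 c hc e

theorem ecr_step (a b c : α) :
    ecr ℓ d (S.Q a b) (S.Q a c) = ecr ℓ d (S.Q a b) (S.Q b c) := by
  rw [S.Q_add a b c, ecr_left_self]

theorem ecr_step' (a b c : α) :
    ecr ℓ d (S.Q a c) (S.Q b c) = ecr ℓ d (S.Q a b) (S.Q b c) := by
  rw [S.Q_add a b c, ecr_right_self]

theorem nn_of_μ_eq {a b c : α} (hab : 0 ≤ S.μ a b) (hbc : b ≤ c) (h : S.μ b c = 0) :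
    NN (ecr ℓ d (S.Q a b) (S.Q a c)) := by
  rw [ecr_step, ecr_of_alpha_eq_zero h]
  exact (nn_topPart_Q hbc).smul hab

theorem Pure.trans {a c b : α} (h₁ : S.Pure a c) (h₂ : S.Pure c b) (hac : a ≤ c) (hcb : c ≤ b) :
    S.Pure a b := by
  intro x hx hxb
  refine le_antisymm (S.natDegree_le hx.le) (not_lt.mp fun hlt => ?_)
  have h0 : S.μ a x = 0 := by
    rw [μ, StabCat.alpha, coeff_eq_zero_of_natDegree_lt hlt, mul_zero]
  have e := congrArg (StabCat.alpha d) (S.Q_sup a x c)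
  rw [alpha_add, alpha_add] at e
  change S.μ a (x ⊔ c) + S.μ a (x ⊓ c) = S.μ a x + S.μ a c at e
  rw [S.μ_add a c (x ⊔ c), h0] at e
  rcases eq_or_lt_of_le (le_inf hx.le hac : a ≤ x ⊓ c) with e' | e'
  · have : c < x ⊔ c := by
      refine lt_of_le_of_ne le_sup_right fun e'' => hx.ne ?_
      rw [e']
      exact (inf_eq_left.mpr (le_sup_left.trans e''.ge))
    have := h₂.μ_pos this (sup_le hxb hcb)
    rw [← e'] at e
    have hz : S.μ a a = 0 := by simp [μ, S.Q_self, StabCat.alpha]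
    linarith
  · have := h₁.μ_pos e' inf_le_right
    linarith [S.μ_nonneg (le_sup_right : c ≤ x ⊔ c)]

variable (S ℓ)

theorem exists_isEMaxD [WellFoundedGT α] {a b : α} (hab : a < b) (hp : S.Pure a b) :
    ∃ D, S.IsEMaxD ℓ a b D := by
  obtain ⟨n, hn⟩ := S.Q_natural hab.le
  induction n using Nat.strong_induction_on generalizing b with
  | _ n ih =>
  by_cases hs : ∀ c, a < c → c < b → NN (ecr ℓ d (S.Q a c) (S.Q a b))
  · exact ⟨b, hab, le_rfl, fun c hc hcb => ⟨ESS.le ⟨hab, hp, hs⟩ hc hcb, fun _ => hcb⟩⟩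
  push Not at hs
  let T : Set α := {c | a < c ∧ c < b ∧ ¬ NN (ecr ℓ d (S.Q a c) (S.Q a b))}
  obtain ⟨M, ⟨haM, hMb, hM⟩, hmax⟩ := (wellFounded_gt (α := α)).has_min T (by
    obtain ⟨c, h1, h2, h3⟩ := hs
    exact ⟨c, h1, h2, h3⟩)
  have hμM : 0 < S.μ a M := hp.μ_pos haM hMb.le
  obtain ⟨m, hm⟩ := S.Q_natural haM.le
  have hlt : m < n := by
    by_contra hle
    push Not at hle
    have h0 : S.μ M b = 0 := by
      have h1 := S.μ_add a M b
      have h2 : (n : ℚ) ≤ m := by exact_mod_cast hle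
      linarith [S.μ_nonneg hMb.le]
    exact hM (nn_of_μ_eq hμM.le hMb.le h0)
  obtain ⟨D, haD, hDM, hD⟩ := ih m hlt haM (hp.mono hMb.le) hm
  have hμD : 0 < S.μ a D := hp.μ_pos haD (hDM.trans hMb.le)
  refine ⟨D, haD, hDM.trans hMb.le, fun c hc hcb => ?_⟩
  by_cases hDc : NN (ecr ℓ d (S.Q a D) (S.Q a c))
  swap
  · rw [ecr_swap (S.Q a D)]
    have h := pp_neg_iff.mpr hDc
    exact ⟨h.nn, fun e => absurd (e ▸ h) not_pp_zero⟩
  -- `c` is at least as destabilising as `D`, so it lies below `M`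
  suffices hcM : c ≤ M from hD c hc hcM
  by_contra hcM
  have hMs : M < c ⊔ M := lt_of_le_of_ne le_sup_right fun e => hcM (le_sup_left.trans e.ge)
  have hsb : c ⊔ M ≤ b := sup_le hcb hMb.le
  have has : a < c ⊔ M := haM.trans hMs
  have hμc := hp.μ_pos hc hcb
  have hμs := hp.μ_pos has hsb
  have hμb := hp.μ_pos hab le_rfl
  have hsle : NN (ecr ℓ d (S.Q a (c ⊔ M)) (S.Q a b)) := by
    by_contra h
    refine hmax _ ⟨has, lt_of_le_of_ne hsb fun e => h ?_, h⟩ hMs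
    rw [e, ecr_self]
    exact nn_zero
  have hbM : PP (ecr ℓ d (S.Q a b) (S.Q a M)) := by
    rw [ecr_swap]
    exact pp_neg_iff.mpr hM
  have hsM : PP (ecr ℓ d (S.Q a (c ⊔ M)) (S.Q a M)) :=
    pp_ecr_trans_right hμs hμb hμM.le hsle hbM
  have hMc : NN (ecr ℓ d (S.Q a M) (S.Q a c)) :=
    nn_ecr_trans hμM.le hμD hμc.le (hD M haM le_rfl).1 hDc
  have hsc : PP (ecr ℓ d (S.Q a (c ⊔ M)) (S.Q a c)) :=
    pp_ecr_trans_left hμs.le hμM hμc hsM hMc
  set K := c ⊓ M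
  have haK : a ≤ K := le_inf hc.le haM.le
  have hsK : ecr ℓ d (S.Q a (c ⊔ M)) (S.Q a K) =
      ecr ℓ d (S.Q a (c ⊔ M)) (S.Q a c) + ecr ℓ d (S.Q a (c ⊔ M)) (S.Q a M) := by
    rw [← ecr_add_right, ← S.Q_sup a c M, ecr_add_right, ecr_self, zero_add]
  have hsKpos : PP (ecr ℓ d (S.Q a (c ⊔ M)) (S.Q a K)) := hsK ▸ hsc.add_nn hsM.nn
  rcases eq_or_lt_of_le haK with e | hK
  · rw [← e, S.Q_self] at hsKpos
    simp [ecr, cr, StabCat.alpha, topPart_zero, not_pp_zero] at hsKpos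
  have hKc : S.μ a K ≤ S.μ a c := by
    have h1 := S.μ_add a K c
    linarith [S.μ_nonneg (inf_le_left : K ≤ c)]
  have key : PP (ecr ℓ d (S.Q a c) (S.Q a K)) := by
    rw [← pp_smul_iff hμs]
    have e : StabCat.alpha d (S.Q a (c ⊔ M)) • ecr ℓ d (S.Q a c) (S.Q a K) =
        (S.μ a c - S.μ a K) • ecr ℓ d (S.Q a (c ⊔ M)) (S.Q a c) +
          S.μ a c • ecr ℓ d (S.Q a (c ⊔ M)) (S.Q a M) := by
      rw [ecr_trans_eq, hsK, ecr_swap (S.Q a (c ⊔ M)) (S.Q a c)]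
      unfold μ
      module
    exact e ▸ (hsc.nn.smul (sub_nonneg.mpr hKc)).add_pp (hsM.smul hμc)
  have hμK := hp.μ_pos hK (inf_le_left.trans hcb)
  have h2 : NN (ecr ℓ d (S.Q a K) (S.Q a c)) :=
    nn_ecr_trans hμK.le hμD hμc.le (hD K hK inf_le_right).1 hDc
  rw [ecr_swap, nn_neg_iff] at h2
  exact h2 key

variable {S ℓ}

theorem IsEMaxD.ess {a b D : α} (h : S.IsEMaxD ℓ a b D) (hp : S.Pure a b) : S.ESS ℓ a D :=
  ⟨h.1, hp.mono h.2.1, fun c h1 h2 => (h.2.2 c h1 (h2.le.trans h.2.1)).1⟩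

theorem IsEMaxD.pp_step {a b D : α} (h : S.IsEMaxD ℓ a b D) {c : α} (hc : D < c) (hcb : c ≤ b) :
    PP (ecr ℓ d (S.Q D c) (S.Q a D)) := by
  obtain ⟨h1, h2⟩ := h.2.2 c (h.1.trans hc) hcb
  have h3 : PP (ecr ℓ d (S.Q a c) (S.Q a D)) := by
    rcases nn_iff.mp h1 with e | e
    · exact absurd (h2 e) hc.not_ge
    · exact e
  rwa [ecr_swap, ecr_step, ← ecr_swap] at h3

theorem IsEMaxD.pure {a b D : α} (h : S.IsEMaxD ℓ a b D) (hp : S.Pure a b) : S.Pure D b := by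
  intro c hc hcb
  refine le_antisymm (S.natDegree_le hc.le) (not_lt.mp fun hlt => ?_)
  have h0 : StabCat.alpha d (S.Q D c) = 0 := by
    rw [StabCat.alpha, coeff_eq_zero_of_natDegree_lt hlt, mul_zero]
  have h1 := h.pp_step hc hcb
  rw [ecr_swap, ecr_of_alpha_eq_zero h0, pp_neg_iff] at h1
  exact h1 ((nn_topPart_Q hc.le).smul (S.μ_nonneg h.1.le))

theorem IsEMaxD.unique {a b D D' : α} (h : S.IsEMaxD ℓ a b D) (h' : S.IsEMaxD ℓ a b D') :
    D = D' := by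
  have h1 := h.2.2 D' h'.1 h'.2.1
  have h2 := h'.2.2 D h.1 h.2.1
  have h0 : ecr ℓ d (S.Q a D) (S.Q a D') = 0 := by
    rcases nn_iff.mp h2.1 with e | e
    · exact e
    · have h3 := h1.1
      rw [ecr_swap, nn_neg_iff] at h3
      exact absurd e h3
  exact le_antisymm (h2.2 h0) (h1.2 (by rw [ecr_swap, h0, neg_zero]))

variable (S ℓ)

/-- `ℓ`-Harder–Narasimhan chains from `a` up to `b`. -/
def IsEHN : α → α → List α → Prop
  | a, b, [] => a = b
  | a, b, c :: l =>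
      S.ESS ℓ a c ∧ (∀ c' ∈ l.head?, PP (ecr ℓ d (S.Q c c') (S.Q a c))) ∧ IsEHN c b l

variable {S ℓ}

theorem IsEHN.le {b : α} : ∀ {l : List α} {a : α}, S.IsEHN ℓ a b l → a ≤ b
  | [], _, h => le_of_eq h
  | _ :: _, _, h => h.1.1.le.trans (IsEHN.le h.2.2)

theorem IsEHN.pure {b : α} : ∀ {l : List α} {a : α}, S.IsEHN ℓ a b l → S.Pure a b
  | [], a, h => fun x hx hxb => absurd (lt_of_lt_of_le hx hxb) (by
      change a = b at h; simp [h])
  | _ :: _, _, h => h.1.2.1.trans (IsEHN.pure h.2.2) h.1.1.le h.2.2.le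

theorem IsEHN.isEMaxD {b : α} :
    ∀ {l : List α} {a c : α}, S.IsEHN ℓ a b (c :: l) → S.IsEMaxD ℓ a b c
  | [], a, c, h => by
    obtain ⟨hss, -, e⟩ := h
    change c = b at e
    subst e
    exact ⟨hss.1, le_rfl, fun x hx hxb => ⟨hss.le hx hxb, fun _ => hxb⟩⟩
  | c₂ :: l, a, c, h => by
    obtain ⟨hss, hdec, htl⟩ := h
    refine ⟨hss.1, htl.le, fun x hx hxb => ?_⟩
    by_cases hxc : x ≤ c
    · exact ⟨hss.le hx hxc, fun _ => hxc⟩
    obtain ⟨hc₂, -, hmax⟩ := IsEHN.isEMaxD htl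
    have hs : c < x ⊔ c := lt_of_le_of_ne le_sup_right fun e => hxc (le_sup_left.trans e.ge)
    have hμc : 0 < S.μ a c := hss.2.1.μ_pos hss.1 le_rfl
    have hμ₂ : 0 < S.μ c c₂ := htl.1.2.1.μ_pos hc₂ le_rfl
    have hμs : 0 < S.μ c (x ⊔ c) := htl.pure.μ_pos hs (sup_le hxb htl.le)
    have hstep : PP (ecr ℓ d (S.Q c (x ⊔ c)) (S.Q a c)) :=
      pp_ecr_trans_right hμs hμ₂ hμc.le (hmax _ hs (sup_le hxb htl.le)).1 (hdec c₂ rfl)
    have e : S.Q a x = S.Q a (x ⊓ c) + S.Q c (x ⊔ c) := by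
      have := S.Q_sup a x c
      rw [S.Q_add a c (x ⊔ c)] at this
      linear_combination -this
    have hK : NN (ecr ℓ d (S.Q a (x ⊓ c)) (S.Q a c)) := by
      rcases eq_or_lt_of_le (le_inf hx.le hss.1.le : a ≤ x ⊓ c) with e' | e'
      · rw [← e', S.Q_self]
        simp [ecr, cr, StabCat.alpha, topPart_zero, nn_zero]
      · exact hss.le e' inf_le_right
    have hx' : PP (ecr ℓ d (S.Q a x) (S.Q a c)) := by
      rw [e, ecr_add_left]
      exact hK.add_pp hstep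
    exact ⟨hx'.nn, fun e0 => absurd (e0 ▸ hx') not_pp_zero⟩

theorem IsEHN.lt_of_cons {b a c : α} {l : List α} (h : S.IsEHN ℓ a b (c :: l)) : a < b :=
  h.1.1.trans_le h.2.2.le

theorem IsEHN.unique {b : α} : ∀ {l l' : List α} {a : α},
    S.IsEHN ℓ a b l → S.IsEHN ℓ a b l' → l = l'
  | [], [], _, _, _ => rfl
  | [], _ :: _, _, h, h' => absurd h h'.lt_of_cons.ne
  | _ :: _, [], _, h, h' => absurd h' h.lt_of_cons.ne
  | c :: l, c' :: l', a, h, h' => by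
    obtain rfl := h.isEMaxD.unique h'.isEMaxD
    exact congrArg (c :: ·) (IsEHN.unique h.2.2 h'.2.2)

theorem exists_isEHN [WellFoundedGT α] (b : α) :
    ∀ a, a ≤ b → S.Pure a b → ∃ l, S.IsEHN ℓ a b l := by
  intro a
  induction a using WellFoundedGT.induction with
  | ind a ih =>
    intro hab hp
    rcases eq_or_lt_of_le hab with e | hlt
    · exact ⟨[], e⟩
    obtain ⟨D, hD⟩ := S.exists_isEMaxD ℓ hlt hp
    obtain ⟨l, hl⟩ := ih D hD.1 hD.2.1 (hD.pure hp)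
    refine ⟨D :: l, hD.ess hp, ?_, hl⟩
    intro c hc
    cases l with
    | nil => simp at hc
    | cons c₂ l =>
      obtain rfl : c₂ = c := by simpa using hc
      exact hD.pp_step hl.1.1 hl.2.2.le

end PolyLattice

end Groth.HilbStab
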