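import Groth.Agent.HilbStab.ELattice
import Groth.Agent.HilbStab.Series

/-!
# `ℓ`-Harder–Narasimhan filtrations and slope semistability
-/

set_option autoImplicit false

universe u

open CategoryTheory CategoryTheory.Limits AlgebraicGeometry
open Groth.PicAux

namespace Groth.HilbStab

namespace PolyLattice

variable {α : Type u} [Lattice α] {d : ℕ} {S : PolyLattice α d} {ℓ : ℕ}

theorem isEHN_ofFn : ∀ {n : ℕ} (c : Fin (n + 1) → α),
    (∀ i : Fin n, S.ESS ℓ (c i.castSucc) (c i.succ)) →
    (∀ i j : Fin n, i.val + 1 = j.val →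
      PP (ecr ℓ d (S.Q (c j.castSucc) (c j.succ)) (S.Q (c i.castSucc) (c i.succ)))) →
    S.IsEHN ℓ (c 0) (c (Fin.last n)) (List.ofFn fun i : Fin n => c i.succ)
  | 0, c, _, _ => by simp [IsEHN]
  | n + 1, c, hss, hpp => by
    rw [List.ofFn_succ]
    refine ⟨by simpa using hss 0, ?_, ?_⟩
    · intro c' hc'
      cases n with
      | zero => simp at hc'
      | succ m =>
        rw [List.ofFn_succ] at hc'
        simp only [List.head?_cons, Option.mem_def, Option.some.injEq] at hc'
        subst hc'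
        simpa using hpp 0 1 rfl
    · have := isEHN_ofFn (fun i : Fin (n + 1) => c i.succ) (fun i => by simpa using hss i.succ)
        (fun i j h => by simpa using hpp i.succ j.succ (by simp [← h]))
      simpa using this

theorem exists_fn_of_isEHN : ∀ {l : List α} {a b : α}, S.IsEHN ℓ a b l →
    ∃ (n : ℕ) (c : Fin (n + 1) → α), c 0 = a ∧ c (Fin.last n) = b ∧
      (l = List.ofFn fun i : Fin n => c i.succ) ∧
      (∀ i : Fin n, S.ESS ℓ (c i.castSucc) (c i.succ)) ∧
      (∀ i j : Fin n, i.val + 1 = j.val →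
        PP (ecr ℓ d (S.Q (c j.castSucc) (c j.succ)) (S.Q (c i.castSucc) (c i.succ))))
  | [], a, b, h => ⟨0, fun _ => a, rfl, h, by simp, fun i => i.elim0, fun i => i.elim0⟩
  | x :: l, a, b, ⟨hss, hdec, htl⟩ => by
    obtain ⟨n, c, h0, hlast, hl, hs, hp⟩ := exists_fn_of_isEHN htl
    refine ⟨n + 1, Fin.cons a c, rfl, by simpa [← Fin.succ_last] using hlast, ?_, ?_, ?_⟩
    · rw [List.ofFn_succ]
      simp [h0, hl]
    · intro i
      cases i using Fin.cases with
      | zero => simpa [h0] using hss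
      | succ i => simpa [Fin.castSucc_succ, ← Fin.succ_castSucc] using hs i
    · intro i j hij
      cases j using Fin.cases with
      | zero => simp at hij
      | succ j =>
        cases i using Fin.cases with
        | zero =>
          cases n with
          | zero => exact j.elim0
          | succ m =>
            obtain rfl : j = 0 := Fin.ext (by simpa using hij.symm)
            have := hdec (c (0 : Fin (m + 1)).succ) (by rw [hl, List.ofFn_succ]; simp)
            simp only [Fin.cons_succ, Fin.cons_zero, Fin.castSucc_zero, ← Fin.succ_castSucc, h0]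
              at this ⊢
            exact this
        | succ i =>
          have := hp i j (by simpa using hij)
          simpa [← Fin.succ_castSucc] using this

theorem nn_ecr_of_μ_eq_zero {a b e f : α} (hab : a ≤ b) (hef : e ≤ f) (h : S.μ a b = 0) :
    NN (ecr ℓ d (S.Q e f) (S.Q a b)) := by
  rw [ecr_of_alpha_eq_zero h]
  exact (nn_topPart_Q hab).smul (S.μ_nonneg hef)

/-- The last `ℓ`-factor is minimal among quotients, with equality only for quotients of it. -/
theorem ecr_last {n : ℕ} (c : Fin (n + 1) → α)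
    (hss : ∀ i : Fin n, S.ESS ℓ (c i.castSucc) (c i.succ))
    (hpp : ∀ i j : Fin n, i.val + 1 = j.val →
      PP (ecr ℓ d (S.Q (c j.castSucc) (c j.succ)) (S.Q (c i.castSucc) (c i.succ))))
    (m : Fin n) (hm : m.val + 1 = n) {C : α} (hC : c 0 ≤ C) (hCb : C ≤ c (Fin.last n)) :
    NN (ecr ℓ d (S.Q (c m.castSucc) (c m.succ)) (S.Q C (c (Fin.last n)))) ∧
      (ecr ℓ d (S.Q (c m.castSucc) (c m.succ)) (S.Q C (c (Fin.last n))) = 0 →
        S.Pure C (c (Fin.last n)) → c m.castSucc ≤ C) := by
  have hpos : ∀ i : Fin n, 0 < S.μ (c i.castSucc) (c i.succ) := fun i =>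
    (hss i).2.1.μ_pos (hss i).1 le_rfl
  have hmono : ∀ (t : ℕ) (i : Fin n), i.val + t + 1 = n →
      NN (ecr ℓ d (S.Q (c m.castSucc) (c m.succ)) (S.Q (c i.castSucc) (c i.succ))) ∧
      (i.val < m.val →
        PP (ecr ℓ d (S.Q (c m.castSucc) (c m.succ)) (S.Q (c i.castSucc) (c i.succ)))) := by
    intro t
    induction t with
    | zero =>
      intro i hi
      obtain rfl : i = m := Fin.ext (by omega)
      rw [ecr_self]; exact ⟨nn_zero, fun h => absurd h (lt_irrefl _)⟩
    | succ t ih =>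
      intro i hi
      let j : Fin n := ⟨i.val + 1, by omega⟩
      have h := pp_ecr_trans_right (hpos m) (hpos j) (hpos i).le
        (ih j (by simp [j]; omega)).1 (hpp i j rfl)
      exact ⟨h.nn, fun _ => h⟩
  have hmle : c m.castSucc ≤ c m.succ := (hss m).1.le
  have hstrict : StrictMono c := Fin.strictMono_iff_lt_succ.mpr fun j => (hss j).1
  suffices key : ∀ i : Fin (n + 1), ∀ D, c i ≤ D → D ≤ c (Fin.last n) →
      NN (ecr ℓ d (S.Q (c m.castSucc) (c m.succ)) (S.Q D (c (Fin.last n)))) ∧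
      (ecr ℓ d (S.Q (c m.castSucc) (c m.succ)) (S.Q D (c (Fin.last n))) = 0 →
        S.Pure D (c (Fin.last n)) → c m.castSucc ≤ D) from key 0 C hC hCb
  intro i
  induction i using Fin.reverseInduction with
  | last =>
    intro D h1 h2
    obtain rfl := le_antisymm h2 h1
    exact ⟨nn_ecr_of_μ_eq_zero le_rfl hmle (by simp [μ, S.Q_self, StabCat.alpha]),
      fun _ _ => hstrict.monotone (Fin.le_last _)⟩
  | cast i ih =>
    intro D h1 h2
    have hi : c i.castSucc ≤ c i.succ := (hss i).1.le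
    have hle : c i.succ ≤ c (Fin.last n) := hstrict.monotone (Fin.le_last _)
    obtain ⟨ih1, -⟩ := ih _ (le_sup_right : c i.succ ≤ D ⊔ c i.succ) (sup_le h2 hle)
    have hQ : S.Q D (D ⊔ c i.succ) = S.Q (D ⊓ c i.succ) (c i.succ) := by
      simp only [Q]; linear_combination S.modular D (c i.succ)
    have hstep : NN (ecr ℓ d (S.Q (c m.castSucc) (c m.succ)) (S.Q D (D ⊔ c i.succ))) ∧
        (i.val < m.val → 0 < S.μ D (D ⊔ c i.succ) →
          PP (ecr ℓ d (S.Q (c m.castSucc) (c m.succ)) (S.Q D (D ⊔ c i.succ)))) := by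
      rw [μ, hQ]
      obtain ⟨hm1, hm2⟩ := hmono (n - i.val - 1) i (by omega)
      have hquot : 0 < StabCat.alpha d (S.Q (D ⊓ c i.succ) (c i.succ)) →
          NN (ecr ℓ d (S.Q (c i.castSucc) (c i.succ)) (S.Q (D ⊓ c i.succ) (c i.succ))) := by
        intro _
        rcases eq_or_lt_of_le (le_inf h1 hi : c i.castSucc ≤ D ⊓ c i.succ) with e' | e'
        · rw [← e', ecr_self]; exact nn_zero
        · have := (hss i).le e' inf_le_right
          rwa [ecr_step, ← ecr_step'] at this
      refine ⟨?_, fun hlt hμ => pp_ecr_trans_left (hpos m).le (hpos i) hμ (hm2 hlt) (hquot hμ)⟩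
      rcases eq_or_lt_of_le (S.μ_nonneg (inf_le_right : D ⊓ c i.succ ≤ c i.succ)) with e | e
      · exact nn_ecr_of_μ_eq_zero inf_le_right hmle e.symm
      · exact nn_ecr_trans (hpos m).le (hpos i) e.le hm1 (hquot e)
    rw [S.Q_add D (D ⊔ c i.succ) (c (Fin.last n)), ecr_add_right]
    refine ⟨hstep.1.add ih1, fun h0 hpure => ?_⟩
    by_cases hlt : i.val < m.val
    · by_cases hle' : c i.succ ≤ D
      · refine (ih D hle' h2).2 ?_ hpure
        rw [S.Q_add D (D ⊔ c i.succ) (c (Fin.last n)), ecr_add_right]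
        exact h0
      · have hμ : 0 < S.μ D (D ⊔ c i.succ) := hpure.μ_pos
          (lt_of_le_of_ne le_sup_left fun e => hle' (le_sup_right.trans e.ge)) (sup_le h2 hle)
        exact absurd (h0 ▸ (hstep.2 hlt hμ).add_nn ih1) not_pp_zero
    · exact (hstrict.monotone (Fin.castSucc_le_castSucc_iff.mpr (not_lt.mp hlt))).trans h1

end PolyLattice

variable (k : Type u) [Field k] {X : Scheme.{u}} [X.Over (Spec (CommRingCat.of k))]
  [IsProper (X ↘ Spec (CommRingCat.of k))] [IsLocallyNoetherian X]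
  {L : X.Modules} (hL : CohB1.IsAmple L) {E : X.Modules} {d ℓ : ℕ}

include hL in
theorem nn_ecr_sub {F G : X.Modules} (hG : ShStab.IsEllSemistable k X L G d ℓ) (ι : F ⟶ G) [Mono ι]
    (hF : Coh.IsCoh F) {pF pG : Polynomial ℚ} (hpF : ShStab.IsHilbPoly k X L F pF)
    (hpG : ShStab.IsHilbPoly k X L G pG) : NN (ecr ℓ d pF pG) := by
  obtain ⟨hGc, hG0, hGp, hs⟩ := hG
  haveI := hF.1
  by_cases h0 : IsZero F
  · rw [eq_zero_of_isZero k h0 hpF]
    simp [ecr, cr, StabCat.alpha, topPart_zero, nn_zero]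
  have hαF := alpha_pos_of_isPure k hL hGp ι hF h0 hpF
  by_cases hlt : StabCat.alpha d pF < StabCat.alpha d pG
  · exact redLE_topPart_iff.mp (hs F ι inferInstance hF pF pG hpF hpG hαF hlt)
  have hC := QCohMod.isCoh_cokernel ι hGc
  obtain ⟨pC, hpC⟩ := exists_isHilbPoly k X hL hC
  have hsum := isHilbPoly_cokernel_add k hL hF ι hGc hpF hpG hpC
  have hαC : StabCat.alpha d pC = 0 := by
    have h1 := alpha_quot_nonneg k hL hGc hGp (cokernel.π ι) hC hpC
    rw [hsum, alpha_add] at hlt
    linarith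
  rw [hsum, ecr_left_self, ecr_of_alpha_eq_zero hαC]
  exact (nn_topPart (nn_hilbPoly k hL hC hpC)
    (natDegree_quot_le k hL hGc hGp (cokernel.π ι) hC hpC)).smul hαF.le

include hL in
theorem nn_ecr_quot {E G : X.Modules} (hE : ShStab.IsEllSemistable k X L E d ℓ) (q : E ⟶ G) [Epi q]
    (hG : Coh.IsCoh G) {pE pG : Polynomial ℚ} (hpE : ShStab.IsHilbPoly k X L E pE)
    (hpG : ShStab.IsHilbPoly k X L G pG) : NN (ecr ℓ d pE pG) := by
  haveI := hG.1
  have hK := QCohMod.isCoh_kernel q hE.1
  obtain ⟨pK, hpK⟩ := exists_isHilbPoly k X hL hK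
  have h := nn_ecr_sub k hL hE (kernel.ι q) hK hpK hpE
  rw [isHilbPoly_kernel_add k hL hE.1 q hG hpK hpE hpG] at h ⊢
  rwa [ecr_right_self, ← ecr_left_self pK pG]

include hL in
/-- Pure slope semistable modules are the `1`-semistable ones. -/
theorem muSS_iff (hd : 1 ≤ d) :
    (ShStab.IsPure X E d ∧ ShStab.IsMuSemistable k X L E d) ↔
      ShStab.IsEllSemistable k X L E d 1 := by
  constructor
  · rintro ⟨hp, hc, h0, -, -, hs⟩
    refine ⟨hc, h0, hp, fun F ι hι hF pF pE hpF hpE h1 h2 => ?_⟩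
    rw [redLE_topPart_iff, nn_ecr_one_iff hd h1 (h1.trans h2)]
    exact hs F ι hι hF pF pE hpF hpE h1 h2
  · rintro ⟨hc, h0, hp, hs⟩
    refine ⟨hp, hc, h0, hp E (𝟙 E) inferInstance hc h0, fun F ι hι hF he => ?_, ?_⟩
    · by_cases hz : IsZero F
      · have : IsEmpty (CohB1.support F) := by
          rw [(QCohMod.isZero_iff_support_eq_empty F).mp hz]; infer_instance
        have : IsEmpty (TopologicalSpace.IrreducibleCloseds (CohB1.support F)) :=
          ⟨fun c => IsEmpty.false c.isIrreducible.1.some⟩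
        rw [topologicalKrullDim, Order.krullDim_eq_bot, WithBot.bot_add] at he
        exact WithBot.bot_ne_coe he
      · rw [hp F ι hι hF hz] at he
        exact absurd he (by exact_mod_cast Nat.succ_ne_self d)
    · intro F ι hι hF pF pE hpF hpE h1 h2
      exact (nn_ecr_one_iff hd h1 (h1.trans h2)).mp
        (redLE_topPart_iff.mp (hs F ι hι hF pF pE hpF hpE h1 h2))

variable (hE : Coh.IsCoh E) (hp : ShStab.IsPure X E d) {A B : cohSub E hE}

include hE in
/-- `ℓ`-semistable intervals are `ℓ`-semistable factors. -/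
theorem ess_iff (h : A ≤ B) :
    (subLattice k hL hE hp).ESS ℓ A B ↔
      ShStab.IsEllSemistable k X L (fac (show A.1 ≤ B.1 from h)) d ℓ := by
  constructor
  · rintro ⟨hlt, hpure, hs⟩
    refine ⟨isCoh_fac h, not_isZero_fac hlt, (pure_iff k hL hE hp h).mp hpure, ?_⟩
    intro G ι hι hG pG pB hpG hpB hα hα'
    obtain ⟨C, hAC, hCB, hC⟩ := exists_between k hL hE hp h ι hG
    obtain rfl := isHilbPoly_unique k hpG hC
    obtain rfl := isHilbPoly_unique k hpB (isHilbPoly_fac' k hL hE hp h)
    rw [redLE_topPart_iff]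
    refine hs C (lt_of_le_of_ne hAC fun e => ?_) (lt_of_le_of_ne hCB fun e => ?_)
    · rw [← e, PolyLattice.Q_self] at hα
      simp [StabCat.alpha] at hα
    · rw [e] at hα'
      exact lt_irrefl _ hα'
  · rintro ⟨-, h0, hpure, hs⟩
    have hpure' := (pure_iff k hL hE hp h).mpr hpure
    refine ⟨lt_of_le_of_ne h fun e => h0 ?_, hpure', fun C hC hCB => ?_⟩
    · subst e
      rw [IsZero.iff_id_eq_zero, ← cancel_epi (cokernel.π _), comp_zero, Category.comp_id]
      haveI : IsIso (Subobject.ofLE A.1 A.1 le_rfl) := (isIso_iff_eq _).mpr rfl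
      exact (cancel_epi (Subobject.ofLE A.1 A.1 le_rfl)).mp
        ((cokernel.condition _).trans comp_zero.symm)
    · rcases eq_or_lt_of_le ((subLattice k hL hE hp).μ_nonneg hCB.le) with e | e
      · exact PolyLattice.nn_of_μ_eq (hpure'.μ_pos hC hCB.le).le hCB.le e.symm
      obtain ⟨m, hm⟩ := mono_facMap (show A.1 ≤ C.1 from hC.le) (show C.1 ≤ B.1 from hCB.le)
      refine redLE_topPart_iff.mp (hs _ m hm (isCoh_fac hC.le) _ _
        (isHilbPoly_fac' k hL hE hp hC.le) (isHilbPoly_fac' k hL hE hp h)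
        (hpure'.μ_pos hC hCB.le) ?_)
      change (subLattice k hL hE hp).μ A C < (subLattice k hL hE hp).μ A B
      linarith [(subLattice k hL hE hp).μ_add A C B]

/-- The conditions on a series to be an `ℓ`-Harder–Narasimhan filtration. -/
def IsEHNSeries (L : X.Modules) (d ℓ : ℕ) (s : LTSeries (Subobject E)) : Prop :=
  s.head = ⊥ ∧ s.last = ⊤ ∧
    (∀ i : Fin s.length, ShStab.IsEllSemistable k X L (StabCat.factor s i) d ℓ) ∧
    ∀ (i j : Fin s.length), i.val + 1 = j.val →
      ∀ (p q : Polynomial ℚ), ShStab.IsHilbPoly k X L (StabCat.factor s i) p →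
        ShStab.IsHilbPoly k X L (StabCat.factor s j) q → PP (ecr ℓ d q p)

include hL hE hp in
theorem exists_chain_of_series (s : LTSeries (Subobject E)) (hs : IsEHNSeries k L d ℓ s) :
    ∃ c : Fin (s.length + 1) → cohSub E hE, (∀ i, (c i).1 = s i) ∧ c 0 = cBot hE ∧
      c (Fin.last _) = cTop hE ∧
      (∀ i : Fin s.length, (subLattice k hL hE hp).ESS ℓ (c i.castSucc) (c i.succ)) ∧
      ∀ i j : Fin s.length, i.val + 1 = j.val →
        PP (ecr ℓ d ((subLattice k hL hE hp).Q (c j.castSucc) (c j.succ))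
          ((subLattice k hL hE hp).Q (c i.castSucc) (c i.succ))) := by
  obtain ⟨h0, h1, hf, hdec⟩ := hs
  let c : Fin (s.length + 1) → cohSub E hE := fun i =>
    ⟨s i, isCoh_series hE s h0 (fun i => (hf i).1) i⟩
  have hle : ∀ i : Fin s.length, c i.castSucc ≤ c i.succ := fun i => le_of_lt (s.step i)
  exact ⟨c, fun _ => rfl, Subtype.ext h0, Subtype.ext h1,
    fun i => (ess_iff k hL hE hp (hle i)).mpr (hf i),
    fun i j h => hdec i j h _ _ (isHilbPoly_fac' k hL hE hp (hle i))
      (isHilbPoly_fac' k hL hE hp (hle j))⟩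

include hL hE hp in
theorem exists_ehnSeries [CompactSpace X] (h0 : ¬ IsZero E) (ℓ : ℕ) :
    ∃ s : LTSeries (Subobject E), IsEHNSeries k L d ℓ s := by
  haveI := wellFoundedGT_cohSub (E := E) hE
  obtain ⟨l, hl⟩ := PolyLattice.exists_isEHN (S := subLattice k hL hE hp) (ℓ := ℓ) _ _
    (cBot_lt_cTop hE h0).le (pure_subLattice k hL hE hp)
  obtain ⟨n, c, hc0, hc1, -, hss, hpp⟩ := PolyLattice.exists_fn_of_isEHN hl
  refine ⟨toSeries c fun i => (hss i).1, congrArg Subtype.val hc0, congrArg Subtype.val hc1,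
    fun i => (ess_iff k hL hE hp (hss i).1.le).mp (hss i), fun i j h p q hP hQ => ?_⟩
  rw [isHilbPoly_unique k hP (isHilbPoly_fac' k hL hE hp (hss i).1.le),
    isHilbPoly_unique k hQ (isHilbPoly_fac' k hL hE hp (hss j).1.le)]
  exact hpp i j h

include hL hE hp in
theorem ehnSeries_unique (s t : LTSeries (Subobject E)) (hs : IsEHNSeries k L d ℓ s)
    (ht : IsEHNSeries k L d ℓ t) : s = t := by
  obtain ⟨c, hc, hc0, hc1, hcs, hcp⟩ := exists_chain_of_series k hL hE hp s hs
  obtain ⟨e, he, he0, he1, hes, hep⟩ := exists_chain_of_series k hL hE hp t ht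
  have hcl := PolyLattice.isEHN_ofFn c hcs hcp
  have hel := PolyLattice.isEHN_ofFn e hes hep
  rw [hc0, hc1] at hcl
  rw [he0, he1] at hel
  have hl := hcl.unique hel
  have hlen : s.length = t.length := by simpa using congrArg List.length hl
  obtain ⟨n, f, hf⟩ := s
  obtain ⟨m, g, hg⟩ := t
  subst hlen
  have hfg := List.ofFn_inj.mp hl
  obtain rfl : f = g := funext fun i => by
    cases i using Fin.cases with
    | zero => exact hs.1.trans ht.1.symm
    | succ i =>
      exact (hc i.succ).symm.trans ((congrArg Subtype.val (congrFun hfg i)).trans (he i.succ))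
  rfl

end Groth.HilbStab
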