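import Groth.Agent.PnCoh.AmpleVanishing
import Groth.Agent.PnCoh.HilbertPoly
import Groth.Agent.EulerDeg.Coherent
import Groth.Prelude.Def_ShStab

/-!
# Existence of Hilbert polynomials with respect to an ample invertible module
-/

set_option autoImplicit false

universe u

open CategoryTheory CategoryTheory.Limits AlgebraicGeometry
open Groth.PicAux

namespace Groth.HilbStab

/-- A function on `ℕ` which is polynomial on the classes of two coprime moduli is polynomial. -/
theorem exists_poly_of_coprime (f : ℕ → ℚ) (N : ℕ) (hN : 0 < N)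
    (h₁ : ∀ a, a < N → ∃ p : Polynomial ℚ, ∀ t : ℕ, f (a + N * t) = p.eval (t : ℚ))
    (h₂ : ∀ b, b < N + 1 → ∃ p : Polynomial ℚ, ∀ t : ℕ, f (b + (N + 1) * t) = p.eval (t : ℚ)) :
    ∃ P : Polynomial ℚ, ∀ m : ℕ, f m = P.eval (m : ℚ) := by
  have norm : ∀ (M : ℕ), 0 < M →
      (∀ a, a < M → ∃ p : Polynomial ℚ, ∀ t : ℕ, f (a + M * t) = p.eval (t : ℚ)) →
      ∀ a, a < M → ∃ P : Polynomial ℚ, ∀ m : ℕ, m % M = a → f m = P.eval (m : ℚ) := by
    intro M hM h a ha
    obtain ⟨p, hp⟩ := h a ha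
    refine ⟨p.comp ((Polynomial.X - Polynomial.C (a : ℚ)) * Polynomial.C ((M : ℚ)⁻¹)), fun m hm => ?_⟩
    have e : m = a + M * (m / M) := by rw [← hm]; exact (Nat.mod_add_div m M).symm
    have hM' : (M : ℚ) ≠ 0 := by exact_mod_cast hM.ne'
    conv_lhs => rw [e, hp]
    rw [Polynomial.eval_comp]
    congr 1
    simp only [Polynomial.eval_mul, Polynomial.eval_sub, Polynomial.eval_X, Polynomial.eval_C]
    have e' : (m : ℚ) = a + M * ((m / M : ℕ) : ℚ) := by exact_mod_cast e
    rw [e']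
    field_simp
    ring
  choose P hP using norm N hN h₁
  choose Q hQ using norm (N + 1) (Nat.succ_pos _) h₂
  have heq : ∀ a ha b hb, P a ha = Q b hb := fun a ha b hb => by
    obtain ⟨m₀, h1, h2⟩ := Nat.chineseRemainder (show Nat.Coprime N (N + 1) by simp) a b
    refine Polynomial.eq_of_infinite_eval_eq _ _ ?_
    refine Set.Infinite.mono ?_ (Set.infinite_range_of_injective
      (f := fun j : ℕ => ((m₀ + N * (N + 1) * j : ℕ) : ℚ)) fun i j h => by
        have h' : m₀ + N * (N + 1) * i = m₀ + N * (N + 1) * j := Nat.cast_injective h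
        exact Nat.eq_of_mul_eq_mul_left (Nat.mul_pos hN (Nat.succ_pos N)) (Nat.add_left_cancel h'))
    rintro _ ⟨j, rfl⟩
    refine Set.mem_setOf.mpr ?_
    rw [← hP a ha, ← hQ b hb]
    · rw [Nat.add_mod, Nat.mul_mod, Nat.mul_mod N (N + 1), Nat.mod_self]
      simpa [Nat.mod_eq_of_lt hb, Nat.ModEq] using h2
    · rw [Nat.add_mod, Nat.mul_mod, Nat.mul_mod N (N + 1), Nat.mod_self]
      simpa [Nat.mod_eq_of_lt ha, Nat.ModEq] using h1
  refine ⟨P 0 hN, fun m => ?_⟩
  rw [hP (m % N) (Nat.mod_lt m hN) m rfl, heq (m % N) (Nat.mod_lt m hN) 0 (Nat.succ_pos N),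
    heq 0 hN 0 (Nat.succ_pos N)]

variable (k : Type u) [Field k] {X : Scheme.{u}}

/-- On a closed subscheme of projective space the twisted Euler characteristic is polynomial. -/
theorem exists_poly_pullback_twist [X.Over (Spec (CommRingCat.of k))]
    [IsProper (X ↘ Spec (CommRingCat.of k))] {r : ℕ} (j : X ⟶ CohB1.ProjSpace r k)
    [IsClosedImmersion j] (hj : j ≫ CohB1.ProjSpace.toSpec r k = X ↘ Spec (CommRingCat.of k))
    (G : X.Modules) (hG : Coh.IsCoh G) :
    ∃ p : Polynomial ℚ, ∀ d : ℤ, (Curv2.euler k X (CohB1.tensorMod G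
      ((Scheme.Modules.pullback j).obj (Twist.twistProjSpace r k d))) : ℚ) = p.eval (d : ℚ) := by
  haveI := hG.1
  haveI := PnCoh.isLocallyNoetherian_projSpace r k
  have hc : Coh.IsCoh ((Scheme.Modules.pushforward j).obj G) := CohTwo.isCoh_push j hG
  obtain ⟨p, hp⟩ := PnCoh.isPolyFun_chiTw r k ((Scheme.Modules.pushforward j).obj G) hc
  refine ⟨p, fun d => (?_ : _ = _).trans (hp d)⟩
  let M := CohB1.tensorMod ((Scheme.Modules.pushforward j).obj G) (Twist.twistProjSpace r k d)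
  let N := CohB1.tensorMod G ((Scheme.Modules.pullback j).obj (Twist.twistProjSpace r k d))
  have hMc : Coh.IsCoh M := RefRank.isCoh_tensorMod hc (PnCoh.isCoh_twist r k d)
  haveI : M.IsQuasicoherent := hMc.1
  have e : ∀ q, Nonempty (CohFin.HA (CohB1.ProjSpace.toSpec r k) M q ≃ₗ[k]
      CohFin.HA (X ↘ Spec (CommRingCat.of k)) N q) := fun q => by
    obtain ⟨e⟩ := PnCoh.nonempty_linearEquiv_push_twist r k j G d q
    rw [hj] at e
    exact ⟨e⟩
  have hvan : ∀ q, r + 1 ≤ q → Subsingleton (Coh.HH X N q) := fun q hq => by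
    obtain ⟨e⟩ := e q
    haveI : Subsingleton (CohFin.HA (CohB1.ProjSpace.toSpec r k) M q) :=
      PnCoh.subsingleton_HH_of_lt r k M (Nat.lt_of_succ_le hq)
    exact (e.symm.toEquiv.subsingleton :)
  rw [EulerDeg.euler_eq_sum (N := r + 1) hvan]
  push_cast
  unfold PnCoh.chiTw PnCoh.chi
  refine Finset.sum_congr rfl fun q _ => ?_
  congr 1
  obtain ⟨e⟩ := e q
  haveI : Module.Finite k (CohFin.HA (X ↘ Spec (CommRingCat.of k)) N q) :=
    EulerDeg.finite_HH k X (RefRank.isCoh_tensorMod hG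
      ⟨isQCoh_of_isInvertible (isInvertible_pullback j (PnCoh.isInvertible_twist r k d)),
        Ega2Proj.isFT_of_isInvertible (isInvertible_pullback j (PnCoh.isInvertible_twist r k d))⟩) q
  refine Eq.trans ?_ (PnCoh.lenQ_congr e).symm
  unfold PnCoh.lenQ
  rw [Module.length_eq_finrank]
  rfl

variable (X) [X.Over (Spec (CommRingCat.of k))] [IsProper (X ↘ Spec (CommRingCat.of k))]

/-- Hilbert polynomials exist. -/
theorem exists_isHilbPoly {L : X.Modules} (hL : CohB1.IsAmple L) {F : X.Modules}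
    (hF : Coh.IsCoh F) : ∃ P : Polynomial ℚ, ShStab.IsHilbPoly k X L F P := by
  obtain ⟨n₀, hn⟩ := Chow.exists_isRelVeryAmplePn (X ↘ Spec (CommRingCat.of k)) hL
  have hpow : ∀ a : ℕ, Coh.IsCoh (CohB1.tensorPow L a) := fun a =>
    ⟨isQCoh_of_isInvertible (isInvertible_tensorPow hL.1 a),
      Ega2Proj.isFT_of_isInvertible (isInvertible_tensorPow hL.1 a)⟩
  have key : ∀ M, n₀ ≤ M → ∀ a : ℕ, ∃ p : Polynomial ℚ, ∀ t : ℕ,
      (Curv2.euler k X (ShStab.twist X L F (a + M * t)) : ℚ) = p.eval (t : ℚ) := by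
    intro M hM a
    obtain ⟨r, i, hi, hif, ⟨e⟩⟩ := hn M hM
    let j := i ≫ (PnCoh.overIso r k).inv
    have hj : j ≫ CohB1.ProjSpace.toSpec r k = X ↘ Spec (CommRingCat.of k) := by
      rw [← hif]
      simp only [j, Category.assoc]
      rw [← PnCoh.overIso_hom_toBase r k, Iso.inv_hom_id_assoc]
      rfl
    have : IsProper (j ≫ CohB1.ProjSpace.toSpec r k) := hj ▸ inferInstance
    have : IsImmersion j := inferInstance
    have : IsClosedImmersion j :=
      CohFin.isClosedImmersion_of_proper j (CohB1.ProjSpace.toSpec r k)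
    obtain ⟨e'⟩ := PnCoh.nonempty_pullback_overIso_twist r k 1
    have hji : i = j ≫ (PnCoh.overIso r k).hom := by simp [j]
    have eL : CohB1.tensorPow L M ≅ (Scheme.Modules.pullback j).obj (Twist.twistProjSpace r k 1) :=
      e ≪≫ (Scheme.Modules.pullbackCongr hji).app _ ≪≫
        ((Scheme.Modules.pullbackComp j (PnCoh.overIso r k).hom).app _).symm ≪≫
        (Scheme.Modules.pullback j).mapIso e'
    obtain ⟨p, hp⟩ := exists_poly_pullback_twist k j hj (CohB1.tensorMod F (CohB1.tensorPow L a))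
      (RefRank.isCoh_tensorMod hF (hpow a))
    refine ⟨p, fun t => ?_⟩
    obtain ⟨e₁⟩ := tensorPow_add L a (M * t)
    obtain ⟨e₂⟩ := tensorPow_mul L M t
    obtain ⟨e₃⟩ := nonempty_tensorPow_iso eL t
    obtain ⟨e₄⟩ := pullback_tensorPow j (Twist.twistProjSpace r k 1) t
    obtain ⟨e₅⟩ := PnCoh.nonempty_twist_pow (CohB1.polyGrading r k)
      (PnCoh.irrelevant_le_span_deg_one r k) t
    have e₆ : CohB1.tensorPow L (M * t) ≅
        (Scheme.Modules.pullback j).obj (Twist.twistProjSpace r k (t : ℤ)) :=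
      e₂ ≪≫ e₃ ≪≫ e₄.symm ≪≫ (Scheme.Modules.pullback j).mapIso e₅
    have h := hp (t : ℤ)
    rw [Int.cast_natCast] at h
    rw [← h]
    congr 1
    exact EulerDeg.euler_congr k (PicGrp.tensorModIso (Iso.refl F)
      (e₁ ≪≫ PicGrp.tensorModIso (Iso.refl _) e₆) ≪≫ (exists_associator _ _ _).choose.symm)
  obtain ⟨P, hP⟩ := exists_poly_of_coprime
    (fun m => (Curv2.euler k X (ShStab.twist X L F m) : ℚ)) (n₀ + 1) (Nat.succ_pos _)
    (fun a _ => key (n₀ + 1) (Nat.le_succ _) a) (fun b _ => key (n₀ + 1 + 1) (by omega) b)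
  exact ⟨P, hP⟩

end Groth.HilbStab
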