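import Groth.Agent.HilbStab.RankOne
import Groth.Agent.RefRank.RegularRef
import Groth.Agent.RefRank.Normality
import Groth.Agent.TFOne.Decompose
import Groth.Agent.NeronArea.WeilExtensionBase
import Groth.Agent.Misc13.HodgeProper

/-!
# Subsheaves of extensions of rank one sheaves on a surface
-/

set_option autoImplicit false
set_option linter.style.haveILetI false

universe u

open CategoryTheory CategoryTheory.Limits AlgebraicGeometry Polynomial
open Groth.RefRank Groth.PicAux

namespace Groth.HilbStab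

variable {X : Scheme.{u}} [IsIntegral X]

/-- A morphism into a reflexive module factors through the reflexive hull of its source. -/
theorem exists_factor_ddual [IsLocallyNoetherian X] (hX : Pi1.IsNormalScheme X) {F G : X.Modules}
    (hF : Coh.IsCoh F) (hG : Coh.IsCoh G) (hGr : RefHull.IsReflexive G) (φ : F ⟶ G) :
    ∃ ψ : RefHull.ddual F ⟶ G, RefHull.bidualMap F ≫ ψ = φ ∧
      ∀ v, RefHull.stalkMapₗ ψ (genericPoint ↥X)
        (RefHull.stalkMapₗ (RefHull.bidualMap F) (genericPoint ↥X) v) =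
          RefHull.stalkMapₗ φ (genericPoint ↥X) v := by
  let δ := RefHull.bidualMap F
  haveI := hG.1
  let δe := LinearEquiv.ofBijective (RefHull.stalkMapₗ δ (genericPoint ↥X)) (bidual_gen_bijective hF)
  obtain ⟨ψ, hψ⟩ := exists_hom_of_codim_one hX hG hGr
    ((RefHull.stalkMapₗ φ (genericPoint ↥X)).comp δe.symm.toLinearMap) (fun y hy => by
      haveI := isDiscreteValuationRing_stalk hX hy
      rintro _ ⟨v, rfl⟩
      obtain ⟨u, rfl⟩ := bidual_surjective_of_pid hF y v
      refine ⟨RefHull.stalkMapₗ φ y u, ?_⟩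
      rw [LinearMap.comp_apply, ← stalkMapₗ_mspec, ← stalkMapₗ_mspec, LinearEquiv.coe_coe]
      exact (congrArg (RefHull.stalkMapₗ φ _) (δe.symm_apply_apply _)).symm)
  have key : ∀ v, RefHull.stalkMapₗ ψ (genericPoint ↥X) (RefHull.stalkMapₗ δ (genericPoint ↥X) v) =
      RefHull.stalkMapₗ φ (genericPoint ↥X) v := fun v => by
    rw [hψ, LinearMap.comp_apply, LinearEquiv.coe_coe]
    exact congrArg (RefHull.stalkMapₗ φ _) (δe.symm_apply_apply v)
  refine ⟨ψ, ?_, key⟩
  exact hom_ext_gen (mspec_injective_of_isTorsionFree (isTorsionFree_of_isReflexive hG hGr)) <|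
    LinearMap.ext fun v => (Groth.RefRank.stalkMapₗ_comp δ ψ _ v).trans (key v)

/-- A nonzero morphism out of a torsion-free module of rank one into a torsion-free one is mono. -/
theorem mono_of_ne_zero {A M : X.Modules} [A.IsQuasicoherent] [M.IsQuasicoherent]
    (hA : _root_.TorSh.IsTorsionFree A) (h1 : IsRankOne A) (hM : _root_.TorSh.IsTorsionFree M)
    (f : A ⟶ M) (hf : f ≠ 0) : Mono f := by
  refine mono_of_generic hA f ((injective_iff_map_eq_zero _).mpr fun v hv => ?_)
  by_contra hv0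
  refine hf (hom_ext_gen (mspec_injective_of_isTorsionFree hM) (LinearMap.ext fun w => ?_))
  obtain ⟨c, hc⟩ := (h1.isStalkBasis hv0).2 w
  dsimp only at hc
  subst hc
  rw [map_smul, map_smul, hv, smul_zero]
  have h0 : RefHull.stalkMapₗ (0 : A ⟶ M) (genericPoint ↥X) v = 0 := by
    obtain ⟨U, hU, m, rfl⟩ := QCohMod.exists_germ A _ v
    rw [RefHull.stalkMapₗ_germ]
    exact map_zero _
  rw [h0, smul_zero]

section Surface

variable (k : Type u) [Field k] [X.Over (Spec (CommRingCat.of k))]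
  [IsProper (X ↘ Spec (CommRingCat.of k))] [Smooth (X ↘ Spec (CommRingCat.of k))]
  {L : X.Modules} (hL : CohB1.IsAmple L) (hX : topologicalKrullDim X = ((2 : ℕ) : WithBot ℕ∞))

include hL hX

omit [Smooth (X ↘ Spec (CommRingCat.of k))] in
/-- Slope of a cofinite submodule of an invertible module, and of an extension of it by `O`. -/
theorem ext_polys {V N M : X.Modules} (hM : PicF.IsInvertible M) (hN : Coh.IsCoh N) (ι : N ⟶ M)
    [Mono ι] (hZ : topologicalKrullDim (CohB1.support (cokernel ι)) ≤ 0)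
    (a : Coh.structureModule X ⟶ V) (b : V ⟶ N) (w : a ≫ b = 0)
    (hex : (ShortComplex.mk a b w).ShortExact) {pO pM pV : ℚ[X]}
    (hpO : ShStab.IsHilbPoly k X L (Coh.structureModule X) pO)
    (hpM : ShStab.IsHilbPoly k X L M pM) (hpV : ShStab.IsHilbPoly k X L V pV) :
    0 < pO.coeff 2 ∧ pV.coeff 2 = pO.coeff 2 + pM.coeff 2 ∧
      pV.coeff 1 = pO.coeff 1 + pM.coeff 1 := by
  haveI := isLocallyNoetherian k (X := X)
  have hMc := EulerDeg.isCoh_of_isInvertible hM
  have hOi := PicLoc.isInvertible_structureModule X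
  have hOc : Coh.IsCoh (Coh.structureModule X) := QCohMod.isCoh_unit
  haveI := hN.1
  obtain ⟨pN, hpN⟩ := exists_isHilbPoly k X hL hN
  obtain ⟨pC, hpC⟩ := exists_isHilbPoly k X hL (QCohMod.isCoh_cokernel ι hMc)
  have hCd := natDegree_le_of_support_subset k hL (d := 0) (by simpa using hZ)
    subset_rfl (QCohMod.isCoh_cokernel ι hMc) hpC
  have hMN := isHilbPoly_cokernel_add k hL hN ι hMc hpN hpM hpC
  have hV : pV = pO + pN := isHilbPoly_add k hL hex hOc hN hpO hpV hpN
  refine ⟨coeff_two_pos k hL hX (isTorsionFree_of_isInvertible hOi) (𝟙 _) hOc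
    (not_isZero_of_isRankOne (isRankOne_of_isInvertible hOi)) hpO, ?_, ?_⟩
  · rw [hV, hMN, coeff_add, coeff_add, coeff_eq_zero_of_natDegree_lt (p := pC) (n := 2) (by omega),
      add_zero]
  · rw [hV, hMN, coeff_add, coeff_add, coeff_eq_zero_of_natDegree_lt (p := pC) (n := 1) (by omega),
      add_zero]

/-- A subsheaf of smaller rank of an extension of `N ⊆ M` by `O` either has at most the slope of `O`,
or its reflexive hull is an invertible submodule of `M` of at least its slope. -/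
theorem sub_extension_cases {V N M : X.Modules} (hM : PicF.IsInvertible M) (hN : Coh.IsCoh N)
    (ι : N ⟶ M) [Mono ι] (hV : Coh.IsCoh V) (hVtf : _root_.TorSh.IsTorsionFree V)
    (a : Coh.structureModule X ⟶ V) (b : V ⟶ N) (w : a ≫ b = 0)
    (hex : (ShortComplex.mk a b w).ShortExact) {F : X.Modules} (j : F ⟶ V) [Mono j]
    (hF : Coh.IsCoh F) {pO pM pF pV : ℚ[X]}
    (hpO : ShStab.IsHilbPoly k X L (Coh.structureModule X) pO)
    (hpM : ShStab.IsHilbPoly k X L M pM) (hpF : ShStab.IsHilbPoly k X L F pF)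
    (hZ : topologicalKrullDim (CohB1.support (cokernel ι)) ≤ 0)
    (hpV : ShStab.IsHilbPoly k X L V pV) (hFpos : 0 < StabCat.alpha 2 pF)
    (hFlt : StabCat.alpha 2 pF < StabCat.alpha 2 pV) :
    StabCat.hatSlope 2 pF ≤ StabCat.hatSlope 2 pO ∨
      ∃ (D : X.Modules) (_ : PicF.IsInvertible D) (δ : F ⟶ D) (ψ : D ⟶ M), Mono δ ∧ Mono ψ ∧
        δ ≫ ψ = (j ≫ b) ≫ ι ∧ Mono (j ≫ b) ∧
        Function.Bijective (RefHull.stalkMapₗ δ (genericPoint ↥X)) ∧
        (∀ (G : X.Modules), Coh.IsCoh G → RefHull.IsReflexive G → ∀ φ : F ⟶ G,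
          ∃ g : D ⟶ G, δ ≫ g = φ) ∧
        ∀ pD, ShStab.IsHilbPoly k X L D pD → StabCat.hatSlope 2 pF ≤ StabCat.hatSlope 2 pD := by
  haveI := isLocallyNoetherian k (X := X)
  have hreg : ∀ x : X, IsRegularLocalRing (X.presheaf.stalk x) := fun x =>
    Groth.NeronArea.Weil.isRegularLocalRing_of_smooth_dedekind (R := k)
      (X ↘ Spec (CommRingCat.of k)) x
  have hnorm : Pi1.IsNormalScheme X := isNormalScheme_of_regular hreg
  obtain ⟨hO2, hV2, -⟩ := ext_polys k hL hX hM hN ι hZ a b w hex hpO hpM hpV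
  have hOi := PicLoc.isInvertible_structureModule X
  have hOc : Coh.IsCoh (Coh.structureModule X) := QCohMod.isCoh_unit
  have hMc := EulerDeg.isCoh_of_isInvertible hM
  haveI := hMc.1
  haveI := hV.1
  haveI := hN.1
  haveI := hF.1
  have hMtf := isTorsionFree_of_isInvertible hM
  have hM1 := isRankOne_of_isInvertible hM
  have hOtf := isTorsionFree_of_isInvertible hOi
  have hO1 := isRankOne_of_isInvertible hOi
  haveI : Mono a := hex.mono_f
  have hF0 : ¬ IsZero F := fun h => by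
    rw [eq_zero_of_isZero k h hpF] at hFpos
    simp [StabCat.alpha] at hFpos
  rw [alpha_two, alpha_two] at hFlt
  have hsub : ∀ (A : X.Modules) (g : A ⟶ Coh.structureModule X) [Mono g] (pA : ℚ[X]),
      Coh.IsCoh A → ¬ IsZero A → ShStab.IsHilbPoly k X L A pA → pA.coeff 2 = pO.coeff 2 ∧
        StabCat.hatSlope 2 pA ≤ StabCat.hatSlope 2 pO := by
    intro A g _ pA hA hA0 hpA
    have e := coeff_two_eq_of_mono k hL hX hOtf hO1 hOc g hA hA0 hpA hpO
    exact ⟨e, hatSlope_le_of_mono k hL hX hOc g hA hpA hpO e hO2⟩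
  by_cases hq0 : j ≫ b = 0
  · let g := hex.exact.lift j hq0
    have hg : g ≫ a = j := hex.exact.lift_f j hq0
    haveI : Mono g := mono_of_mono_fac hg
    exact Or.inl (hsub F g pF hF hF0 hpF).2
  by_cases hm : Mono (j ≫ b)
  swap
  · exfalso
    let q := Abelian.factorThruImage (j ≫ b)
    have hI : Coh.IsCoh (Abelian.image (j ≫ b)) :=
      QCohMod.isCoh_kernel (cokernel.π (j ≫ b)) hN
    haveI := hI.1
    have hK := QCohMod.isCoh_kernel q hF
    have hK0 : ¬ IsZero (kernel q) := fun h => hm <| by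
      haveI : Mono q := Preadditive.mono_of_kernel_zero (h.eq_of_src _ _)
      rw [← Abelian.image.fac (j ≫ b)]
      exact mono_comp q _
    have hw : (kernel.ι q ≫ j) ≫ b = 0 := by
      calc (kernel.ι q ≫ j) ≫ b = kernel.ι q ≫ q ≫ Abelian.image.ι (j ≫ b) := by
            rw [Category.assoc, Abelian.image.fac]
        _ = 0 := by rw [kernel.condition_assoc, Limits.zero_comp]
    let g := hex.exact.lift (kernel.ι q ≫ j) hw
    have hg : g ≫ a = kernel.ι q ≫ j := hex.exact.lift_f _ hw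
    haveI : Mono g := mono_of_mono_fac hg
    have hI0 : ¬ IsZero (Abelian.image (j ≫ b)) := fun h => hq0 <| by
      rw [← Abelian.image.fac (j ≫ b), h.eq_of_src (Abelian.image.ι (j ≫ b)) 0, Limits.comp_zero]
    obtain ⟨pK, hpK⟩ := exists_isHilbPoly k X hL hK
    obtain ⟨pI, hpI⟩ := exists_isHilbPoly k X hL hI
    have e1 := (hsub _ g pK hK hK0 hpK).1
    have e2 := coeff_two_eq_of_mono k hL hX hMtf hM1 hMc (Abelian.image.ι (j ≫ b) ≫ ι) hI hI0 hpI hpM
    have e3 := isHilbPoly_kernel_add k hL hF q hI hpK hpF hpI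
    rw [e3, coeff_add, e1, e2, hV2] at hFlt
    exact lt_irrefl _ hFlt
  haveI := hm
  let φ : F ⟶ M := (j ≫ b) ≫ ι
  haveI : Mono φ := mono_comp (j ≫ b) ι
  have hFtf : _root_.TorSh.IsTorsionFree F := Groth.TFOneAux.isTorsionFree_of_mono φ hMtf
  have hF1 := isRankOne_of_mono hMtf hM1 φ hF hF0
  have hDc : Coh.IsCoh (RefHull.ddual F) := isCoh_ddual hF
  haveI := hDc.1
  have hDi : PicF.IsInvertible (RefHull.ddual F) :=
    isInvertible_of_isReflexive_of_regular hreg hDc (isReflexive_ddual hF) (isRankOne_ddual hF hF1)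
  have hDtf := isTorsionFree_of_isInvertible hDi
  have hD1 := isRankOne_of_isInvertible hDi
  have hb := bidual_gen_bijective hF
  haveI hmδ : Mono (RefHull.bidualMap F) := mono_of_generic hFtf _ hb.1
  obtain ⟨ψ, hψ, hψη⟩ := exists_factor_ddual hnorm hF hMc
    (Groth.RefRank.CartierTwist.isRef1_of_isInvertible hM).2.1 φ
  haveI : Mono ψ := mono_of_generic hDtf ψ fun x y h => by
    obtain ⟨x, rfl⟩ := hb.2 x
    obtain ⟨y, rfl⟩ := hb.2 y
    rw [hψη, hψη] at h
    exact congrArg _ (stalkMapₗ_injective_of_mono φ _ h)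
  refine Or.inr ⟨_, hDi, RefHull.bidualMap F, ψ, hmδ, inferInstance, hψ, hm, hb, ?_, fun pD hpD => ?_⟩
  · intro G hG hGr f
    obtain ⟨g, hg, -⟩ := exists_factor_ddual hnorm hF hG hGr f
    exact ⟨g, hg⟩
  · exact hatSlope_le_of_mono k hL hX hDc (RefHull.bidualMap F) hF hpF hpD
      (coeff_two_eq_of_mono k hL hX hDtf hD1 hDc (RefHull.bidualMap F) hF hF0 hpF hpD)
      (coeff_two_pos k hL hX hDtf (𝟙 _) hDc (not_isZero_of_isRankOne hD1) hpD)

end Surface

end Groth.HilbStab
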