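import Groth.Agent.HilbStab.RankTwoExt
import Groth.Agent.SurfRR.Projective
import Groth.Agent.Curves1.RankTwo
import Groth.Agent.S15210

/-!
# Stable rank two sheaves on K3 surfaces of Picard number one
-/

set_option autoImplicit false
set_option linter.style.haveILetI false

universe u

open CategoryTheory CategoryTheory.Limits AlgebraicGeometry Polynomial
open Groth.RefRank Groth.PicAux

namespace Groth.HilbStab

variable (k : Type u) [Field k] {X : Scheme.{u}} [X.Over (Spec (CommRingCat.of k))] [IsIntegral X]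
  [IsProper (X ↘ Spec (CommRingCat.of k))] {L : X.Modules} (hL : CohB1.IsAmple L)
  (hX : topologicalKrullDim X = ((2 : ℕ) : WithBot ℕ∞))

include hL hX

theorem isMuSS_of_isStable {E : X.Modules} (hE : ShStab.IsStable k X L E 2) :
    StabCat.IsMuSS Coh.IsCoh (ShStab.IsHilbPoly k X L) 2 E := by
  obtain ⟨h1, h2, h3, h4⟩ := hE
  refine (Groth.Agent.S15210.result k X L hL 2 (by norm_num) hX E ⟨h1, h2, h3, ?_⟩).2.2.2.2
  intro F ι hι hF h0 hi pF pE hpF hpE
  obtain ⟨N, hN⟩ := h4 F ι hι hF h0 hi pF pE hpF hpE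
  exact ⟨N, fun m hm => (hN m hm).le⟩

omit hX in
/-- The Euler characteristic is the value at zero. -/
theorem euler_eq_eval {F : X.Modules} {P : ℚ[X]} (hP : ShStab.IsHilbPoly k X L F P) :
    (Curv2.euler k X F : ℚ) = P.eval 0 := by
  have h := hP 0
  rw [Nat.cast_zero] at h
  rw [← h]
  congr 1
  exact (EulerDeg.euler_congr k
    ((Groth.Inter.tensor_comm F (Coh.structureModule X)).some ≪≫ (Groth.Inter.tensor_one F).some)).symm

/-- A cofinite submodule has the same two top coefficients. -/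
theorem coeff_eq_of_cofinite {A B : X.Modules} (hA : Coh.IsCoh A) (hB : Coh.IsCoh B) (δ : A ⟶ B)
    [Mono δ] (h : topologicalKrullDim (CohB1.support (cokernel δ)) ≤ 0) {pA pB : ℚ[X]}
    (hpA : ShStab.IsHilbPoly k X L A pA) (hpB : ShStab.IsHilbPoly k X L B pB) :
    pA.coeff 2 = pB.coeff 2 ∧ pA.coeff 1 = pB.coeff 1 := by
  haveI := isLocallyNoetherian k (X := X)
  haveI := hA.1
  have hC := QCohMod.isCoh_cokernel δ hB
  obtain ⟨pC, hpC⟩ := exists_isHilbPoly k X hL hC
  have hd := natDegree_le_of_support_subset k hL (d := 0) (by simpa using h) subset_rfl hC hpC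
  rw [isHilbPoly_cokernel_add k hL hA δ hB hpA hpB hpC, coeff_add, coeff_add,
    coeff_eq_zero_of_natDegree_lt (p := pC) (n := 2) (by omega),
    coeff_eq_zero_of_natDegree_lt (p := pC) (n := 1) (by omega), add_zero, add_zero]
  exact ⟨rfl, rfl⟩

omit hX in
theorem isHilbPoly_tensorPow {pO : ℚ[X]}
    (hpO : ShStab.IsHilbPoly k X L (Coh.structureModule X) pO) (m : ℕ) :
    ShStab.IsHilbPoly k X L (CohB1.tensorPow L m) (taylor (m : ℚ) pO) := by
  obtain ⟨l, -⟩ := exists_leftUnitor (CohB1.tensorPow L m)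
  exact isHilbPoly_iso k l (isHilbPoly_shift k hL hpO m)

/-- Hilbert coefficients of the powers of the polarisation. -/
theorem coeff_of_cls_zpow [PicGrp.Law X] (hLi : PicF.IsInvertible L) {D : X.Modules}
    (hD : PicF.IsInvertible D) {z : ℤ} (hz : PicGrp.cls D hD = PicGrp.cls L hLi ^ z) {pO pD : ℚ[X]}
    (hpO : ShStab.IsHilbPoly k X L (Coh.structureModule X) pO) (h1 : pO.coeff 1 = 0)
    (hpD : ShStab.IsHilbPoly k X L D pD) :
    pD.coeff 2 = pO.coeff 2 ∧ pD.coeff 1 = 2 * z * pO.coeff 2 := by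
  haveI := isLocallyNoetherian k (X := X)
  have hOd := natDegree_le_two k hL hX QCohMod.isCoh_unit hpO
  have hp : ∀ m : ℕ, PicF.IsInvertible (CohB1.tensorPow L m) := fun m =>
    Groth.Abvar.PicCalc.isInvertible_tensorPow hLi m
  obtain ⟨m, rfl | rfl⟩ := Int.eq_nat_or_neg z
  · rw [zpow_natCast] at hz
    obtain ⟨e⟩ := (PicGrp.cls_eq_cls_iff hD (hp m)).1
      (hz.trans (Subtype.ext (PicGrp.cls_pow_val hLi m)))
    have := isHilbPoly_unique k hpD (isHilbPoly_iso k e.symm (isHilbPoly_tensorPow k hL hpO m))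
    rw [this, (taylor_top hOd _).1, (taylor_top hOd _).2, h1]
    push_cast
    exact ⟨rfl, by ring⟩
  · have e0 : PicGrp.cls D hD * PicGrp.cls (CohB1.tensorPow L m) (hp m) = 1 := by
      rw [hz, show PicGrp.cls (CohB1.tensorPow L m) (hp m) = PicGrp.cls L hLi ^ m from
        Subtype.ext (PicGrp.cls_pow_val hLi m).symm, zpow_neg, zpow_natCast, inv_mul_cancel]
    obtain ⟨e⟩ := (PicGrp.cls_mul_cls_eq_one_iff hD (hp m)).1 e0
    have h2 := isHilbPoly_unique k (isHilbPoly_iso k e (isHilbPoly_shift k hL hpD m)) hpO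
    have hDd := natDegree_le_two k hL hX (EulerDeg.isCoh_of_isInvertible hD) hpD
    obtain ⟨a, b⟩ := taylor_top hDd (m : ℚ)
    rw [h2] at a b
    refine ⟨a.symm, ?_⟩
    rw [h1] at b
    rw [a]
    push_cast
    linarith

/-- On a K3 surface the linear coefficient of the Hilbert polynomial of `O` vanishes. -/
theorem coeff_one_structure [Smooth (X ↘ Spec (CommRingCat.of k))] {n : ℕ}
    (ι : X ⟶ CohB1.ProjSpace n k) [IsClosedImmersion ι]
    (hι : ι ≫ CohB1.ProjSpace.toSpec n k = X ↘ Spec (CommRingCat.of k))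
    (hK : Canon.IsTopDiff (X ↘ Spec (CommRingCat.of k)) 2 (Coh.structureModule X))
    {pO : ℚ[X]} (hpO : ShStab.IsHilbPoly k X L (Coh.structureModule X) pO) : pO.coeff 1 = 0 := by
  haveI := isLocallyNoetherian k (X := X)
  have hdim : topologicalKrullDim X = 2 := by simpa using hX
  have hdual := (Groth.SurfRR.dualEuler_topForms k hdim ι hι hK).2
  obtain ⟨L', hL'i, hLL'⟩ := exists_isInverseOf hL.1
  have hOd := natDegree_le_two k hL hX QCohMod.isCoh_unit hpO
  have hp1 := isHilbPoly_tensorPow k hL hpO 1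
  obtain ⟨l, -⟩ := exists_leftUnitor L
  have hpL : ShStab.IsHilbPoly k X L L (taylor (1 : ℚ) pO) := by
    have h := isHilbPoly_iso k l hp1
    rwa [Nat.cast_one] at h
  obtain ⟨pL', hpL'⟩ := exists_isHilbPoly k X hL (EulerDeg.isCoh_of_isInvertible hL'i)
  have hsh := isHilbPoly_shift k hL hpL' 1
  have e : CohB1.tensorMod L' (CohB1.tensorPow L 1) ≅ Coh.structureModule X :=
    PicGrp.tensorModIso (Iso.refl L') l ≪≫ (Groth.Inter.tensor_comm L' L).some ≪≫ hLL'.some
  have h2 := isHilbPoly_unique k (isHilbPoly_iso k e hsh) hpO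
  have hLd := natDegree_le_two k hL hX (EulerDeg.isCoh_of_isInvertible hL'i) hpL'
  have hx : (Curv2.euler k X L : ℚ) = (Curv2.euler k X L' : ℚ) := by
    rw [hdual L L' hL.1 hLL']
    exact_mod_cast EulerDeg.euler_congr k (Groth.Inter.tensor_one L').some
  rw [euler_eq_eval k hL hpL, euler_eq_eval k hL hpL', ← h2, taylor_eval, taylor_eval] at hx
  rw [← h2, Nat.cast_one]
  have key : ∀ (P : ℚ[X]), P.natDegree ≤ 2 → P.eval 2 = P.eval 0 → (taylor 1 P).coeff 1 = 0 := by
    intro P hP h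
    rw [(taylor_top hP 1).2]
    rw [eval_eq_sum_range' (Nat.lt_succ_of_le hP), eval_eq_sum_range' (Nat.lt_succ_of_le hP)] at h
    simp [Finset.sum_range_succ] at h
    linarith
  refine key pL' hLd ?_
  norm_num at hx
  linarith

omit hX in
/-- A coherent module of positive Euler characteristic without morphisms to `O` has a section on a K3
surface. -/
theorem exists_hom_of_euler [IsAlgClosed k] [Smooth (X ↘ Spec (CommRingCat.of k))] (hdim : topologicalKrullDim X = 2)
    {n : ℕ} (ι : X ⟶ CohB1.ProjSpace n k) [IsClosedImmersion ι]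
    (hι : ι ≫ CohB1.ProjSpace.toSpec n k = X ↘ Spec (CommRingCat.of k))
    (hK : Canon.IsTopDiff (X ↘ Spec (CommRingCat.of k)) 2 (Coh.structureModule X))
    {F : X.Modules} (hF : Coh.IsCoh F) {P : ℚ[X]} (hP : ShStab.IsHilbPoly k X L F P)
    (hpos : 1 ≤ P.eval 0) (hom0 : ∀ φ : F ⟶ Coh.structureModule X, φ = 0) :
    ∃ s : Coh.structureModule X ⟶ F, s ≠ 0 := by
  haveI : SmoothOfRelativeDimension 2 (X ↘ Spec (CommRingCat.of k)) :=
    Groth.PnCI.smoothOfRelativeDimension_of_irreducible (X ↘ Spec (CommRingCat.of k)) hdim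
  obtain ⟨t, ht⟩ := Groth.Duality.SmoothDual.exists_dualizing ι hι (Coh.structureModule X) hK
  have hsub : Subsingleton (Module.Dual k (Coh.HH X F 2)) := ⟨fun a b => by
    obtain ⟨fa, ha, -⟩ := ht F hF a
    obtain ⟨fb, hb, -⟩ := ht F hF b
    refine LinearMap.ext fun x => ?_
    rw [ha x, hb x, hom0 fa, hom0 fb]⟩
  haveI : Module.Free k (Coh.HH X F 2) := Module.Free.of_divisionRing k _
  haveI : Subsingleton (Coh.HH X F 2) :=
    (Module.subsingleton_dual_iff k).mp hsub
  have he : (1 : ℤ) ≤ Curv2.euler k X F := by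
    have : ((1 : ℤ) : ℚ) ≤ (Curv2.euler k X F : ℚ) := by
      rw [euler_eq_eval k hL hP]; exact_mod_cast hpos
    exact_mod_cast this
  rw [Groth.Inter.euler_eq_three k (by rw [hdim]; rfl) F,
    Module.finrank_zero_of_subsingleton (R := k) (M := Coh.HH X F 2)] at he
  have hn : Nontrivial (Coh.HH X F 0) :=
    Module.nontrivial_of_finrank_pos (R := k) (by omega)
  exact Groth.Curves1.RankTwo.exists_section_hom (k := k) hn

end Groth.HilbStab
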