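import Groth.Agent.HilbStab.TFPure
import Groth.Agent.HilbStab.ELattice
import Groth.Agent.HilbStab.Subobjects
import Groth.Agent.RefRank.Ext
import Groth.Agent.RefRank.CartierTwist
import Groth.Agent.RefRank.DetTwist
import Groth.Agent.Variety2.Growth.Rank
import Groth.Agent.KTheory.LocFree

/-!
# Rank one subsheaves and slopes on a surface
-/

set_option autoImplicit false

universe u

open CategoryTheory CategoryTheory.Limits AlgebraicGeometry Polynomial
open Groth.RefRank Groth.PicAux Groth.QCohMod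

namespace Groth.HilbStab

section Generic

variable {X : Scheme.{u}} [IsIntegral X]

theorem mspec_injective_of_isTorsionFree {F : X.Modules} [F.IsQuasicoherent]
    (hF : _root_.TorSh.IsTorsionFree F) (x : X) :
    Function.Injective (mspec F (genSpec x)) := by
  refine (injective_iff_map_eq_zero _).mpr fun v hv => ?_
  obtain ⟨U, hU, m, rfl⟩ := exists_germ F x v
  rw [mspec_germ] at hv
  exact Misc1.TorSh.germ_eq_zero_of_generic F hF hU m hv

theorem stalkMapₗ_injective_of_mono {A M : X.Modules} (f : A ⟶ M) [Mono f] (x : X) :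
    Function.Injective (RefHull.stalkMapₗ f x) :=
  (QCohMod.mono_iff_stalk f).1 inferInstance x

theorem mono_of_generic {A M : X.Modules} [A.IsQuasicoherent] (hA : _root_.TorSh.IsTorsionFree A)
    (f : A ⟶ M) (h : Function.Injective (RefHull.stalkMapₗ f (genericPoint ↥X))) : Mono f := by
  refine (QCohMod.mono_iff_stalk f).2 fun x a b hab => ?_
  refine mspec_injective_of_isTorsionFree hA x (h ?_)
  rw [stalkMapₗ_mspec, stalkMapₗ_mspec]
  exact congrArg (mspec M (genSpec x)) hab

/-- A nonzero submodule of a torsion-free module of rank one agrees with it at the generic point. -/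
theorem bijective_generic_of_mono {A M : X.Modules} [M.IsQuasicoherent]
    (hM : _root_.TorSh.IsTorsionFree M) (h1 : IsRankOne M) (ι : A ⟶ M) [Mono ι] (hA : Coh.IsCoh A)
    (h0 : ¬ IsZero A) : Function.Bijective (RefHull.stalkMapₗ ι (genericPoint ↥X)) := by
  have hinj := stalkMapₗ_injective_of_mono ι (genericPoint ↥X)
  refine ⟨hinj, fun w => ?_⟩
  have hη : genericPoint ↥X ∈ CohB1.support A := by
    rw [support_eq_univ_of_mono hM ι hA h0]; trivial
  obtain ⟨v, hv⟩ : ∃ v : A.presheaf.stalk (genericPoint ↥X), v ≠ 0 := by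
    by_contra h
    push Not at h
    exact hη ⟨fun a b => (h a).trans (h b).symm⟩
  obtain ⟨c, hc⟩ := (h1.isStalkBasis fun h => hv (hinj (h.trans (map_zero _).symm))).2 w
  exact ⟨c • v, (map_smul _ c v).trans hc⟩

theorem isRankOne_of_mono {A M : X.Modules} [M.IsQuasicoherent]
    (hM : _root_.TorSh.IsTorsionFree M) (h1 : IsRankOne M) (ι : A ⟶ M) [Mono ι] (hA : Coh.IsCoh A)
    (h0 : ¬ IsZero A) : IsRankOne A := by
  obtain ⟨w, hw⟩ := h1
  have hb := bijective_generic_of_mono hM ⟨w, hw⟩ ι hA h0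
  obtain ⟨v, rfl⟩ := hb.2 w
  refine ⟨v, fun a b hab => hw.1 ?_, fun z => ?_⟩
  · change a • RefHull.stalkMapₗ ι _ v = b • RefHull.stalkMapₗ ι _ v
    rw [← map_smul, ← map_smul]
    exact congrArg _ hab
  · obtain ⟨c, hc⟩ := hw.2 (RefHull.stalkMapₗ ι _ z)
    exact ⟨c, hb.1 ((map_smul _ c v).trans hc)⟩

theorem dim_support_le [IsLocallyNoetherian X] {F : X.Modules} {n : ℕ}
    (hn : topologicalKrullDim X = (n : WithBot ℕ∞)) :
    topologicalKrullDim (CohB1.support F) ≤ (n : WithBot ℕ∞) :=
  hn ▸ (Topology.IsEmbedding.subtypeVal).isInducing.topologicalKrullDim_le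

theorem isTorsionFree_of_isInvertible [IsLocallyNoetherian X] {M : X.Modules}
    (hM : PicF.IsInvertible M) : _root_.TorSh.IsTorsionFree M :=
  isTorsionFree_of_isReflexive (EulerDeg.isCoh_of_isInvertible hM)
    (RefRank.CartierTwist.isRef1_of_isInvertible hM).2.1

theorem isRankOne_of_isInvertible [IsLocallyNoetherian X] {M : X.Modules} (hM : PicF.IsInvertible M) : IsRankOne M := by
  obtain ⟨t, ht⟩ := exists_isStalkBasis_of_isInvertible hM (genericPoint ↥X)
  exact ⟨t, ht⟩

theorem not_isZero_of_isRankOne {M : X.Modules} (hM : IsRankOne M) : ¬ IsZero M := fun h => by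
  obtain ⟨w, hw⟩ := hM
  have hs : genericPoint ↥X ∉ CohB1.support M := by
    rw [(QCohMod.isZero_iff_support_eq_empty M).mp h]; exact id
  have := not_not.mp hs
  exact one_ne_zero (hw.1 (Subsingleton.elim ((1 : X.presheaf.stalk (genericPoint ↥X)) • w)
    ((0 : X.presheaf.stalk (genericPoint ↥X)) • w)))

end Generic

section Taylor

theorem taylor_top {P : ℚ[X]} (hP : P.natDegree ≤ 2) (c : ℚ) :
    (taylor c P).coeff 2 = P.coeff 2 ∧ (taylor c P).coeff 1 = P.coeff 1 + 2 * c * P.coeff 2 := by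
  have e : P = C (P.coeff 2) * X ^ 2 + C (P.coeff 1) * X + C (P.coeff 0) := by
    conv_lhs => rw [P.as_sum_range_C_mul_X_pow' (Nat.lt_succ_of_le hP)]
    simp [Finset.sum_range_succ]
    ring
  generalize P.coeff 2 = a, P.coeff 1 = b, P.coeff 0 = d at e
  subst e
  have h : taylor c (C a * X ^ 2 + C b * X + C d) =
      C a * X ^ 2 + C (b + 2 * c * a) * X + C (a * c ^ 2 + b * c + d) := by
    simp [taylor_apply]
    simp only [map_add, map_mul, map_pow, map_ofNat]
    ring
  rw [h]
  constructor <;> simp only [coeff_add, coeff_C_mul, coeff_X_pow, coeff_X, coeff_C] <;> norm_num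

theorem hatSlope_two (P : ℚ[X]) : StabCat.hatSlope 2 P = P.coeff 1 / (2 * P.coeff 2) := by
  simp [StabCat.hatSlope, StabCat.alpha, Nat.factorial]

theorem alpha_two (P : ℚ[X]) : StabCat.alpha 2 P = 2 * P.coeff 2 := by
  simp [StabCat.alpha, Nat.factorial]

theorem hatSlope_taylor {P : ℚ[X]} (hP : P.natDegree ≤ 2) (hP2 : P.coeff 2 ≠ 0) (c : ℚ) :
    StabCat.hatSlope 2 (taylor c P) = StabCat.hatSlope 2 P + c := by
  obtain ⟨h2, h1⟩ := taylor_top hP c
  rw [hatSlope_two, hatSlope_two, h1, h2]
  field_simp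

end Taylor

section Surface

variable (k : Type u) [Field k] {X : Scheme.{u}} [X.Over (Spec (CommRingCat.of k))] [IsIntegral X]
  [IsProper (X ↘ Spec (CommRingCat.of k))] {L : X.Modules} (hL : CohB1.IsAmple L)
  (hX : topologicalKrullDim X = ((2 : ℕ) : WithBot ℕ∞))

include hL hX

theorem natDegree_le_two {A : X.Modules} (hA : Coh.IsCoh A) {P : ℚ[X]}
    (hP : ShStab.IsHilbPoly k X L A P) : P.natDegree ≤ 2 := by
  haveI := isLocallyNoetherian k (X := X)
  exact natDegree_le_of_support_subset k hL (dim_support_le hX) subset_rfl hA hP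

/-- A nonzero submodule of a torsion-free module of rank one has the same leading coefficient. -/
theorem coeff_two_eq_of_mono {A M : X.Modules} (hM : _root_.TorSh.IsTorsionFree M) (h1 : IsRankOne M)
    (hMc : Coh.IsCoh M) (ι : A ⟶ M) [Mono ι] (hA : Coh.IsCoh A) (h0 : ¬ IsZero A) {pA pM : ℚ[X]}
    (hpA : ShStab.IsHilbPoly k X L A pA) (hpM : ShStab.IsHilbPoly k X L M pM) :
    pA.coeff 2 = pM.coeff 2 := by
  haveI := isLocallyNoetherian k (X := X)
  haveI := hMc.1
  haveI := hA.1
  have hC := QCohMod.isCoh_cokernel ι hMc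
  obtain ⟨pC, hpC⟩ := exists_isHilbPoly k X hL hC
  have hdim : topologicalKrullDim (CohB1.support (cokernel ι)) ≤ ((1 : ℕ) : WithBot ℕ∞) :=
    Variety2.Growth.topologicalKrullDim_le_of_lt
      (Variety2.Growth.dim_lt_of_notMem hX (CohTwo.isClosed_support _ hC)
        fun hx => KTheory.Devissage.subsingleton_cokernel_stalk _ _
          (bijective_generic_of_mono hM h1 ι hA h0).2 hx)
  have hd := natDegree_le_of_support_subset k hL hdim subset_rfl hC hpC
  rw [isHilbPoly_cokernel_add k hL hA ι hMc hpA hpM hpC, coeff_add,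
    coeff_eq_zero_of_natDegree_lt (show pC.natDegree < 2 by omega), add_zero]

/-- A submodule of the same rank has at most the slope of the ambient module. -/
theorem hatSlope_le_of_mono {A B : X.Modules} (hB : Coh.IsCoh B) (ι : A ⟶ B) [Mono ι]
    (hA : Coh.IsCoh A) {pA pB : ℚ[X]} (hpA : ShStab.IsHilbPoly k X L A pA)
    (hpB : ShStab.IsHilbPoly k X L B pB) (he : pA.coeff 2 = pB.coeff 2) (hpos : 0 < pB.coeff 2) :
    StabCat.hatSlope 2 pA ≤ StabCat.hatSlope 2 pB := by
  haveI := isLocallyNoetherian k (X := X)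
  haveI := hA.1
  have hC := QCohMod.isCoh_cokernel ι hB
  obtain ⟨pC, hpC⟩ := exists_isHilbPoly k X hL hC
  have hd := natDegree_le_two k hL hX hC hpC
  have hsum := isHilbPoly_cokernel_add k hL hA ι hB hpA hpB hpC
  have h2 : pC.coeff 2 = 0 := by
    have := congrArg (fun p => p.coeff 2) hsum
    simp only [coeff_add] at this
    linarith
  have hd1 : pC.natDegree ≤ 1 := by
    by_contra hlt
    have h := leadingCoeff_ne_zero.mpr (fun h0 : pC = 0 => hlt (by simp [h0]))
    rw [leadingCoeff, show pC.natDegree = 2 by omega] at h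
    exact h h2
  have h1 : 0 ≤ pC.coeff 1 := by
    simpa [StabCat.alpha] using alpha_nonneg_of_natDegree_le (d := 1) (nn_hilbPoly k hL hC hpC) hd1
  rw [hatSlope_two, hatSlope_two, he]
  gcongr
  rw [hsum, coeff_add]
  linarith

theorem coeff_two_pos {A M : X.Modules} [M.IsQuasicoherent] (hM : _root_.TorSh.IsTorsionFree M)
    (ι : A ⟶ M) [Mono ι] (hA : Coh.IsCoh A) (h0 : ¬ IsZero A) {pA : ℚ[X]}
    (hpA : ShStab.IsHilbPoly k X L A pA) : 0 < pA.coeff 2 := by
  have := alpha_pos_of_isPure k hL (isPure_of_isTorsionFree hM hX) ι hA h0 hpA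
  rw [alpha_two] at this
  linarith

end Surface

end Groth.HilbStab
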