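import Groth.Agent.HilbStab.K3Ext
import Groth.Agent.SGA7.Ext1
import Groth.Agent.Duality.SheafHomExt
import Groth.Agent.Duality.PnExtStalk
import Groth.Agent.CohC3.ProperHelpers
import Groth.Agent.KTheory.LocFree
import Groth.Agent.S15849
import Groth.Agent.S18968
import Groth.Agent.S15854

/-!
# Vanishing of the first cohomology of line bundles on K3 surfaces of Picard number one
-/

set_option autoImplicit false
set_option linter.style.haveILetI false

universe w v u

open CategoryTheory CategoryTheory.Limits AlgebraicGeometry Polynomial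
open CategoryTheory.Abelian
open Groth.RefRank Groth.PicAux

namespace Groth.HilbStab

section Ext

variable {C : Type u} [Category.{v} C] [Abelian C] [HasExt.{w} C]

/-- A sequence with a nonzero class does not split. -/
theorem ne_id_of_extClass_ne_zero {S : ShortComplex C} (hS : S.ShortExact) (h : hS.extClass ≠ 0)
    (r : S.X₂ ⟶ S.X₁) : S.f ≫ r ≠ 𝟙 S.X₁ := fun hr => h <| by
  calc hS.extClass = hS.extClass.comp (Ext.mk₀ (S.f ≫ r)) (add_zero 1) := by
        rw [hr, Ext.comp_mk₀_id]
    _ = 0 := by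
        rw [← Ext.mk₀_comp_mk₀, ← Ext.comp_assoc_of_second_deg_zero, hS.extClass_comp, Ext.zero_comp]

/-- A sequence with a nonzero class has no section. -/
theorem ne_id_of_extClass_ne_zero' {S : ShortComplex C} (hS : S.ShortExact) (h : hS.extClass ≠ 0)
    (r : S.X₃ ⟶ S.X₂) : r ≫ S.g ≠ 𝟙 S.X₃ := fun hr => h <| by
  calc hS.extClass = (Ext.mk₀ (r ≫ S.g)).comp hS.extClass (zero_add 1) := by
        rw [hr, Ext.mk₀_id_comp]
    _ = 0 := by
        rw [← Ext.mk₀_comp_mk₀, Ext.comp_assoc_of_second_deg_zero, hS.comp_extClass, Ext.comp_zero]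

end Ext

variable (k : Type u) [Field k] [IsAlgClosed k] [CharZero k] {X : Scheme.{u}}
  [X.Over (Spec (CommRingCat.of k))] [IsIntegral X] [Smooth (X ↘ Spec (CommRingCat.of k))]
  [IsProper (X ↘ Spec (CommRingCat.of k))]
  (hdim : topologicalKrullDim X = 2)
  {n : ℕ} (ι : X ⟶ CohB1.ProjSpace n k) [IsClosedImmersion ι]
  (hι : ι ≫ CohB1.ProjSpace.toSpec n k = X ↘ Spec (CommRingCat.of k))
  (hK : Canon.IsTopDiff (X ↘ Spec (CommRingCat.of k)) 2 (Coh.structureModule X))
  (hq : Module.finrank k (Coh.HH X (Coh.structureModule X) 1) = 0)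
  {G : X.Modules} (hGi : PicF.IsInvertible G) (hGa : CohB1.IsAmple G) [PicGrp.Law X]
  (hgen : ∀ c : PicLoc.PicSet X, ∃ m : ℤ, c = PicGrp.cls G hGi ^ m)
  (hfree : ∀ m : ℤ, PicGrp.cls G hGi ^ m = 1 → m = 0)
  [HasExt.{u} X.Modules]

/-- `Ext¹` out of an invertible module is first cohomology. -/
theorem nonempty_ext_invertible {A A' : X.Modules} (hA : PicF.IsInvertible A)
    (h : ClSub.IsInverseOf A A') (M : X.Modules) :
    Nonempty (Ext A M 1 ≃ₗ[k] Coh.HH X (CohB1.tensorMod M A') 1) := by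
  haveI := Groth.Duality.SheafHom.hasSheafHom A
  obtain ⟨e⟩ := Groth.Duality.SheafHom.nonempty_ext_linearEquiv k A
    (Groth.LocFree.isFinLocFree_of_rank (Groth.LocFree.isInvertible_iff_ofRank_one.1 hA)) 1 M
  obtain ⟨t⟩ := Groth.Duality.SheafHom.nonempty_sheafHom_inverse_app h M
  exact ⟨e.trans (EulerDeg.hEquiv k t 1)⟩

omit [IsAlgClosed k] [CharZero k] [Smooth (X ↘ Spec (CommRingCat.of k))] [IsIntegral X] in
theorem nonempty_hom_structure (M : X.Modules) :
    Nonempty ((Coh.structureModule X ⟶ M) ≃ₗ[k] Coh.HH X M 0) := by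
  haveI := Groth.Duality.SheafHom.hasSheafHom (Coh.structureModule X)
  have hOi := PicLoc.isInvertible_structureModule X
  have h : ClSub.IsInverseOf (Coh.structureModule X) (Coh.structureModule X) :=
    ⟨(Groth.Inter.tensor_one _).some⟩
  obtain ⟨t⟩ := Groth.Duality.SheafHom.nonempty_sheafHom_inverse_app h M
  exact ⟨(Groth.Duality.SheafHom.homH0 (Coh.structureModule X) k M).trans (EulerDeg.hEquiv k
    (t ≪≫ (Groth.Inter.tensor_comm M _).some ≪≫ (Groth.Inter.tensor_one M).some) 0)⟩

include hdim hι hK hGa in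
/-- There is no cohomology in degree two of a positive line bundle, and its Euler characteristic is
at least the self-intersection. -/
theorem positive_line_bundle {M : X.Modules} (hM : PicF.IsInvertible M) {z : ℕ} (hz0 : 1 ≤ z)
    (hz : PicGrp.cls M hM = PicGrp.cls G hGi ^ (z : ℤ)) {pO : ℚ[X]}
    (hpO : ShStab.IsHilbPoly k X G (Coh.structureModule X) pO)
    (hq : Module.finrank k (Coh.HH X (Coh.structureModule X) 1) = 0) :
    Module.finrank k (Coh.HH X M 2) = 0 ∧
      Module.finrank k (Coh.HH X M 1) < Module.finrank k (Coh.HH X M 0) := by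
  haveI := isLocallyNoetherian k (X := X)
  have hX : topologicalKrullDim X = ((2 : ℕ) : WithBot ℕ∞) := by simpa using hdim
  have hOi := PicLoc.isInvertible_structureModule X
  have hOc : Coh.IsCoh (Coh.structureModule X) := QCohMod.isCoh_unit
  haveI := hOc.1
  have hOtf := isTorsionFree_of_isInvertible hOi
  have hO2 := coeff_two_pos k hGa hX hOtf (𝟙 _) hOc
    (not_isZero_of_isRankOne (isRankOne_of_isInvertible hOi)) hpO
  have h1 := coeff_one_structure k hGa hX ι hι hK hpO
  have hd := (Groth.SurfRR.dualDim_topForms k hdim ι hι hK).2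
  obtain ⟨M', hM', hMM'⟩ := exists_isInverseOf hM
  have hMc := EulerDeg.isCoh_of_isInvertible hM
  have hM'c := EulerDeg.isCoh_of_isInvertible hM'
  haveI := hM'c.1
  have key := fun i hi => hd M M' hM hMM' i hi
  have e : ∀ i, Module.finrank k (Coh.HH X (CohB1.tensorMod (Coh.structureModule X) M') i) =
      Module.finrank k (Coh.HH X M' i) := fun i =>
    (EulerDeg.hEquiv k (Groth.Inter.tensor_one M').some i).finrank_eq
  have hz' : PicGrp.cls M' hM' = PicGrp.cls G hGi ^ (-(z : ℤ)) := by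
    have h := (PicGrp.cls_mul_cls_eq_one_iff hM hM').2 hMM'
    rw [hz] at h
    rw [zpow_neg]
    exact eq_inv_of_mul_eq_one_right h
  obtain ⟨pM', hpM'⟩ := exists_isHilbPoly k X hGa hM'c
  obtain ⟨a2, a1⟩ := coeff_of_cls_zpow k hGa hX hGi hM' hz' hpO h1 hpM'
  have h2 : Module.finrank k (Coh.HH X M 2) = 0 := by
    rw [show Module.finrank k (Coh.HH X M 2) = Module.finrank k (Coh.HH X M' 0) from
      ((key 0 (by omega)).symm.trans (e 0))]
    by_contra h0
    obtain ⟨s, hs⟩ := Groth.Curves1.RankTwo.exists_section_hom (k := k)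
      (M := M') (Module.nontrivial_of_finrank_pos (R := k) (by omega))
    haveI : Mono s := mono_of_ne_zero hOtf (isRankOne_of_isInvertible hOi)
      (isTorsionFree_of_isInvertible hM') s hs
    have h := hatSlope_le_of_mono k hGa hX hM'c s hOc hpO hpM' a2.symm (a2 ▸ hO2)
    rw [hatSlope_two, hatSlope_two, a1, a2, h1, div_le_div_iff_of_pos_right (by linarith)] at h
    have : (1 : ℚ) ≤ (z : ℤ) := by exact_mod_cast hz0
    push_cast at h this
    nlinarith
  refine ⟨h2, ?_⟩
  have hPi := Groth.Abvar.PicCalc.isInvertible_tensorPow hGi z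
  obtain ⟨eM⟩ := (PicGrp.cls_eq_cls_iff hM hPi).1 (by
    rw [hz, zpow_natCast]
    exact Subtype.ext (PicGrp.cls_pow_val hGi z))
  have hpM := isHilbPoly_iso k eM.symm (isHilbPoly_tensorPow k hGa hpO z)
  have hO0 : 0 ≤ Curv2.euler k X (Coh.structureModule X) := by
    rw [Groth.Inter.euler_eq_three k hX.le, hq]
    omega
  have hOd := natDegree_le_two k hGa hX hOc hpO
  have hχ : (0 : ℚ) < (Curv2.euler k X M : ℚ) := by
    rw [euler_eq_eval k hGa hpM, taylor_eval, zero_add]
    have h0 : (0 : ℚ) ≤ pO.eval 0 := by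
      rw [← euler_eq_eval k hGa hpO]; exact_mod_cast hO0
    rw [eval_eq_sum_range' (Nat.lt_succ_of_le hOd)] at h0 ⊢
    simp [Finset.sum_range_succ, h1] at h0 ⊢
    have : (1 : ℚ) ≤ z := by exact_mod_cast hz0
    nlinarith [mul_le_mul this this zero_le_one (by linarith)]
  have hχ' : 0 < Curv2.euler k X M := by exact_mod_cast hχ
  rw [Groth.Inter.euler_eq_three k hX.le, h2] at hχ'
  omega

omit [IsAlgClosed k] [CharZero k] in
include k hdim in
/-- The sequence of an extension of an invertible module by the structure sheaf. -/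
theorem exists_sequence {A : X.Modules} (hA : PicF.IsInvertible A)
    {e : Ext A (Coh.structureModule X) 1} :
    ∃ (V : X.Modules) (a : Coh.structureModule X ⟶ V) (b : V ⟶ A) (w : a ≫ b = 0)
      (h : (ShortComplex.mk a b w).ShortExact),
      h.extClass = e ∧ Coh.IsCoh V ∧ RefHull.IsReflexive V ∧ _root_.TorSh.IsTorsionFree V := by
  haveI := isLocallyNoetherian k (X := X)
  obtain ⟨V, a, b, w, h, hh⟩ := Groth.SGA7.Ext1.exists_shortExact_extClass_eq e
  have hl : ∀ {M : X.Modules}, PicF.IsInvertible M → FlatMod.IsFinLocFree M := fun hM =>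
    Groth.LocFree.isFinLocFree_of_rank (Groth.LocFree.isInvertible_iff_ofRank_one.1 hM)
  have hV : FlatMod.IsFinLocFree V :=
    Groth.KTheory.LocFree.isFinLocFree_of_shortExact h (hl (PicLoc.isInvertible_structureModule X)) (hl hA)
  have hVr : RefHull.IsReflexive V := Groth.ProjFormula.isIso_bidualMap hV
  exact ⟨V, a, b, w, h, hh, Groth.KTheory.LocFree.isCoh hV, hVr,
    isTorsionFree_of_isReflexive (Groth.KTheory.LocFree.isCoh hV) hVr⟩

include hdim hι hK hq hgen hfree hGa in
/-- The polarisation has no nonsplit extensions by `O`. -/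
theorem subsingleton_ext_one : Subsingleton (Ext G (Coh.structureModule X) 1) := by
  refine subsingleton_of_forall_eq 0 fun e => by_contra fun he => ?_
  haveI := isLocallyNoetherian k (X := X)
  have hX : topologicalKrullDim X = ((2 : ℕ) : WithBot ℕ∞) := by simpa using hdim
  obtain ⟨V, a, b, w, hex, rfl, hV, hVr, hVtf⟩ := exists_sequence k hdim hGi (e := e)
  have hns : ∀ r : V ⟶ Coh.structureModule X, a ≫ r ≠ 𝟙 _ := ne_id_of_extClass_ne_zero hex he
  have hGc := EulerDeg.isCoh_of_isInvertible hGi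
  have hzero : topologicalKrullDim (CohB1.support (cokernel (𝟙 G))) ≤ 0 := by
    have : IsEmpty (CohB1.support (cokernel (𝟙 G))) := Set.isEmpty_coe_sort.2
      ((Groth.QCohMod.isZero_iff_support_eq_empty _).1 (isZero_cokernel_of_epi _))
    have : IsEmpty (TopologicalSpace.IrreducibleCloseds (CohB1.support (cokernel (𝟙 G)))) :=
      ⟨fun Z => IsEmpty.false Z.2.nonempty.some⟩
    exact le_of_eq_of_le Order.krullDim_eq_bot bot_le
  have hμ := Groth.Agent.S15849.result k X hdim ⟨n, ι, inferInstance, hι⟩ G hGi hGa hgen hfree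
    G (𝟙 G) hGc hzero V hV hVtf a b w hex hns
  have hend : ∀ φ : V ⟶ V, ∃ c : k, φ = c • 𝟙 V := by
    intro φ
    obtain ⟨c, hc⟩ := Groth.Agent.S18968.result k X 2 (by norm_num) hX G hGi hGa V hVr hμ φ
    refine ⟨c, ?_⟩
    ext U s
    refine Eq.trans (hc U s) ?_
    exact (KLin.smul_app_apply c (𝟙 V) U s).symm
  obtain ⟨G', hG', hGG'⟩ := exists_isInverseOf hGi
  have hG'c := EulerDeg.isCoh_of_isInvertible hG'
  haveI : ∀ (M : X.Modules), PicF.IsInvertible M → Module.Finite k (Coh.HH X M 0) := fun M hM =>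
    Groth.CohC3.finite_HH_of_proper k X (EulerDeg.isCoh_of_isInvertible hM) 0
  obtain ⟨eO⟩ := nonempty_ext_invertible k hGi hGG' (Coh.structureModule X)
  let eO' := eO.trans (EulerDeg.hEquiv k (Groth.Inter.tensor_one G').some 1)
  haveI : Module.Finite k (Coh.HH X G' 1) := Groth.CohC3.finite_HH_of_proper k X hG'c 1
  haveI : Module.Finite k (Ext G (Coh.structureModule X) 1) := Module.Finite.equiv eO'.symm
  -- the restriction of endomorphisms to `O`
  let U : Ext G (Coh.structureModule X) 1 →ₗ[k] Ext G V 1 :=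
    Groth.Duality.SheafHom.compRight k (Ext.mk₀ a) (add_zero 1)
  obtain ⟨eOO⟩ := nonempty_ext_invertible k hGi hGG' G
  haveI : Subsingleton (Coh.HH X (Coh.structureModule X) 1) := by
    haveI : Module.Finite k (Coh.HH X (Coh.structureModule X) 1) :=
      Groth.CohC3.finite_HH_of_proper k X QCohMod.isCoh_unit 1
    exact Module.finrank_zero_iff.1 hq
  haveI : Subsingleton (Ext G G 1) := (eOO.trans (EulerDeg.hEquiv k hGG'.some 1)).toEquiv.subsingleton
  have hU : Function.Surjective U := fun x =>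
    Ext.covariant_sequence_exact₂ G hex x (Subsingleton.elim _ _)
  haveI : Module.Finite k (Ext G V 1) := Module.Finite.of_surjective U hU
  obtain ⟨eV⟩ := nonempty_hom_structure k V
  haveI : Module.Finite k (Coh.HH X V 0) := Groth.CohC3.finite_HH_of_proper k X hV 0
  haveI : Module.Finite k (Coh.structureModule X ⟶ V) := Module.Finite.equiv eV.symm
  let T : (Coh.structureModule X ⟶ V) →ₗ[k] Ext G V 1 :=
    { toFun := fun φ => hex.extClass.comp (Ext.mk₀ φ) (add_zero 1)
      map_add' := fun φ ψ => by rw [Ext.mk₀_add, Ext.comp_add]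
      map_smul' := fun c φ => by rw [Ext.mk₀_smul, Ext.comp_smul, RingHom.id_apply] }
  have hker : LinearMap.ker T ≤ Submodule.span k {a} := by
    intro φ hφ
    obtain ⟨x, hx⟩ := Ext.contravariant_sequence_exact₁ hex V (Ext.mk₀ φ) (n₁ := 1) (add_zero 1)
      (LinearMap.mem_ker.1 hφ)
    obtain ⟨ψ, rfl⟩ := (Ext.mk₀_bijective _ _).2 x
    rw [Ext.mk₀_comp_mk₀] at hx
    obtain ⟨c, rfl⟩ := hend ψ
    rw [← (Ext.mk₀_bijective _ _).1 hx]
    exact Submodule.mem_span_singleton.2 ⟨c, by rw [Linear.comp_smul, Category.comp_id]⟩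
  have hVle : Module.finrank k (Coh.HH X V 0) ≤ 1 + Module.finrank k (Coh.HH X G' 1) := by
    rw [← eV.finrank_eq, ← eO'.finrank_eq, ← T.finrank_range_add_finrank_ker]
    have h1 : Module.finrank k (LinearMap.ker T) ≤ 1 := (Submodule.finrank_mono hker).trans
      (le_trans (finrank_span_le_card ({a} : Set (Coh.structureModule X ⟶ V))) (by simp))
    have h2 : Module.finrank k (LinearMap.range T) ≤ Module.finrank k (Ext G (Coh.structureModule X) 1) :=
      (Submodule.finrank_le _).trans (LinearMap.finrank_le_finrank_of_surjective hU)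
    omega
  -- sections of `V`
  obtain ⟨pO, hpO⟩ := exists_isHilbPoly k X hGa (QCohMod.isCoh_unit (X := X))
  have hG1 := (positive_line_bundle k hdim ι hι hK hGi hGa hGi (z := 1) le_rfl
    (by rw [Nat.cast_one, zpow_one]) hpO hq).2
  have hh : Module.finrank k (Coh.HH X G 1) = Module.finrank k (Coh.HH X G' 1) :=
    (((Groth.SurfRR.dualDim_topForms k hdim ι hι hK).2 G G' hGi hGG' 1 (by omega)).symm).trans
      (EulerDeg.hEquiv k (Groth.Inter.tensor_one G').some 1).finrank_eq
  let g0 := EulerDeg.hMap k b 0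
  haveI : Module.Finite k (Coh.HH X G 0) := Groth.CohC3.finite_HH_of_proper k X hGc 0
  have hg : Function.Surjective g0 := fun y =>
    (EulerDeg.exact_right k hex 0 y).mp (Subsingleton.elim _ _)
  have hsum := g0.finrank_range_add_finrank_ker
  rw [LinearMap.range_eq_top.mpr hg, finrank_top] at hsum
  have hk : 1 ≤ Module.finrank k (LinearMap.ker g0) := by
    rw [show LinearMap.ker g0 = LinearMap.range (EulerDeg.hMap k a 0) from
      (EulerDeg.exact_mid k hex 0).linearMap_ker_eq,
      LinearMap.finrank_range_of_inj (EulerDeg.injective_zero k hex)]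
    obtain ⟨eo⟩ := nonempty_hom_structure k (Coh.structureModule X)
    haveI : Module.Finite k (Coh.HH X (Coh.structureModule X) 0) :=
      Groth.CohC3.finite_HH_of_proper k X QCohMod.isCoh_unit 0
    haveI : Nontrivial (Coh.HH X (Coh.structureModule X) 0) := by
      have : Nontrivial (Coh.structureModule X ⟶ Coh.structureModule X) :=
        ⟨⟨𝟙 _, 0, fun h => hns 0 (by rw [Limits.comp_zero, h])⟩⟩
      exact eo.symm.toEquiv.nontrivial
    exact Module.finrank_pos
  omega

include hdim hι hK hq hgen hfree hGa in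
/-- The positive powers of the polarisation have no nonsplit extensions by `O`. -/
theorem subsingleton_ext_pow {A : X.Modules} (hA : PicF.IsInvertible A) {m : ℕ} (hm : 1 ≤ m)
    (hAc : PicGrp.cls A hA = PicGrp.cls G hGi ^ (m : ℤ)) :
    Subsingleton (Ext A (Coh.structureModule X) 1) := by
  have h1 := subsingleton_ext_one k hdim ι hι hK hq hGi hGa hgen hfree
  refine subsingleton_of_forall_eq 0 fun e => by_contra fun he => ?_
  haveI := isLocallyNoetherian k (X := X)
  have hX : topologicalKrullDim X = ((2 : ℕ) : WithBot ℕ∞) := by simpa using hdim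
  obtain ⟨V, a, b, w, hex, rfl, hV, hVr, hVtf⟩ := exists_sequence k hdim hA (e := e)
  have hns := ne_id_of_extClass_ne_zero' hex he
  have hGc := EulerDeg.isCoh_of_isInvertible hGi
  have hAc' := EulerDeg.isCoh_of_isInvertible hA
  haveI := hGc.1
  haveI := hAc'.1
  haveI := hV.1
  have hOi := PicLoc.isInvertible_structureModule X
  have hOc : Coh.IsCoh (Coh.structureModule X) := QCohMod.isCoh_unit
  obtain ⟨pO, hpO⟩ := exists_isHilbPoly k X hGa hOc
  have hO2 := coeff_two_pos k hGa hX (isTorsionFree_of_isInvertible hOi) (𝟙 _) hOc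
    (not_isZero_of_isRankOne (isRankOne_of_isInvertible hOi)) hpO
  have hO1 := coeff_one_structure k hGa hX ι hι hK hpO
  -- a morphism from the polarisation
  obtain ⟨f, hf⟩ : ∃ f : G ⟶ A, f ≠ 0 := by
    rcases Nat.lt_or_ge 1 m with hm1 | hm1
    · let P := CohB1.tensorPow G (m - 1)
      have hP : PicF.IsInvertible P := Groth.Abvar.PicCalc.isInvertible_tensorPow hGi (m - 1)
      have hPc : PicGrp.cls P hP = PicGrp.cls G hGi ^ ((m - 1 : ℕ) : ℤ) := by
        rw [zpow_natCast]; exact Subtype.ext (PicGrp.cls_pow_val hGi (m - 1)).symm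
      obtain ⟨s, hs⟩ := Groth.Curves1.RankTwo.exists_section_hom (k := k) (M := P)
        (Module.nontrivial_of_finrank_pos (R := k) (lt_of_le_of_lt (Nat.zero_le _)
          (positive_line_bundle k hdim ι hι hK hGi hGa hP (by omega) hPc hpO hq).2))
      obtain ⟨g, hg⟩ := Groth.Agent.S15854.exists_twist_map hGi s
      have hT : PicF.IsInvertible (CohB1.tensorMod P G) := Groth.PicAux.isInvertible_tensorMod hP hGi
      obtain ⟨eA⟩ := (PicGrp.cls_eq_cls_iff hT hA).1 (by
        rw [show PicGrp.cls (CohB1.tensorMod P G) hT = PicGrp.cls P hP * PicGrp.cls G hGi from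
          Subtype.ext (PicGrp.cls_mul_cls_val hP hGi).symm, hPc, hAc]
        nth_rewrite 2 [← zpow_one (PicGrp.cls G hGi)]
        rw [← zpow_add]
        congr 1
        omega)
      let l := (Groth.Inter.tensor_one G).some
      refine ⟨l.inv ≫ g ≫ eA.hom, fun h => hs (hg ?_)⟩
      rwa [← cancel_epi l.inv, ← cancel_mono eA.hom, Category.assoc, Limits.comp_zero, Limits.zero_comp]
    · obtain rfl : m = 1 := by omega
      obtain ⟨eA⟩ := (PicGrp.cls_eq_cls_iff hGi hA).1 (by rw [hAc, Nat.cast_one, zpow_one])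
      exact ⟨eA.hom, fun h => not_isZero_of_isRankOne (isRankOne_of_isInvertible hGi)
        ((IsZero.iff_id_eq_zero _).2 (by rw [← eA.hom_inv_id, h, Limits.zero_comp]))⟩
  obtain ⟨x, hx⟩ := Ext.covariant_sequence_exact₃ (X := G) hex (Ext.mk₀ f) (zero_add 1)
    (Subsingleton.elim _ _)
  obtain ⟨σ, rfl⟩ := (Ext.mk₀_bijective _ _).2 x
  rw [Ext.mk₀_comp_mk₀] at hx
  have hσb : σ ≫ b = f := (Ext.mk₀_bijective _ _).1 hx
  haveI : Mono f := mono_of_ne_zero (isTorsionFree_of_isInvertible hGi)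
    (isRankOne_of_isInvertible hGi) (isTorsionFree_of_isInvertible hA) f hf
  haveI : Mono σ := mono_of_mono_fac hσb
  obtain ⟨pV, hpV⟩ := exists_isHilbPoly k X hGa hV
  obtain ⟨pA, hpA⟩ := exists_isHilbPoly k X hGa hAc'
  obtain ⟨pG, hpG⟩ := exists_isHilbPoly k X hGa hGc
  have hQc := QCohMod.isCoh_cokernel σ hV
  obtain ⟨pQ, hpQ⟩ := exists_isHilbPoly k X hGa hQc
  have hVsum : pV = pO + pA := isHilbPoly_add k hGa hex hOc hAc' hpO hpV hpA
  obtain ⟨hA2, hA1⟩ := coeff_of_cls_zpow k hGa hX hGi hA hAc hpO hO1 hpA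
  obtain ⟨hG2, hG1⟩ := coeff_of_cls_zpow k hGa hX hGi hGi (z := 1) (zpow_one _).symm hpO hO1 hpG
  have hQ2 : pQ.coeff 2 = pO.coeff 2 := by
    have h := congrArg (fun q => q.coeff 2) (isHilbPoly_cokernel_add k hGa hGc σ hV hpG hpV hpQ)
    simp only [coeff_add] at h
    rw [hVsum, coeff_add, hA2, hG2] at h
    linarith
  obtain ⟨F, N, j, b', w', D, E, hD, hE, δ, ιN, τ, hex', hF, hN, hmτ, hτ, hmδ, hδ, hmι, hι0, hiso⟩ :=
    exists_rankTwo_extension k hX hV hVtf hGi σ (isRankOne_of_coeff k hX hGa hQc hpQ hpO hQ2)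
  haveI := hiso hVr
  haveI := hmτ
  haveI := hmι
  haveI := hF.1
  haveI := hN.1
  haveI : Mono j := hex'.mono_f
  have hDc := EulerDeg.isCoh_of_isInvertible hD
  have hEc := EulerDeg.isCoh_of_isInvertible hE
  haveI := hDc.1
  haveI := hEc.1
  obtain ⟨pN, hpN⟩ := exists_isHilbPoly k X hGa hN
  obtain ⟨pD, hpD⟩ := exists_isHilbPoly k X hGa hDc
  obtain ⟨pE, hpE⟩ := exists_isHilbPoly k X hGa hEc
  obtain ⟨pC, hpC⟩ := exists_isHilbPoly k X hGa (QCohMod.isCoh_cokernel ιN hEc)
  obtain ⟨z, hz⟩ := hgen (PicGrp.cls D hD)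
  obtain ⟨z', hz'⟩ := hgen (PicGrp.cls E hE)
  obtain ⟨hD2, hD1⟩ := coeff_of_cls_zpow k hGa hX hGi hD hz hpO hO1 hpD
  obtain ⟨hE2, hE1⟩ := coeff_of_cls_zpow k hGa hX hGi hE hz' hpO hO1 hpE
  obtain ⟨hN2, hN1⟩ := coeff_eq_of_cofinite k hGa hX hN hEc ιN hι0 hpN hpE
  have hpF := isHilbPoly_iso k (asIso δ).symm hpD
  have hsum : pV = pD + pN := isHilbPoly_add k hGa hex' hF hN hpF hpV hpN
  -- the map to `A`
  let ψ : D ⟶ A := inv δ ≫ j ≫ b
  have hψ : (τ ≫ δ) ≫ ψ = f := by
    simp only [ψ, Category.assoc, IsIso.hom_inv_id_assoc]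
    rw [← Category.assoc, hτ, hσb]
  haveI : Mono ψ := mono_of_ne_zero (isTorsionFree_of_isInvertible hD) (isRankOne_of_isInvertible hD)
    (isTorsionFree_of_isInvertible hA) ψ fun h => hf (by rw [← hψ, h, Limits.comp_zero])
  haveI : Mono (τ ≫ δ) := mono_comp τ δ
  have hle : (1 : ℚ) ≤ z ∧ (z : ℚ) ≤ m := by
    have h := hatSlope_le_of_mono k hGa hX hDc (τ ≫ δ) hGc hpG hpD (hG2.trans hD2.symm) (hD2 ▸ hO2)
    have h' := hatSlope_le_of_mono k hGa hX hAc' ψ hDc hpD hpA (hD2.trans hA2.symm) (hA2 ▸ hO2)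
    rw [hatSlope_two, hatSlope_two, hG1, hG2, hD1, hD2, div_le_div_iff_of_pos_right (by linarith)] at h
    rw [hatSlope_two, hatSlope_two, hD1, hD2, hA1, hA2, div_le_div_iff_of_pos_right (by linarith)] at h'
    push_cast at h h'
    constructor <;> nlinarith
  -- comparison of the second Chern numbers
  have hev : ∀ {M : X.Modules} {p : ℚ[X]} (hM : PicF.IsInvertible M) (t : ℤ),
      PicGrp.cls M hM = PicGrp.cls G hGi ^ t → ShStab.IsHilbPoly k X G M p →
      p.eval 0 = pO.eval (t : ℚ) := by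
    intro M p hM t ht hp
    have hMd := natDegree_le_two k hGa hX (EulerDeg.isCoh_of_isInvertible hM) hp
    have hOd := natDegree_le_two k hGa hX hOc hpO
    obtain ⟨s, rfl | rfl⟩ := Int.eq_nat_or_neg t
    · have hPi := Groth.Abvar.PicCalc.isInvertible_tensorPow hGi s
      obtain ⟨e⟩ := (PicGrp.cls_eq_cls_iff hM hPi).1
        (ht.trans (by rw [zpow_natCast]; exact Subtype.ext (PicGrp.cls_pow_val hGi s)))
      rw [isHilbPoly_unique k hp (isHilbPoly_iso k e.symm (isHilbPoly_tensorPow k hGa hpO s)),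
        taylor_eval, zero_add, Int.cast_natCast]
    · have hPi := Groth.Abvar.PicCalc.isInvertible_tensorPow hGi s
      obtain ⟨e⟩ := (PicGrp.cls_mul_cls_eq_one_iff hM hPi).1 (by
        rw [ht, show PicGrp.cls _ hPi = PicGrp.cls G hGi ^ s from
          Subtype.ext (PicGrp.cls_pow_val hGi s).symm, zpow_neg, zpow_natCast, inv_mul_cancel])
      rw [← isHilbPoly_unique k (isHilbPoly_iso k e (isHilbPoly_shift k hGa hp s)) hpO, taylor_eval,
        Int.cast_neg, Int.cast_natCast, neg_add_cancel]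
  have hzz : (z : ℚ) + z' = m := by
    have h := congrArg (fun q => q.coeff 1) hsum
    simp only [coeff_add] at h
    rw [hVsum, coeff_add, hO1, hA1, hD1, hN1, hE1] at h
    push_cast at h
    nlinarith
  have hC0 : 0 ≤ pC.eval 0 := by
    have hCc := QCohMod.isCoh_cokernel ιN hEc
    have hd := natDegree_le_of_support_subset k hGa (d := 0) (by simpa using hι0) subset_rfl hCc hpC
    obtain ⟨N', hN'⟩ := exists_eval_eq_h0 k hGa hCc hpC
    have h := hN' N' le_rfl
    rw [eq_C_of_natDegree_le_zero hd, eval_C] at h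
    rw [eq_C_of_natDegree_le_zero hd, eval_C, h]
    exact Nat.cast_nonneg _
  have hEN : pE = pN + pC := isHilbPoly_cokernel_add k hGa hN ιN hEc hpN hpE hpC
  have hzm : (z : ℚ) = m := by
    have h := congrArg (fun q => q.eval 0) hsum
    have h' := congrArg (fun q => q.eval 0) hEN
    have eO := hev hOi 0 (by rw [zpow_zero]; exact (PicGrp.cls_eq_one_iff hOi).2 ⟨Iso.refl _⟩) hpO
    simp only [eval_add] at h h'
    rw [hVsum, eval_add, hev hA m hAc hpA, hev hD z hz hpD] at h
    rw [hev hE z' hz' hpE] at h'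
    have hOd := natDegree_le_two k hGa hX hOc hpO
    rw [eval_eq_sum_range' (Nat.lt_succ_of_le hOd), eval_eq_sum_range' (Nat.lt_succ_of_le hOd),
      eval_eq_sum_range' (Nat.lt_succ_of_le hOd)] at h
    rw [eval_eq_sum_range' (Nat.lt_succ_of_le hOd)] at h'
    simp [Finset.sum_range_succ, hO1] at h h'
    rw [show (z' : ℚ) = m - z by linarith] at h'
    by_contra hne
    nlinarith [mul_pos (mul_pos hO2 (lt_of_lt_of_le one_pos hle.1))
      (sub_pos.2 (lt_of_le_of_ne hle.2 hne))]
  have hzm' : z = (m : ℤ) := by exact_mod_cast hzm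
  subst hzm'
  obtain ⟨eD⟩ := (PicGrp.cls_eq_cls_iff hD hA).1 (hz.trans hAc.symm)
  haveI : IsIso ψ := isIso_of_mono_of_eq k hGa hDc ψ hAc' hpD
    (isHilbPoly_unique k hpA (isHilbPoly_iso k eD hpD) ▸ hpA)
  exact hns (inv ψ ≫ inv δ ≫ j) (by simp [ψ])

include hdim hι hK hq hgen hfree hGa in
/-- Line bundles on a K3 surface of Picard number one have no first cohomology. -/
theorem subsingleton_HH_one_of_isInvertible {M : X.Modules} (hM : PicF.IsInvertible M) :
    Subsingleton (Coh.HH X M 1) := by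
  haveI := isLocallyNoetherian k (X := X)
  have key : ∀ {M M' : X.Modules} (hM : PicF.IsInvertible M), ClSub.IsInverseOf M M' →
      ∀ m : ℕ, 1 ≤ m → PicGrp.cls M hM = PicGrp.cls G hGi ^ (m : ℤ) →
      Subsingleton (Coh.HH X M' 1) := by
    intro M M' hM h m hm hz
    obtain ⟨e⟩ := nonempty_ext_invertible k hM h (Coh.structureModule X)
    haveI := subsingleton_ext_pow k hdim ι hι hK hq hGi hGa hgen hfree hM hm hz
    exact (e.trans (EulerDeg.hEquiv k (Groth.Inter.tensor_one M').some 1)).symm.toEquiv.subsingleton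
  obtain ⟨M', hM', hMM'⟩ := exists_isInverseOf hM
  obtain ⟨z, hz⟩ := hgen (PicGrp.cls M hM)
  have hz' : PicGrp.cls M' hM' = PicGrp.cls G hGi ^ (-z) := by
    have h := (PicGrp.cls_mul_cls_eq_one_iff hM hM').2 hMM'
    rw [hz] at h
    rw [zpow_neg]
    exact eq_inv_of_mul_eq_one_right h
  have hfin : ∀ {N : X.Modules}, Coh.IsCoh N → Module.Finite k (Coh.HH X N 1) := fun hN =>
    Groth.CohC3.finite_HH_of_proper k X hN 1
  rcases lt_trichotomy z 0 with hneg | rfl | hpos
  · obtain ⟨m, hm⟩ := Int.eq_ofNat_of_zero_le (show 0 ≤ -z by omega)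
    refine key hM' ⟨(Groth.Inter.tensor_comm M' M).some ≪≫ hMM'.some⟩ m (by omega) ?_
    rw [hz', hm]
  · rw [zpow_zero] at hz
    obtain ⟨e⟩ := (PicGrp.cls_eq_one_iff hM).1 hz
    haveI := hfin (QCohMod.isCoh_unit (X := X))
    haveI : Subsingleton (Coh.HH X (Coh.structureModule X) 1) := Module.finrank_zero_iff.1 hq
    exact (EulerDeg.hEquiv k e 1).toEquiv.subsingleton
  · obtain ⟨m, rfl⟩ := Int.eq_ofNat_of_zero_le hpos.le
    haveI := key hM hMM' m (by omega) hz
    haveI := hfin (EulerDeg.isCoh_of_isInvertible hM)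
    refine (Module.finrank_zero_iff (R := k)).1 ?_
    rw [← (Groth.SurfRR.dualDim_topForms k hdim ι hι hK).2 M M' hM hMM' 1 (by omega),
      (EulerDeg.hEquiv k (Groth.Inter.tensor_one M').some 1).finrank_eq]
    exact Module.finrank_zero_of_subsingleton

end Groth.HilbStab
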