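import Groth.Agent.HilbStab.Morph
import Groth.Agent.HilbStab.Criteria

/-!
# Kernels and cokernels between semistable modules of the same slope
-/

set_option autoImplicit false

universe u

open CategoryTheory CategoryTheory.Limits AlgebraicGeometry
open Groth.PicAux

namespace Groth.HilbStab

variable (k : Type u) [Field k] {X : Scheme.{u}} [X.Over (Spec (CommRingCat.of k))]
  [IsProper (X ↘ Spec (CommRingCat.of k))] [IsLocallyNoetherian X]
  {L : X.Modules} (hL : CohB1.IsAmple L) {d : ℕ}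

include hL in
theorem nn_cr_sub {F G : X.Modules} (hG : ShStab.IsSemistable k X L G d) (ι : F ⟶ G) [Mono ι]
    (hF : Coh.IsCoh F) {pF pG : Polynomial ℚ} (hpF : ShStab.IsHilbPoly k X L F pF)
    (hpG : ShStab.IsHilbPoly k X L G pG) : NN (cr d pF pG) := by
  by_cases h0 : IsZero F
  · rw [eq_zero_of_isZero k h0 hpF]
    simp [cr, StabCat.alpha, nn_zero]
  by_cases hi : IsIso ι
  · rw [isHilbPoly_unique k (isHilbPoly_iso k (asIso ι) hpF) hpG, cr_self]
    exact nn_zero
  exact (redLE_iff d).mp (hG.2.2.2 F ι inferInstance hF h0 hi pF pG hpF hpG)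

include hL in
theorem nn_cr_quot {E G : X.Modules} (hE : ShStab.IsSemistable k X L E d) (q : E ⟶ G) [Epi q]
    (hG : Coh.IsCoh G) {pE pG : Polynomial ℚ} (hpE : ShStab.IsHilbPoly k X L E pE)
    (hpG : ShStab.IsHilbPoly k X L G pG) : NN (cr d pE pG) := by
  haveI := hG.1
  have hK := QCohMod.isCoh_kernel q hE.1
  obtain ⟨pK, hpK⟩ := exists_isHilbPoly k X hL hK
  have h := nn_cr_sub k hL hE (kernel.ι q) hK hpK hpE
  rw [isHilbPoly_kernel_add k hL hE.1 q hG hpK hpE hpG] at h ⊢
  rwa [cr_right_self, ← cr_left_self d pK pG]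

include hL in
theorem kernel_cokernel_semistable {E F : X.Modules} (hE : ShStab.IsSemistable k X L E d)
    (hF : ShStab.IsSemistable k X L F d) {pE pF : Polynomial ℚ}
    (hpE : ShStab.IsHilbPoly k X L E pE) (hpF : ShStab.IsHilbPoly k X L F pF)
    (hred : StabCat.RedEq d pE pF) (f : E ⟶ F) :
    (IsZero (kernel f) ∨ (ShStab.IsSemistable k X L (kernel f) d ∧
        ∀ pK : Polynomial ℚ, ShStab.IsHilbPoly k X L (kernel f) pK → StabCat.RedEq d pK pE)) ∧
    (IsZero (cokernel f) ∨ (ShStab.IsSemistable k X L (cokernel f) d ∧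
        ∀ pQ : Polynomial ℚ, ShStab.IsHilbPoly k X L (cokernel f) pQ → StabCat.RedEq d pQ pE)) := by
  have h0 := (redEq_iff d).mp hred
  haveI := hE.1.1
  haveI := hF.1.1
  have hαE : 0 < StabCat.alpha d pE := alpha_pos_of_isPure k hL hE.2.2.1 (𝟙 E) hE.1 hE.2.1 hpE
  have hαF : 0 < StabCat.alpha d pF := alpha_pos_of_isPure k hL hF.2.2.1 (𝟙 F) hF.1 hF.2.1 hpF
  have hQ := QCohMod.isCoh_cokernel f hF.1
  haveI := hQ.1
  have hI : Coh.IsCoh (Abelian.image f) := QCohMod.isCoh_kernel (cokernel.π f) hF.1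
  haveI := hI.1
  let q : E ⟶ Abelian.image f := Abelian.factorThruImage f
  have hK := QCohMod.isCoh_kernel f hE.1
  obtain ⟨pK, hpK⟩ := exists_isHilbPoly k X hL hK
  obtain ⟨pQ, hpQ⟩ := exists_isHilbPoly k X hL hQ
  obtain ⟨pI, hpI⟩ := exists_isHilbPoly k X hL hI
  let e : kernel f ≅ kernel q :=
    kernelIsoOfEq (Abelian.image.fac f).symm ≪≫ kernelCompMono q (Abelian.image.ι f)
  have sE := isHilbPoly_kernel_add k hL hE.1 q hI (isHilbPoly_iso k e hpK) hpE hpI
  have sF := isHilbPoly_kernel_add k hL hF.1 (cokernel.π f) hQ hpI hpF hpQ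
  have a1 := nn_cr_quot k hL hE q hI hpE hpI
  have a2 := nn_cr_sub k hL hF (Abelian.image.ι f) hI hpI hpF
  have hI' : cr d pE pI = 0 ∧ cr d pI pF = 0 := by
    by_cases hz : IsZero (Abelian.image f)
    · rw [eq_zero_of_isZero k hz hpI]
      simp [cr, StabCat.alpha]
    have hαI := alpha_pos_of_isPure k hL hF.2.2.1 (Abelian.image.ι f) hI hz hpI
    have h := cr_trans_eq d pE pI pF
    rw [h0, smul_zero] at h
    rcases nn_iff.mp a1 with e1 | e1
    · rw [e1, smul_zero, zero_add, eq_comm, smul_eq_zero] at h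
      exact ⟨e1, h.resolve_left hαE.ne'⟩
    · exact absurd (h ▸ (e1.smul hαF).add_nn (a2.smul hαE.le)) not_pp_zero
  refine ⟨or_iff_not_imp_left.mpr fun hz => ?_, or_iff_not_imp_left.mpr fun hz => ?_⟩
  · have hKE : cr d pK pE = 0 := by
      have h := hI'.1
      rw [sE, cr_right_self] at h
      rw [sE, cr_left_self, h]
    refine ⟨⟨hK, hz, isPure_of_mono hE.2.2.1 (kernel.ι f), fun G κ _ hG hG0 hi pG pK' hpG hpK' => ?_⟩,
      fun pK' hpK' => (redEq_iff d).mpr (by rw [isHilbPoly_unique k hpK' hpK]; exact hKE)⟩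
    rw [isHilbPoly_unique k hpK' hpK, redLE_iff]
    have h1 := nn_cr_sub k hL hE (κ ≫ kernel.ι f) hG hpG hpE
    refine nn_cr_trans (alpha_pos_of_isPure k hL hE.2.2.1 (κ ≫ kernel.ι f) hG hG0 hpG).le hαE
      (alpha_pos_of_isPure k hL hE.2.2.1 (kernel.ι f) hK hz hpK).le h1 ?_
    rw [cr_swap, hKE, neg_zero]
    exact nn_zero
  · have hFQ : cr d pF pQ = 0 := by
      have h := hI'.2
      rw [sF, cr_left_self] at h
      rw [sF, cr_right_self, h]
    have hdeg := natDegree_quot_le k hL hF.1 hF.2.2.1 (cokernel.π f) hQ hpQ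
    have hαQ : 0 < StabCat.alpha d pQ := by
      refine alpha_pos_of_natDegree_eq (pp_of_not_isZero k hL hQ hz hpQ)
        (le_antisymm hdeg (not_lt.mp fun hlt => ?_))
      rw [cr_of_alpha_eq_zero (by
        rw [StabCat.alpha, Polynomial.coeff_eq_zero_of_natDegree_lt hlt, mul_zero]),
        smul_eq_zero] at hFQ
      exact pp_ne_zero (pp_of_not_isZero k hL hQ hz hpQ) (hFQ.resolve_left hαF.ne')
    have hdim : topologicalKrullDim (CohB1.support (cokernel f)) = (d : WithBot ℕ∞) := by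
      rw [natDegree_eq_dim k hL hQ hz hpQ]
      refine congrArg (fun n : ℕ => (n : WithBot ℕ∞)) (le_antisymm hdeg (not_lt.mp fun hlt => ?_))
      rw [StabCat.alpha, Polynomial.coeff_eq_zero_of_natDegree_lt hlt, mul_zero] at hαQ
      exact lt_irrefl _ hαQ
    have hss : StabCat.IsSS Coh.IsCoh (ShStab.IsHilbPoly k X L) d (cokernel f) := by
      intro G κ _ hG hG0 _ pG pQ' hpG hpQ'
      rw [isHilbPoly_unique k hpQ' hpQ, redLE_iff]
      haveI := hG.1
      have hC := QCohMod.isCoh_cokernel κ hQ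
      haveI := hC.1
      obtain ⟨pC, hpC⟩ := exists_isHilbPoly k X hL hC
      let g := cokernel.π f ≫ cokernel.π κ
      haveI : Epi g := epi_comp _ _
      have hP := QCohMod.isCoh_kernel g hF.1
      obtain ⟨pP, hpP⟩ := exists_isHilbPoly k X hL hP
      have s1 := isHilbPoly_kernel_add k hL hF.1 g hC hpP hpF hpC
      have s2 := isHilbPoly_cokernel_add k hL hG κ hQ hpG hpQ hpC
      have h1 := nn_cr_sub k hL hF (kernel.ι g) hP hpP hpF
      have e' : pP = pI + pG := by linear_combination sF - s1 + s2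
      rw [e', cr_add_left, hI'.2, zero_add] at h1
      have hαG : 0 ≤ StabCat.alpha d pG := alpha_nonneg_of_natDegree_le (nn_hilbPoly k hL hG hpG)
        (natDegree_le_of_support_subset k hL hdim.le
          (KTheory.Devissage.support_subset_of_mono κ) hG hpG)
      exact nn_cr_trans hαG hαF hαQ.le h1 (hFQ.symm ▸ nn_zero)
    refine ⟨⟨hQ, hz, isPure_of_isSS k hL hQ hz hdim hss, hss⟩, fun pQ' hpQ' => ?_⟩
    rw [isHilbPoly_unique k hpQ' hpQ, redEq_iff]
    have h := cr_trans_eq d pQ pF pE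
    rw [cr_swap d pF pQ, hFQ, cr_swap d pE pF, h0] at h
    simpa [hαF.ne'] using h

end Groth.HilbStab
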