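import Groth.Agent.HilbStab.Cmp
import Mathlib.Order.WellFounded
import Mathlib.Order.RelClasses

/-!
# Harder–Narasimhan and Jordan–Hölder theory in a lattice with Hilbert polynomials
-/

set_option autoImplicit false

open Polynomial

namespace Groth.HilbStab

universe u

/-- A lattice with a modular, strictly monotone, integer valued polynomial function of bounded
degree. -/
structure PolyLattice (α : Type u) [Lattice α] (d : ℕ) where
  P : α → ℚ[X]
  pp_of_lt : ∀ {a b : α}, a < b → PP (P b - P a)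
  natDegree_le : ∀ {a b : α}, a ≤ b → (P b - P a).natDegree ≤ d
  modular : ∀ a b : α, P (a ⊔ b) + P (a ⊓ b) = P a + P b
  integral : ∀ a : α, ∀ m : ℕ, ∃ z : ℤ, (P a).eval (m : ℚ) = z

namespace PolyLattice

variable {α : Type u} [Lattice α] {d : ℕ} (S : PolyLattice α d)

/-- The polynomial of the interval from `a` to `b`. -/
noncomputable def Q (a b : α) : ℚ[X] := S.P b - S.P a

/-- The multiplicity of an interval. -/
noncomputable def μ (a b : α) : ℚ := StabCat.alpha d (S.Q a b)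

theorem Q_add (a b c : α) : S.Q a c = S.Q a b + S.Q b c := by
  simp [Q]

theorem Q_self (a : α) : S.Q a a = 0 := sub_self _

theorem μ_add (a b c : α) : S.μ a c = S.μ a b + S.μ b c := by
  simp only [μ, S.Q_add a b c, alpha_add]

theorem Q_sup (a b c : α) : S.Q a (b ⊔ c) + S.Q a (b ⊓ c) = S.Q a b + S.Q a c := by
  simp only [Q]
  linear_combination S.modular b c

theorem μ_nonneg {a b : α} (h : a ≤ b) : 0 ≤ S.μ a b := by
  refine alpha_nonneg_of_natDegree_le ?_ (S.natDegree_le h)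
  rcases eq_or_lt_of_le h with rfl | h
  · rw [S.Q_self]; exact nn_zero
  · exact (S.pp_of_lt h).nn

theorem eq_of_le_of_Q_eq_zero {a b : α} (h : a ≤ b) (h0 : S.Q a b = 0) : a = b := by
  rcases eq_or_lt_of_le h with e | e
  · exact e
  · exact absurd (h0 ▸ S.pp_of_lt e : PP (0 : ℚ[X])) not_pp_zero

theorem Q_natural {a b : α} (h : a ≤ b) : ∃ n : ℕ, S.μ a b = n := by
  obtain ⟨z, hz⟩ := exists_alpha_eq_int d (S.natDegree_le h) fun m => by
    obtain ⟨x, hx⟩ := S.integral b m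
    obtain ⟨y, hy⟩ := S.integral a m
    exact ⟨x - y, by rw [eval_sub, hx, hy]; push_cast; rfl⟩
  have h0 : (0 : ℚ) ≤ z := (S.μ_nonneg h).trans_eq hz
  obtain ⟨n, rfl⟩ := Int.eq_ofNat_of_zero_le (by exact_mod_cast h0 : (0 : ℤ) ≤ z)
  exact ⟨n, by rw [μ, Q, hz]; rfl⟩

/-- Every nonzero step above `a` inside `b` is `d`-dimensional. -/
def Pure (a b : α) : Prop := ∀ c, a < c → c ≤ b → (S.Q a c).natDegree = d

/-- The interval is semistable. -/
def SS (a b : α) : Prop :=
  a < b ∧ S.Pure a b ∧ ∀ c, a < c → c < b → NN (cr d (S.Q a c) (S.Q a b))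

/-- The interval is stable. -/
def St (a b : α) : Prop :=
  a < b ∧ S.Pure a b ∧ ∀ c, a < c → c < b → PP (cr d (S.Q a c) (S.Q a b))

variable {S}

theorem Pure.mono {a b c : α} (h : S.Pure a b) (hc : c ≤ b) : S.Pure a c :=
  fun x hx hxc => h x hx (hxc.trans hc)

theorem Pure.μ_pos {a b : α} (h : S.Pure a b) {c : α} (hc : a < c) (hcb : c ≤ b) : 0 < S.μ a c :=
  alpha_pos_of_natDegree_eq (S.pp_of_lt hc) (h c hc hcb)

theorem St.ss {a b : α} (h : S.St a b) : S.SS a b := ⟨h.1, h.2.1, fun c h1 h2 => (h.2.2 c h1 h2).nn⟩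

theorem SS.le {a b c : α} (h : S.SS a b) (hc : a < c) (hcb : c ≤ b) :
    NN (cr d (S.Q a c) (S.Q a b)) := by
  rcases eq_or_lt_of_le hcb with rfl | e
  · rw [cr_self]; exact nn_zero
  · exact h.2.2 c hc e

/-- Reduced polynomials as seen through a step of the interval. -/
theorem cr_step (a b c : α) : cr d (S.Q a b) (S.Q a c) = cr d (S.Q a b) (S.Q b c) := by
  rw [S.Q_add a b c, cr_left_self]

theorem cr_step' (a b c : α) : cr d (S.Q a c) (S.Q b c) = cr d (S.Q a b) (S.Q b c) := by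
  rw [S.Q_add a b c, cr_right_self]

theorem pp_of_μ_eq {a b c : α} (hab : 0 < S.μ a b) (hbc : b < c) (h : S.μ b c = 0) :
    PP (cr d (S.Q a b) (S.Q a c)) := by
  rw [cr_step, cr_of_alpha_eq_zero h]
  exact (S.pp_of_lt hbc).smul hab

variable (S)

/-- The maximal destabilising element above `a` in `[a, b]`. -/
def IsMaxD (a b D : α) : Prop :=
  a < D ∧ D ≤ b ∧ ∀ c, a < c → c ≤ b →
    NN (cr d (S.Q a c) (S.Q a D)) ∧ (cr d (S.Q a c) (S.Q a D) = 0 → c ≤ D)

theorem exists_isMaxD [WellFoundedGT α] {a b : α} (hab : a < b) (hp : S.Pure a b) :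
    ∃ D, S.IsMaxD a b D := by
  obtain ⟨n, hn⟩ := S.Q_natural hab.le
  induction n using Nat.strong_induction_on generalizing b with
  | _ n ih =>
  by_cases hs : ∀ c, a < c → c < b → NN (cr d (S.Q a c) (S.Q a b))
  · exact ⟨b, hab, le_rfl, fun c hc hcb => ⟨SS.le ⟨hab, hp, hs⟩ hc hcb, fun _ => hcb⟩⟩
  push Not at hs
  let T : Set α := {c | a < c ∧ c < b ∧ ¬ NN (cr d (S.Q a c) (S.Q a b))}
  obtain ⟨M, ⟨haM, hMb, hM⟩, hmax⟩ := (wellFounded_gt (α := α)).has_min T (by
    obtain ⟨c, h1, h2, h3⟩ := hs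
    exact ⟨c, h1, h2, h3⟩)
  have hμM : 0 < S.μ a M := hp.μ_pos haM hMb.le
  obtain ⟨m, hm⟩ := S.Q_natural haM.le
  have hlt : m < n := by
    by_contra hle
    push Not at hle
    have h0 : S.μ M b = 0 := by
      have h1 := S.μ_add a M b
      have h2 : (n : ℚ) ≤ m := by exact_mod_cast hle
      linarith [S.μ_nonneg hMb.le]
    exact hM (pp_of_μ_eq hμM hMb h0).nn
  obtain ⟨D, haD, hDM, hD⟩ := ih m hlt haM (hp.mono hMb.le) hm
  have hμD : 0 < S.μ a D := hp.μ_pos haD (hDM.trans hMb.le)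
  refine ⟨D, haD, hDM.trans hMb.le, fun c hc hcb => ?_⟩
  by_cases hDc : NN (cr d (S.Q a D) (S.Q a c))
  swap
  · rw [cr_swap d (S.Q a D)]
    have h := pp_neg_iff.mpr hDc
    exact ⟨h.nn, fun e => absurd (e ▸ h) not_pp_zero⟩
  -- `c` is at least as destabilising as `D`, so it lies below `M`
  suffices hcM : c ≤ M from hD c hc hcM
  by_contra hcM
  have hMs : M < c ⊔ M := lt_of_le_of_ne le_sup_right fun e => hcM (le_sup_left.trans e.ge)
  have hsb : c ⊔ M ≤ b := sup_le hcb hMb.le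
  have has : a < c ⊔ M := haM.trans hMs
  have hμc := hp.μ_pos hc hcb
  have hμs := hp.μ_pos has hsb
  have hμb := hp.μ_pos hab le_rfl
  have hsle : NN (cr d (S.Q a (c ⊔ M)) (S.Q a b)) := by
    by_contra h
    refine hmax _ ⟨has, lt_of_le_of_ne hsb fun e => h ?_, h⟩ hMs
    rw [e, cr_self]
    exact nn_zero
  have hbM : PP (cr d (S.Q a b) (S.Q a M)) := by
    rw [cr_swap]
    exact pp_neg_iff.mpr hM
  have hsM : PP (cr d (S.Q a (c ⊔ M)) (S.Q a M)) :=
    pp_cr_trans_right hμs hμb hμM.le hsle hbM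
  have hMc : NN (cr d (S.Q a M) (S.Q a c)) :=
    nn_cr_trans hμM.le hμD hμc.le (hD M haM le_rfl).1 hDc
  have hsc : PP (cr d (S.Q a (c ⊔ M)) (S.Q a c)) :=
    pp_cr_trans_left hμs.le hμM hμc hsM hMc
  set K := c ⊓ M
  have haK : a ≤ K := le_inf hc.le haM.le
  have hsK : cr d (S.Q a (c ⊔ M)) (S.Q a K) =
      cr d (S.Q a (c ⊔ M)) (S.Q a c) + cr d (S.Q a (c ⊔ M)) (S.Q a M) := by
    rw [← cr_add_right, ← S.Q_sup a c M, cr_add_right, cr_self, zero_add]
  have hsKpos : PP (cr d (S.Q a (c ⊔ M)) (S.Q a K)) := hsK ▸ hsc.add_nn hsM.nn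
  rcases eq_or_lt_of_le haK with e | hK
  · rw [← e, S.Q_self] at hsKpos
    simp [cr, StabCat.alpha, not_pp_zero] at hsKpos
  have hKc : S.μ a K ≤ S.μ a c := by
    have h1 := S.μ_add a K c
    linarith [S.μ_nonneg (inf_le_left : K ≤ c)]
  have key : PP (cr d (S.Q a c) (S.Q a K)) := by
    rw [← pp_smul_iff hμs]
    have e : StabCat.alpha d (S.Q a (c ⊔ M)) • cr d (S.Q a c) (S.Q a K) =
        (S.μ a c - S.μ a K) • cr d (S.Q a (c ⊔ M)) (S.Q a c) +
          S.μ a c • cr d (S.Q a (c ⊔ M)) (S.Q a M) := by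
      rw [cr_trans_eq, hsK, cr_swap d (S.Q a (c ⊔ M)) (S.Q a c)]
      unfold μ
      module
    exact e ▸ (hsc.nn.smul (sub_nonneg.mpr hKc)).add_pp (hsM.smul hμc)
  have hμK := hp.μ_pos hK (inf_le_left.trans hcb)
  have h2 : NN (cr d (S.Q a K) (S.Q a c)) :=
    nn_cr_trans hμK.le hμD hμc.le (hD K hK inf_le_right).1 hDc
  rw [cr_swap, nn_neg_iff] at h2
  exact h2 key

variable {S}

theorem IsMaxD.ss {a b D : α} (h : S.IsMaxD a b D) (hp : S.Pure a b) : S.SS a D :=
  ⟨h.1, hp.mono h.2.1, fun c h1 h2 => (h.2.2 c h1 (h2.le.trans h.2.1)).1⟩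

theorem IsMaxD.pp_step {a b D : α} (h : S.IsMaxD a b D) {c : α} (hc : D < c) (hcb : c ≤ b) :
    PP (cr d (S.Q D c) (S.Q a D)) := by
  obtain ⟨h1, h2⟩ := h.2.2 c (h.1.trans hc) hcb
  have h3 : PP (cr d (S.Q a c) (S.Q a D)) := by
    rcases nn_iff.mp h1 with e | e
    · exact absurd (h2 e) hc.not_ge
    · exact e
  rwa [cr_swap, cr_step, ← cr_swap] at h3

theorem IsMaxD.pure {a b D : α} (h : S.IsMaxD a b D) (hp : S.Pure a b) : S.Pure D b := by
  intro c hc hcb
  refine le_antisymm (S.natDegree_le hc.le) (not_lt.mp fun hlt => ?_)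
  have h0 : StabCat.alpha d (S.Q D c) = 0 := by
    rw [StabCat.alpha, coeff_eq_zero_of_natDegree_lt hlt, mul_zero]
  have h1 := h.pp_step hc hcb
  rw [cr_swap, cr_of_alpha_eq_zero h0, pp_neg_iff] at h1
  exact h1 ((S.pp_of_lt hc).smul (hp.μ_pos h.1 h.2.1)).nn

theorem IsMaxD.unique {a b D D' : α} (h : S.IsMaxD a b D) (h' : S.IsMaxD a b D') : D = D' := by
  have h1 := h.2.2 D' h'.1 h'.2.1
  have h2 := h'.2.2 D h.1 h.2.1
  have h0 : cr d (S.Q a D) (S.Q a D') = 0 := by
    rcases nn_iff.mp h2.1 with e | e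
    · exact e
    · have h3 := h1.1
      rw [cr_swap, nn_neg_iff] at h3
      exact absurd e h3
  exact le_antisymm (h2.2 h0) (h1.2 (by rw [cr_swap, h0, neg_zero]))

variable (S)

/-- Harder–Narasimhan chains from `a` up to `b`. -/
def IsHN : α → α → List α → Prop
  | a, b, [] => a = b
  | a, b, c :: l => S.SS a c ∧ (∀ c' ∈ l.head?, PP (cr d (S.Q c c') (S.Q a c))) ∧ IsHN c b l

variable {S}

theorem IsHN.le {b : α} : ∀ {l : List α} {a : α}, S.IsHN a b l → a ≤ b
  | [], _, h => le_of_eq h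
  | _ :: _, _, h => h.1.1.le.trans (IsHN.le h.2.2)

/-- The first step of a Harder–Narasimhan chain is maximally destabilising. -/
theorem IsHN.isMaxD {b : α} : ∀ {l : List α} {a c : α}, S.IsHN a b (c :: l) → S.IsMaxD a b c
  | [], a, c, h => by
    obtain ⟨hss, -, e⟩ := h
    change c = b at e
    subst e
    exact ⟨hss.1, le_rfl, fun x hx hxb => ⟨hss.le hx hxb, fun _ => hxb⟩⟩
  | c₂ :: l, a, c, h => by
    obtain ⟨hss, hdec, htl⟩ := h
    refine ⟨hss.1, htl.le, fun x hx hxb => ?_⟩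
    by_cases hxc : x ≤ c
    · exact ⟨hss.le hx hxc, fun _ => hxc⟩
    obtain ⟨hc₂, -, hmax⟩ := IsHN.isMaxD htl
    have hs : c < x ⊔ c := lt_of_le_of_ne le_sup_right fun e => hxc (le_sup_left.trans e.ge)
    have h₁ := hdec c₂ rfl
    have hμc : 0 < S.μ a c := hss.2.1.μ_pos hss.1 le_rfl
    have hμ₂ : 0 < S.μ c c₂ := htl.1.2.1.μ_pos hc₂ le_rfl
    have hμs : 0 ≤ S.μ c (x ⊔ c) := S.μ_nonneg hs.le
    have hstep : PP (cr d (S.Q c (x ⊔ c)) (S.Q a c)) :=
      pp_cr_trans_right (lt_of_le_of_ne hμs fun e => ?_) hμ₂ hμc.le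
        (hmax _ hs (sup_le hxb htl.le)).1 h₁
    swap
    · have h2 := (hmax _ hs (sup_le hxb htl.le)).1
      rw [cr_swap, cr_of_alpha_eq_zero e.symm, nn_neg_iff] at h2
      exact h2 ((S.pp_of_lt hs).smul hμ₂)
    have e : S.Q a x = S.Q a (x ⊓ c) + S.Q c (x ⊔ c) := by
      have := S.Q_sup a x c
      rw [S.Q_add a c (x ⊔ c)] at this
      linear_combination -this
    have hK : NN (cr d (S.Q a (x ⊓ c)) (S.Q a c)) := by
      rcases eq_or_lt_of_le (le_inf hx.le hss.1.le : a ≤ x ⊓ c) with e' | e'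
      · rw [← e', S.Q_self]
        simp [cr, StabCat.alpha, nn_zero]
      · exact hss.le e' inf_le_right
    have hx' : PP (cr d (S.Q a x) (S.Q a c)) := by
      rw [e, cr_add_left]
      exact hK.add_pp hstep
    exact ⟨hx'.nn, fun e0 => absurd (e0 ▸ hx') not_pp_zero⟩

theorem IsHN.lt_of_cons {b a c : α} {l : List α} (h : S.IsHN a b (c :: l)) : a < b :=
  h.1.1.trans_le h.2.2.le

/-- Harder–Narasimhan chains are unique. -/
theorem IsHN.unique {b : α} : ∀ {l l' : List α} {a : α},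
    S.IsHN a b l → S.IsHN a b l' → l = l'
  | [], [], _, _, _ => rfl
  | [], _ :: _, _, h, h' => absurd h h'.lt_of_cons.ne
  | _ :: _, [], _, h, h' => absurd h' h.lt_of_cons.ne
  | c :: l, c' :: l', a, h, h' => by
    obtain rfl := h.isMaxD.unique h'.isMaxD
    exact congrArg (c :: ·) (IsHN.unique h.2.2 h'.2.2)

theorem exists_isHN [WellFoundedGT α] (b : α) : ∀ a, a ≤ b → S.Pure a b → ∃ l, S.IsHN a b l := by
  intro a
  induction a using WellFoundedGT.induction with
  | ind a ih =>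
    intro hab hp
    rcases eq_or_lt_of_le hab with e | hlt
    · exact ⟨[], e⟩
    obtain ⟨D, hD⟩ := S.exists_isMaxD hlt hp
    obtain ⟨l, hl⟩ := ih D hD.1 hD.2.1 (hD.pure hp)
    refine ⟨D :: l, hD.ss hp, ?_, hl⟩
    intro c hc
    cases l with
    | nil => simp at hc
    | cons c₂ l =>
      obtain rfl : c₂ = c := by simpa using hc
      exact hD.pp_step hl.1.1 hl.2.2.le

variable (S)

/-- Jordan–Hölder chains from `a` up to `b`. -/
def IsJH (p : ℚ[X]) : α → α → List α → Prop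
  | a, b, [] => a = b
  | a, b, c :: l => S.St a c ∧ cr d (S.Q a c) p = 0 ∧ IsJH p c b l

variable {S}

/-- A semistable interval has a Jordan–Hölder chain. -/
theorem exists_isJH [WellFoundedGT α] {p : ℚ[X]} (hp : 0 < StabCat.alpha d p) (b : α) :
    ∀ a, S.SS a b → cr d (S.Q a b) p = 0 → ∃ l, S.IsJH p a b l := by
  intro a
  induction a using WellFoundedGT.induction with
  | ind a ih =>
    intro hss hab
    obtain ⟨hlt, hpure, hs⟩ := hss
    have hμb := hpure.μ_pos hlt le_rfl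
    let T : Set α := {c | a < c ∧ c ≤ b ∧ cr d (S.Q a c) (S.Q a b) = 0}
    let N : Set ℕ := {n | ∃ c ∈ T, S.μ a c = n}
    obtain ⟨nb, hnb⟩ := S.Q_natural hlt.le
    have hN : N.Nonempty := ⟨nb, b, ⟨hlt, le_rfl, cr_self d _⟩, hnb⟩
    obtain ⟨c, ⟨hac, hcb, hc0⟩, hcn⟩ := Nat.sInf_mem hN
    have hμc := hpure.μ_pos hac hcb
    have hst : S.St a c := by
      refine ⟨hac, hpure.mono hcb, fun x hx hxc => ?_⟩
      have hμx := hpure.μ_pos hx (hxc.le.trans hcb)
      have h1 : NN (cr d (S.Q a x) (S.Q a c)) := by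
        refine nn_cr_trans hμx.le hμb hμc.le (SS.le ⟨hlt, hpure, hs⟩ hx (hxc.le.trans hcb)) ?_
        rw [cr_swap, hc0, neg_zero]
        exact nn_zero
      rcases nn_iff.mp h1 with e | e
      · exfalso
        rcases eq_or_lt_of_le (S.μ_nonneg hxc.le) with e0 | e0
        · exact not_pp_zero (e ▸ pp_of_μ_eq hμx hxc e0.symm)
        · have hxT : x ∈ T := by
            refine ⟨hx, hxc.le.trans hcb, ?_⟩
            have h2 := cr_trans_eq d (S.Q a x) (S.Q a c) (S.Q a b)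
            rw [e, hc0, smul_zero, smul_zero, add_zero, smul_eq_zero] at h2
            exact h2.resolve_left hμc.ne'
          obtain ⟨m, hm⟩ := S.Q_natural hx.le
          have h3 : ((sInf N : ℕ) : ℚ) ≤ m := by exact_mod_cast Nat.sInf_le (s := N) ⟨x, hxT, hm⟩
          have h4 := S.μ_add a x c
          rw [hcn, hm] at h4
          linarith
      · exact e
    have hcp : cr d (S.Q a c) p = 0 := by
      have h2 := cr_trans_eq d (S.Q a c) (S.Q a b) p
      rw [hc0, hab, smul_zero, smul_zero, add_zero, smul_eq_zero] at h2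
      exact h2.resolve_left hμb.ne'
    rcases eq_or_lt_of_le hcb with rfl | hcb'
    · exact ⟨[c], hst, hcp, rfl⟩
    have hcbp : cr d (S.Q c b) p = 0 := by
      have := hab
      rw [S.Q_add a c b, cr_add_left, hcp, zero_add] at this
      exact this
    have hshift : ∀ x, c < x → x ≤ b → NN (cr d (S.Q c x) p) := fun x hx hxb => by
      have h1 := SS.le ⟨hlt, hpure, hs⟩ (hac.trans hx) hxb
      have h2 : NN (cr d (S.Q a x) p) :=
        nn_cr_trans (S.μ_nonneg (hac.trans hx).le) hμb hp.le h1 (hab.symm ▸ nn_zero)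
      rwa [S.Q_add a c x, cr_add_left, hcp, zero_add] at h2
    have hpure' : S.Pure c b := fun x hx hxb => by
      refine le_antisymm (S.natDegree_le hx.le) (not_lt.mp fun hlt' => ?_)
      have h0 : StabCat.alpha d (S.Q c x) = 0 := by
        rw [StabCat.alpha, coeff_eq_zero_of_natDegree_lt hlt', mul_zero]
      have h1 := hshift x hx hxb
      rw [cr_swap, cr_of_alpha_eq_zero h0, nn_neg_iff] at h1
      exact h1 ((S.pp_of_lt hx).smul hp)
    have hss' : S.SS c b := by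
      refine ⟨hcb', hpure', fun x hx hxb => ?_⟩
      refine nn_cr_trans (S.μ_nonneg hx.le) hp (S.μ_nonneg hcb'.le) (hshift x hx hxb.le) ?_
      rw [cr_swap, hcbp, neg_zero]
      exact nn_zero
    obtain ⟨l, hl⟩ := ih c hac hss' hcbp
    exact ⟨c :: l, hst, hcp, hl⟩

end PolyLattice

end Groth.HilbStab
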