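import Groth.Agent.HilbStab.ExtBound
import Groth.Agent.Variety2.DimScheme
import Groth.Agent.Misc13.HodgeDim
import Groth.Agent.Chow.QcohExtend
import Groth.Agent.VarietyBC.GGen
import Groth.Agent.Inter.Surface
import Groth.Agent.TFOne.Generic

/-!
# Rank two sheaves on a surface as extensions
-/

set_option autoImplicit false
set_option linter.style.haveILetI false

universe u

open CategoryTheory CategoryTheory.Limits AlgebraicGeometry Polynomial
open Groth.RefRank Groth.PicAux

namespace Groth.HilbStab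

/-- A closed set of closed points has dimension at most zero. -/
theorem dim_le_zero_of_closed_points {X : Scheme.{u}} {Z : Set X} (hZ : IsClosed Z)
    (h : ∀ x ∈ Z, IsClosed ({x} : Set X)) : topologicalKrullDim Z ≤ 0 := by
  refine Order.krullDim_nonpos_iff_forall_isMax.mpr fun A B hAB => ?_
  obtain ⟨η, hη⟩ : ∃ η, IsGenericPoint η (Subtype.val '' (B : Set Z) : Set X) :=
    QuasiSober.sober (B.isIrreducible'.image _ continuous_subtype_val.continuousOn)
      (hZ.isClosedEmbedding_subtypeVal.isClosedMap _ B.isClosed')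
  intro b hb
  obtain ⟨a, ha⟩ := A.isIrreducible'.nonempty
  have hηZ : η ∈ Z := by
    obtain ⟨z, -, hz⟩ := hη.mem
    exact hz ▸ z.2
  have e : (Subtype.val '' (B : Set Z) : Set X) = {η} := by
    rw [← hη.def, (h η hηZ).closure_eq]
  have h1 : (a : X) = η := Set.mem_singleton_iff.mp (e ▸ ⟨a, hAB ha, rfl⟩)
  have h2 : (b : X) = η := Set.mem_singleton_iff.mp (e ▸ ⟨b, hb, rfl⟩)
  rwa [Subtype.ext (h2.trans h1.symm)]

section Surface

variable (k : Type u) [Field k] {X : Scheme.{u}} [X.Over (Spec (CommRingCat.of k))] [IsIntegral X]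
  [IsProper (X ↘ Spec (CommRingCat.of k))] [Smooth (X ↘ Spec (CommRingCat.of k))]
  (hX : topologicalKrullDim X = ((2 : ℕ) : WithBot ℕ∞))

include k hX

/-- The reflexive hull changes a coherent module on a smooth surface at finitely many points only. -/
theorem dim_support_cokernel_bidual_le {F : X.Modules} (hF : Coh.IsCoh F) :
    topologicalKrullDim (CohB1.support (cokernel (RefHull.bidualMap F))) ≤ 0 := by
  haveI := isLocallyNoetherian k (X := X)
  haveI := hF.1
  have hreg : ∀ x : X, IsRegularLocalRing (X.presheaf.stalk x) := fun x =>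
    Groth.NeronArea.Weil.isRegularLocalRing_of_smooth_dedekind (R := k)
      (X ↘ Spec (CommRingCat.of k)) x
  have hnorm : Pi1.IsNormalScheme X := isNormalScheme_of_regular hreg
  refine dim_le_zero_of_closed_points
    (CohTwo.isClosed_support _ (QCohMod.isCoh_cokernel _ (isCoh_ddual hF))) fun x hx => ?_
  by_contra hcl
  have hsurj : ¬ Function.Surjective (RefHull.stalkMapₗ (RefHull.bidualMap F) x) := fun h =>
    KTheory.Devissage.subsingleton_cokernel_stalk (RefHull.bidualMap F) x h hx
  refine hsurj ?_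
  by_cases hg : x = genericPoint X
  · subst hg; exact (bidual_gen_bijective hF).2
  have hle := Groth.Misc13.HodgeDim.dim_lt_of_ne (d := 1) (by rw [hX]) hg
  rw [Groth.Variety2.Dim.dim_closure_singleton] at hle
  have hle' : Order.height x ≤ ((1 : ℕ) : ℕ∞) := WithBot.coe_le_coe.mp hle
  obtain ⟨a, ha⟩ := Groth.Variety2.Dim.exists_height_eq (X ↘ Spec (CommRingCat.of k)) x
  rw [ha] at hle'
  have ha' : a ≤ 1 := by exact_mod_cast hle'
  have ha1 : a = 1 := by
    by_contra h
    refine hcl ((Groth.Variety2.Dim.height_eq_zero_iff x).1 ?_)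
    rw [ha, show a = 0 by omega, Nat.cast_zero]
  have h3 := Groth.Variety2.Dim.ringKrullDim_stalk_add_height (X ↘ Spec (CommRingCat.of k)) x
  rw [ha, ha1, hX] at h3
  have hd : ringKrullDim (X.presheaf.stalk x) = 1 := by
    cases hs : ringKrullDim (X.presheaf.stalk x) using WithBot.recBotCoe with
    | bot => rw [hs, WithBot.bot_add] at h3; exact absurd h3 WithBot.bot_ne_coe
    | coe b =>
      rw [hs] at h3
      cases b using ENat.recTopCoe with
      | top =>
        rw [← WithBot.coe_add, top_add] at h3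
        exact absurd (WithBot.coe_inj.mp h3) (ENat.top_ne_natCast 2)
      | coe b =>
        have key : ∀ m n : ℕ, ((b : ℕ∞) : WithBot ℕ∞) + ((m : ℕ∞) : WithBot ℕ∞) = (n : WithBot ℕ∞) →
            b + m = n := fun m n h => by exact_mod_cast h
        have h4 : b + 1 = 2 := key 1 2 h3
        have h5 : b = 1 := by omega
        subst h5
        rfl
  haveI := isDiscreteValuationRing_stalk hnorm hd
  exact bidual_surjective_of_pid hF x

variable {L : X.Modules} (hL : CohB1.IsAmple L)

include hL

omit [Smooth (X ↘ Spec (CommRingCat.of k))] in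
/-- A morphism bijective at the generic point keeps the leading coefficient. -/
theorem coeff_two_eq_of_generic {A B : X.Modules} (hA : Coh.IsCoh A) (hB : Coh.IsCoh B) (f : A ⟶ B)
    (hf : Function.Bijective (RefHull.stalkMapₗ f (genericPoint ↥X))) {pA pB : ℚ[X]}
    (hpA : ShStab.IsHilbPoly k X L A pA) (hpB : ShStab.IsHilbPoly k X L B pB) :
    pA.coeff 2 = pB.coeff 2 := by
  haveI := isLocallyNoetherian k (X := X)
  haveI := hA.1
  haveI := hB.1
  have small : ∀ (C : X.Modules), Coh.IsCoh C →
      Subsingleton (C.presheaf.stalk (genericPoint ↥X)) → ∀ p : ℚ[X],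
      ShStab.IsHilbPoly k X L C p → p.coeff 2 = 0 := fun C hC hs p hp => by
    have hd := natDegree_le_of_support_subset k hL
      (Variety2.Growth.topologicalKrullDim_le_of_lt
        (Variety2.Growth.dim_lt_of_notMem hX (CohTwo.isClosed_support _ hC) fun hx => hx hs))
      subset_rfl hC hp
    exact coeff_eq_zero_of_natDegree_lt (by omega)
  let q := Abelian.factorThruImage f
  have hI : Coh.IsCoh (Abelian.image f) := QCohMod.isCoh_kernel (cokernel.π f) hB
  haveI := hI.1
  have hK : Coh.IsCoh (kernel q) := QCohMod.isCoh_kernel q hA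
  have hC := QCohMod.isCoh_cokernel f hB
  obtain ⟨pI, hpI⟩ := exists_isHilbPoly k X hL hI
  obtain ⟨pK, hpK⟩ := exists_isHilbPoly k X hL hK
  obtain ⟨pC, hpC⟩ := exists_isHilbPoly k X hL hC
  have e1 := isHilbPoly_kernel_add k hL hA q hI hpK hpA hpI
  have e2 : pB = pI + pC := isHilbPoly_kernel_add k hL hB (cokernel.π f) hC hpI hpB hpC
  have hqi : Function.Injective (RefHull.stalkMapₗ q (genericPoint ↥X)) := by
    intro u v huv
    refine hf.1 ?_
    have e : ∀ w, RefHull.stalkMapₗ f (genericPoint ↥X) w =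
        RefHull.stalkMapₗ (Abelian.image.ι f) _ (RefHull.stalkMapₗ q _ w) := fun w => by
      rw [← Groth.RefRank.stalkMapₗ_comp, Abelian.image.fac]
    rw [e, e, huv]
  rw [e1, e2, coeff_add, coeff_add, small _ hK (Groth.TFOneAux.subsingleton_stalk_kernel q _ hqi) pK hpK,
    small _ hC (not_not.mp (KTheory.Devissage.subsingleton_cokernel_stalk f _ hf.2)) pC hpC]
  ring

omit [Smooth (X ↘ Spec (CommRingCat.of k))] in
/-- A coherent module with the leading coefficient of `O` has rank one. -/
theorem isRankOne_of_coeff {Q : X.Modules} (hQ : Coh.IsCoh Q) {pQ pO : ℚ[X]}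
    (hpQ : ShStab.IsHilbPoly k X L Q pQ)
    (hpO : ShStab.IsHilbPoly k X L (Coh.structureModule X) pO) (he : pQ.coeff 2 = pO.coeff 2) :
    IsRankOne Q := by
  haveI := isLocallyNoetherian k (X := X)
  haveI := hQ.1
  have hOi := PicLoc.isInvertible_structureModule X
  have hOc : Coh.IsCoh (Coh.structureModule X) := QCohMod.isCoh_unit
  haveI := hOc.1
  have hOtf := isTorsionFree_of_isInvertible hOi
  have hO1 := isRankOne_of_isInvertible hOi
  have hO2 : 0 < pO.coeff 2 :=
    coeff_two_pos k hL hX hOtf (𝟙 _) hOc (not_isZero_of_isRankOne hO1) hpO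
  obtain ⟨p, hp⟩ := Chow.exists_isGloballyGenerated_twist hL Q hQ.2
  have hp := hp p le_rfl
  let P := CohB1.tensorPow L p
  let M := CohB1.tensorMod Q P
  have hPi : PicF.IsInvertible P := Groth.Abvar.PicCalc.isInvertible_tensorPow hL.1 p
  have hPc := EulerDeg.isCoh_of_isInvertible hPi
  have hM : Coh.IsCoh M := RefRank.isCoh_tensorMod hQ hPc
  haveI := hM.1
  have hpM := isHilbPoly_shift k hL hpQ p
  have hM2 : (taylor (p : ℚ) pQ).coeff 2 = pO.coeff 2 :=
    (taylor_top (natDegree_le_two k hL hX hQ hpQ) _).1.trans he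
  have small : ∀ (C : X.Modules), Coh.IsCoh C → ∀ q : ℚ[X], ShStab.IsHilbPoly k X L C q →
      q.coeff 2 = 0 → genericPoint ↥X ∉ CohB1.support C := fun C hC q hq hq2 hx => by
    have hz : ¬ IsZero C := fun h => by
      rw [(QCohMod.isZero_iff_support_eq_empty C).mp h] at hx; exact hx
    have h1 := natDegree_eq_dim k hL hC hz hq
    have hu : CohB1.support C = Set.univ := Set.eq_univ_of_forall fun x =>
      (CohTwo.isClosed_support C hC).closure_subset_iff.mpr (Set.singleton_subset_iff.mpr hx)
        ((genericPoint_spec X).def ▸ Set.mem_univ x)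
    rw [hu, Groth.Misc13.HodgeProper.dim_univ, hX] at h1
    have h2 : q.natDegree = 2 := by exact_mod_cast h1.symm
    have hne : q ≠ 0 := fun h => by simp [h] at h2
    have h3 := leadingCoeff_ne_zero.mpr hne
    rw [leadingCoeff, h2] at h3
    exact h3 hq2
  have hsup : genericPoint ↥X ∈ CohB1.support M := by
    by_contra hns
    have hd := natDegree_le_of_support_subset k hL
      (Variety2.Growth.topologicalKrullDim_le_of_lt
        (Variety2.Growth.dim_lt_of_notMem hX (CohTwo.isClosed_support _ hM) hns)) subset_rfl hM hpM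
    rw [coeff_eq_zero_of_natDegree_lt (show (taylor (p : ℚ) pQ).natDegree < 2 by omega)] at hM2
    linarith
  obtain ⟨t, ht⟩ : ∃ t : Γ(M, (⊤ : X.Opens)),
      Groth.QCohMod.germ M (genericPoint ↥X) (Set.mem_univ _ : genericPoint ↥X ∈ (⊤ : X.Opens)) t ≠ 0 := by
    by_contra h
    push Not at h
    refine hsup ⟨fun a b => ?_⟩
    have htop := VarietyBC.GGen.spansStalks hp (genericPoint ↥X)
    rw [show (Set.range fun t : Γ(M, (⊤ : X.Opens)) =>
        Groth.QCohMod.germ M (genericPoint ↥X) (Set.mem_univ _ : genericPoint ↥X ∈ (⊤ : X.Opens)) t) = {0}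
      from Set.eq_singleton_iff_unique_mem.mpr ⟨⟨0, map_zero _⟩, by rintro _ ⟨t, rfl⟩; exact h t⟩,
      Submodule.span_zero_singleton] at htop
    have hz : ∀ v : M.presheaf.stalk (genericPoint ↥X), v = 0 := fun v =>
      (Submodule.mem_bot (X.presheaf.stalk (genericPoint ↥X))).mp (htop ▸ Submodule.mem_top)
    rw [hz a, hz b]
  let σ : Coh.structureModule X ⟶ M := homOfSection t
  have hσt : RefHull.stalkMapₗ σ (genericPoint ↥X)
      (Groth.QCohMod.germ _ (genericPoint ↥X) (Set.mem_univ _ : genericPoint ↥X ∈ (⊤ : X.Opens))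
        (oneSec X ⊤)) =
      Groth.QCohMod.germ M (genericPoint ↥X) (Set.mem_univ _ : genericPoint ↥X ∈ (⊤ : X.Opens)) t := by
    refine (RefHull.stalkMapₗ_germ σ _ _ _).trans ?_
    exact congrArg _ (homOfSection_one t)
  haveI : Mono σ := mono_of_generic hOtf σ <| by
    refine (injective_iff_map_eq_zero _).mpr fun v hv => by_contra fun hv0 => ht ?_
    obtain ⟨c, hc⟩ := (hO1.isStalkBasis hv0).2
      (Groth.QCohMod.germ _ (genericPoint ↥X) (Set.mem_univ _ : genericPoint ↥X ∈ (⊤ : X.Opens))
        (oneSec X ⊤))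
    dsimp only at hc
    rw [← hσt, ← hc, map_smul, hv, smul_zero]
  have hC := QCohMod.isCoh_cokernel σ hM
  obtain ⟨pC, hpC⟩ := exists_isHilbPoly k X hL hC
  have hC2 : pC.coeff 2 = 0 := by
    have h := isHilbPoly_cokernel_add k hL hOc σ hM hpO hpM hpC
    have h' := congrArg (fun q => q.coeff 2) h
    simp only [coeff_add] at h'
    linarith
  obtain ⟨w, hw⟩ := hO1
  have hbij : Function.Bijective (RefHull.stalkMapₗ σ (genericPoint ↥X)) := by
    refine ⟨stalkMapₗ_injective_of_mono σ _, fun v => ?_⟩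
    obtain ⟨-, hex, -⟩ := Groth.KTheory.LocFree.stalk_exact
      ({ exact := ShortComplex.exact_of_g_is_cokernel _ (cokernelIsCokernel σ) } :
        (ShortComplex.mk σ (cokernel.π σ) (cokernel.condition σ)).ShortExact) (genericPoint ↥X)
    haveI := not_not.mp (small _ hC pC hpC hC2)
    exact (hex v).mp (Subsingleton.elim _ _)
  have hM1 : IsRankOne M := by
    refine ⟨RefHull.stalkMapₗ σ _ w, ?_⟩
    have e : (fun c : X.presheaf.stalk (genericPoint ↥X) => c • RefHull.stalkMapₗ σ _ w) =
        RefHull.stalkMapₗ σ _ ∘ fun c => c • w := funext fun c => (map_smul _ c w).symm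
    rw [IsStalkBasis, e]
    exact hbij.comp hw
  obtain ⟨P', hP'i, hPP⟩ := Groth.PicAux.exists_isInverseOf hPi
  obtain ⟨as, -⟩ := Groth.PicAux.exists_associator Q P P'
  let r := (Groth.Inter.tensor_comm Q (Coh.structureModule X)).some ≪≫ (Groth.Inter.tensor_one Q).some
  obtain ⟨v, hv⟩ := isRankOne_tensor hM1 (isRankOne_of_isInvertible hP'i)
  haveI : (CohB1.tensorMod M P').IsQuasicoherent :=
    (RefRank.isCoh_tensorMod hM (EulerDeg.isCoh_of_isInvertible hP'i)).1
  exact ⟨_, isStalkBasis_map (as ≪≫ PicGrp.tensorModIso (Iso.refl Q) hPP.some ≪≫ r) hv⟩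

omit [Smooth (X ↘ Spec (CommRingCat.of k))] in
/-- No nonzero morphism from a semistable sheaf of positive slope to an invertible one of degree `≤ 0`. -/
theorem eq_zero_of_isMuSS {V M : X.Modules} (hV : Coh.IsCoh V)
    (hss : StabCat.IsMuSS Coh.IsCoh (ShStab.IsHilbPoly k X L) 2 V) (hM : PicF.IsInvertible M)
    {pV pM pO : ℚ[X]} (hpV : ShStab.IsHilbPoly k X L V pV) (hpM : ShStab.IsHilbPoly k X L M pM)
    (hM2 : pM.coeff 2 = pO.coeff 2)
    (hV2 : pV.coeff 2 = 2 * pO.coeff 2) (hlt : 2 * pM.coeff 1 < pV.coeff 1)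
    (φ : V ⟶ M) : φ = 0 := by
  haveI := isLocallyNoetherian k (X := X)
  by_contra hφ
  haveI := hV.1
  have hMc := EulerDeg.isCoh_of_isInvertible hM
  haveI := hMc.1
  let q := Abelian.factorThruImage φ
  have hI : Coh.IsCoh (Abelian.image φ) := QCohMod.isCoh_kernel (cokernel.π φ) hMc
  haveI := hI.1
  have hI0 : ¬ IsZero (Abelian.image φ) := fun h => hφ (by
    rw [← Abelian.image.fac φ, h.eq_of_src (Abelian.image.ι φ) 0, Limits.comp_zero])
  obtain ⟨pI, hpI⟩ := exists_isHilbPoly k X hL hI
  have e2 := coeff_two_eq_of_mono k hL hX (isTorsionFree_of_isInvertible hM) (isRankOne_of_isInvertible hM)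
    hMc (Abelian.image.ι φ) hI hI0 hpI hpM
  have hM0 : 0 < pM.coeff 2 := coeff_two_pos k hL hX (isTorsionFree_of_isInvertible hM) (𝟙 _) hMc
    (not_isZero_of_isRankOne (isRankOne_of_isInvertible hM)) hpM
  have h1 := hatSlope_le_of_mono k hL hX hMc (Abelian.image.ι φ) hI hpI hpM e2 hM0
  rw [hatSlope_two, hatSlope_two, e2, div_le_div_iff_of_pos_right (by positivity)] at h1
  have hK := QCohMod.isCoh_kernel q hV
  obtain ⟨pK, hpK⟩ := exists_isHilbPoly k X hL hK
  have hsum := isHilbPoly_kernel_add k hL hV q hI hpK hpV hpI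
  rw [hsum, coeff_add] at hV2 hlt
  have hK2 : pK.coeff 2 = pO.coeff 2 := by linarith
  have h := hss (kernel q) (kernel.ι q) inferInstance hK pK pV hpK hpV
    (by rw [alpha_two]; linarith) (by rw [alpha_two, alpha_two, hsum, coeff_add]; linarith)
  rw [hatSlope_two, hatSlope_two, hsum, coeff_add, coeff_add, hK2, e2, hM2,
    div_le_div_iff₀ (by linarith) (by linarith)] at h
  nlinarith

omit hL in
/-- A torsion-free module with a submodule of complementary rank one is an extension of a cofinite
submodule of an invertible module by a rank one module with invertible hull. -/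
theorem exists_rankTwo_extension {V M₀ : X.Modules} (hV : Coh.IsCoh V)
    (hVtf : _root_.TorSh.IsTorsionFree V) (hM₀ : PicF.IsInvertible M₀) (σ : M₀ ⟶ V) [Mono σ]
    (hQ : IsRankOne (cokernel σ)) :
    ∃ (F N : X.Modules) (j : F ⟶ V) (b : V ⟶ N) (w : j ≫ b = 0) (D E : X.Modules)
      (_ : PicF.IsInvertible D) (_ : PicF.IsInvertible E) (δ : F ⟶ D) (ι : N ⟶ E) (τ : M₀ ⟶ F),
      (ShortComplex.mk j b w).ShortExact ∧ Coh.IsCoh F ∧ Coh.IsCoh N ∧ Mono τ ∧ τ ≫ j = σ ∧
        Mono δ ∧ topologicalKrullDim (CohB1.support (cokernel δ)) ≤ 0 ∧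
        Mono ι ∧ topologicalKrullDim (CohB1.support (cokernel ι)) ≤ 0 ∧
        (RefHull.IsReflexive V → IsIso δ) := by
  haveI := isLocallyNoetherian k (X := X)
  haveI := hV.1
  have hMc := EulerDeg.isCoh_of_isInvertible hM₀
  haveI := hMc.1
  have hreg : ∀ x : X, IsRegularLocalRing (X.presheaf.stalk x) := fun x =>
    Groth.NeronArea.Weil.isRegularLocalRing_of_smooth_dedekind (R := k)
      (X ↘ Spec (CommRingCat.of k)) x
  have hnorm : Pi1.IsNormalScheme X := isNormalScheme_of_regular hreg
  let Q := cokernel σ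
  have hQc : Coh.IsCoh Q := QCohMod.isCoh_cokernel σ hV
  haveI := hQc.1
  have hEc : Coh.IsCoh (RefHull.ddual Q) := isCoh_ddual hQc
  haveI := hEc.1
  have hEi : PicF.IsInvertible (RefHull.ddual Q) :=
    isInvertible_of_isReflexive_of_regular hreg hEc (isReflexive_ddual hQc) (isRankOne_ddual hQc hQ)
  let q : V ⟶ RefHull.ddual Q := cokernel.π σ ≫ RefHull.bidualMap Q
  let b : V ⟶ Abelian.image q := Abelian.factorThruImage q
  have hN : Coh.IsCoh (Abelian.image q) := QCohMod.isCoh_kernel (cokernel.π q) hEc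
  haveI := hN.1
  have hF : Coh.IsCoh (kernel b) := QCohMod.isCoh_kernel b hV
  haveI := hF.1
  have hσq : σ ≫ q = 0 := by rw [cokernel.condition_assoc, Limits.zero_comp]
  have hσb : σ ≫ b = 0 := by
    rw [← cancel_mono (Abelian.image.ι q), Category.assoc, Abelian.image.fac, hσq, Limits.zero_comp]
  let τ : M₀ ⟶ kernel b := kernel.lift b σ hσb
  have hτ : τ ≫ kernel.ι b = σ := kernel.lift_ι b σ hσb
  haveI : Mono τ := mono_of_mono_fac hτ
  have hj := stalkMapₗ_injective_of_mono (kernel.ι b) (genericPoint ↥X)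
  have hτbij : Function.Bijective (RefHull.stalkMapₗ τ (genericPoint ↥X)) := by
    refine ⟨stalkMapₗ_injective_of_mono τ _, fun f => ?_⟩
    obtain ⟨-, hex, -⟩ := Groth.KTheory.LocFree.stalk_exact
      ({ exact := ShortComplex.exact_of_g_is_cokernel _ (cokernelIsCokernel σ) } :
        (ShortComplex.mk σ (cokernel.π σ) (cokernel.condition σ)).ShortExact) (genericPoint ↥X)
    have hz : kernel.ι b ≫ q = 0 := by
      calc kernel.ι b ≫ q = kernel.ι b ≫ b ≫ Abelian.image.ι q := by rw [Abelian.image.fac]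
        _ = 0 := by rw [kernel.condition_assoc, Limits.zero_comp]
    have h0 : RefHull.stalkMapₗ (cokernel.π σ) (genericPoint ↥X)
        (RefHull.stalkMapₗ (kernel.ι b) _ f) = 0 := by
      refine (bidual_gen_bijective hQc).1 ?_
      rw [map_zero, ← Groth.RefRank.stalkMapₗ_comp, ← Groth.RefRank.stalkMapₗ_comp, hz]
      obtain ⟨U, hU, m, rfl⟩ := QCohMod.exists_germ (kernel b) _ f
      rw [RefHull.stalkMapₗ_germ]
      exact map_zero _
    obtain ⟨o, ho⟩ := (hex _).mp h0
    refine ⟨o, hj ?_⟩
    rw [← Groth.RefRank.stalkMapₗ_comp, hτ]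
    exact ho
  have hF1 : IsRankOne (kernel b) := by
    obtain ⟨w, hw⟩ := isRankOne_of_isInvertible hM₀
    refine ⟨RefHull.stalkMapₗ τ _ w, ?_⟩
    have e : (fun c : X.presheaf.stalk (genericPoint ↥X) => c • RefHull.stalkMapₗ τ _ w) =
        RefHull.stalkMapₗ τ _ ∘ fun c => c • w := funext fun c => (map_smul _ c w).symm
    rw [IsStalkBasis, e]
    exact hτbij.comp hw
  have hDc : Coh.IsCoh (RefHull.ddual (kernel b)) := isCoh_ddual hF
  haveI := hDc.1
  have hDi : PicF.IsInvertible (RefHull.ddual (kernel b)) :=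
    isInvertible_of_isReflexive_of_regular hreg hDc (isReflexive_ddual hF) (isRankOne_ddual hF hF1)
  have hFtf := Groth.TFOneAux.isTorsionFree_of_mono (kernel.ι b) hVtf
  have hδb := bidual_gen_bijective hF
  haveI hmδ : Mono (RefHull.bidualMap (kernel b)) := mono_of_generic hFtf _ hδb.1
  have hdimC : topologicalKrullDim (CohB1.support (cokernel (Abelian.image.ι q))) ≤ 0 := by
    refine le_trans (Topology.IsEmbedding.inclusion (fun x hx => ?_)).isInducing.topologicalKrullDim_le
      (dim_support_cokernel_bidual_le k hX hQc)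
    intro hs
    refine KTheory.Devissage.subsingleton_cokernel_stalk (Abelian.image.ι q) x (fun v => ?_) hx
    obtain ⟨-, hex, -⟩ := Groth.KTheory.LocFree.stalk_exact
      ({ exact := ShortComplex.exact_of_g_is_cokernel _ (cokernelIsCokernel (Abelian.image.ι q)) } :
        (ShortComplex.mk (Abelian.image.ι q) (cokernel.π _) (cokernel.condition _)).ShortExact) x
    refine (hex v).mp ?_
    have hb : Abelian.image.ι q ≫ cokernel.π (RefHull.bidualMap Q) = 0 := by
      haveI : Epi b := inferInstance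
      rw [← cancel_epi b, ← Category.assoc, Abelian.image.fac, Category.assoc, cokernel.condition,
        Limits.comp_zero, Limits.comp_zero]
    haveI : Epi (cokernel.π σ) := inferInstance
    obtain ⟨-, hex', -⟩ := Groth.KTheory.LocFree.stalk_exact
      ({ exact := ShortComplex.exact_of_g_is_cokernel _ (cokernelIsCokernel σ) } :
        (ShortComplex.mk σ (cokernel.π σ) (cokernel.condition σ)).ShortExact) x
    have hsurjπ : Function.Surjective (RefHull.stalkMapₗ (cokernel.π σ) x) :=
      (Groth.QCohMod.epi_iff_stalk (cokernel.π σ)).mp inferInstance x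
    haveI := hs
    have hsurjδ : Function.Surjective (RefHull.stalkMapₗ (RefHull.bidualMap Q) x) := by
      intro y
      obtain ⟨-, he, -⟩ := Groth.KTheory.LocFree.stalk_exact
        ({ exact := ShortComplex.exact_of_f_is_kernel _ (kernelIsKernel (cokernel.π (RefHull.bidualMap Q))) } :
          (ShortComplex.mk (Abelian.image.ι (RefHull.bidualMap Q)) (cokernel.π (RefHull.bidualMap Q))
            (kernel.condition _)).ShortExact) x
      obtain ⟨y', hy'⟩ := (he y).mp (Subsingleton.elim _ _)
      obtain ⟨y'', rfl⟩ :=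
        (Groth.QCohMod.epi_iff_stalk (Abelian.factorThruImage (RefHull.bidualMap Q))).mp inferInstance x y'
      refine ⟨y'', ?_⟩
      exact ((congrArg (fun f => RefHull.stalkMapₗ f x y'')
        (Abelian.image.fac (RefHull.bidualMap Q))).symm.trans
          (Groth.RefRank.stalkMapₗ_comp (Abelian.factorThruImage (RefHull.bidualMap Q))
            (Abelian.image.ι (RefHull.bidualMap Q)) x y'')).trans hy'
    obtain ⟨y, rfl⟩ := hsurjδ v
    obtain ⟨z, rfl⟩ := hsurjπ y
    refine (hex _).mpr ⟨RefHull.stalkMapₗ b x z, ?_⟩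
    change RefHull.stalkMapₗ (Abelian.image.ι q) x (RefHull.stalkMapₗ b x z) = _
    rw [← Groth.RefRank.stalkMapₗ_comp, Abelian.image.fac]
    exact Groth.RefRank.stalkMapₗ_comp (cokernel.π σ) (RefHull.bidualMap Q) x z
  refine ⟨kernel b, Abelian.image q, kernel.ι b, b, kernel.condition b, _, _, hDi, hEi,
    RefHull.bidualMap (kernel b), Abelian.image.ι q, τ,
    { exact := ShortComplex.exact_of_f_is_kernel _ (kernelIsKernel b) },
    hF, hN, inferInstance, hτ, hmδ, dim_support_cokernel_bidual_le k hX hF, inferInstance, hdimC, ?_⟩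
  intro hr
  obtain ⟨g, hg, -⟩ := exists_factor_ddual hnorm hF hV hr (kernel.ι b)
  have hjq : kernel.ι b ≫ q = 0 := by
    calc kernel.ι b ≫ q = kernel.ι b ≫ b ≫ Abelian.image.ι q := by rw [Abelian.image.fac]
      _ = 0 := by rw [kernel.condition_assoc, Limits.zero_comp]
  have hgb : g ≫ b = 0 := by
    rw [← cancel_mono (Abelian.image.ι q), Category.assoc, Abelian.image.fac, Limits.zero_comp]
    refine hom_ext_gen (mspec_injective_of_isTorsionFree (isTorsionFree_of_isInvertible hEi))
      (LinearMap.ext fun v => ?_)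
    obtain ⟨v, rfl⟩ := hδb.2 v
    rw [← Groth.RefRank.stalkMapₗ_comp, ← Groth.RefRank.stalkMapₗ_comp, ← Category.assoc, hg,
      hjq, Limits.comp_zero]
  let r : RefHull.ddual (kernel b) ⟶ kernel b := kernel.lift b g hgb
  have hr1 : RefHull.bidualMap (kernel b) ≫ r = 𝟙 _ := by
    rw [← cancel_mono (kernel.ι b), Category.assoc, kernel.lift_ι, hg, Category.id_comp]
  refine ⟨r, hr1, hom_ext_gen (mspec_injective_of_isTorsionFree (isTorsionFree_of_isInvertible hDi))
    (LinearMap.ext fun v => ?_)⟩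
  obtain ⟨v, rfl⟩ := hδb.2 v
  rw [← Groth.RefRank.stalkMapₗ_comp, ← Category.assoc, hr1, Category.id_comp, Groth.RefRank.stalkMapₗ_id]

end Surface

end Groth.HilbStab
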