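import Groth.Agent.HilbStab.Series

/-!
# Saturation; semistability tested on quotients
-/

set_option autoImplicit false

universe u

open CategoryTheory CategoryTheory.Limits AlgebraicGeometry
open Groth.PicAux

namespace Groth.HilbStab

namespace PolyLattice

variable {α : Type u} [Lattice α] {d : ℕ} (S : PolyLattice α d)

/-- Saturation of a submodule. -/
theorem exists_saturation [WellFoundedGT α] {a b : α} (hp : S.Pure a b) {C : α} (hC : a < C)
    (hCb : C < b) :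
    PP (cr d (S.Q a C) (S.Q a b)) ∨ ∃ C', C ≤ C' ∧ C' < b ∧ S.Pure C' b ∧
      (NN (cr d (S.Q a C') (S.Q a b)) → NN (cr d (S.Q a C) (S.Q a b))) ∧
      (PP (cr d (S.Q a C') (S.Q a b)) → PP (cr d (S.Q a C) (S.Q a b))) := by
  obtain ⟨C', ⟨hle, hC'b, hμ⟩, hmax⟩ := (wellFounded_gt (α := α)).has_min
    {D | C ≤ D ∧ D ≤ b ∧ S.μ C D = 0} ⟨C, le_rfl, hCb.le, by simp [μ, S.Q_self, StabCat.alpha]⟩
  have hμC : 0 < S.μ a C := hp.μ_pos hC hCb.le
  rcases eq_or_lt_of_le hC'b with rfl | hlt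
  · exact Or.inl (pp_of_μ_eq hμC hCb hμ)
  right
  have hμb : 0 < S.μ a b := hp.μ_pos (hC.trans hCb) le_rfl
  have e : cr d (S.Q a C') (S.Q a b) =
      cr d (S.Q a C) (S.Q a b) + -(S.μ a b • S.Q C C') := by
    rw [S.Q_add a C C', cr_add_left, show cr d (S.Q C C') (S.Q a b) = -(S.μ a b • S.Q C C') by
      rw [cr_swap, cr_of_alpha_eq_zero hμ]; rfl]
  have hnn : NN (S.μ a b • S.Q C C') := by
    rcases eq_or_lt_of_le hle with e' | e'
    · rw [← e', S.Q_self, smul_zero]; exact nn_zero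
    · exact ((S.pp_of_lt e').smul hμb).nn
  refine ⟨C', hle, hlt, fun D hD hDb => ?_, fun h => ?_, fun h => ?_⟩
  · refine le_antisymm (S.natDegree_le hD.le) (not_lt.mp fun hd => hmax D ⟨hle.trans hD.le, hDb, ?_⟩ hD)
    rw [S.μ_add C C' D, hμ, zero_add, μ, StabCat.alpha, Polynomial.coeff_eq_zero_of_natDegree_lt hd,
      mul_zero]
  · rw [show cr d (S.Q a C) (S.Q a b) = cr d (S.Q a C') (S.Q a b) + S.μ a b • S.Q C C' by rw [e]; abel]
    exact h.add hnn
  · rw [show cr d (S.Q a C) (S.Q a b) = cr d (S.Q a C') (S.Q a b) + S.μ a b • S.Q C C' by rw [e]; abel]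
    exact h.add_nn hnn

end PolyLattice

variable (k : Type u) [Field k] {X : Scheme.{u}} [X.Over (Spec (CommRingCat.of k))]
  [IsProper (X ↘ Spec (CommRingCat.of k))] [IsLocallyNoetherian X] [CompactSpace X]
  {L : X.Modules} (hL : CohB1.IsAmple L) {E : X.Modules} {d : ℕ}

include hL in
/-- A submodule satisfies the comparison once its saturation does. -/
theorem exists_saturated_sub (hE : Coh.IsCoh E) (hp : ShStab.IsPure X E d)
    {F : X.Modules} (ι : F ⟶ E) [Mono ι] (hF : Coh.IsCoh F) (h0 : ¬ IsZero F) (hi : ¬ IsIso ι)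
    {pF pE : Polynomial ℚ} (hpF : ShStab.IsHilbPoly k X L F pF)
    (hpE : ShStab.IsHilbPoly k X L E pE) :
    PP (cr d pF pE) ∨ ∃ (F' : X.Modules) (ι' : F' ⟶ E) (pF' pG : Polynomial ℚ), Mono ι' ∧
      Coh.IsCoh F' ∧ ¬ IsZero F' ∧ ¬ IsIso ι' ∧ Coh.IsCoh (cokernel ι') ∧
      ¬ IsZero (cokernel ι') ∧ ¬ IsIso (cokernel.π ι') ∧ ShStab.IsPure X (cokernel ι') d ∧
      ShStab.IsHilbPoly k X L F' pF' ∧ ShStab.IsHilbPoly k X L (cokernel ι') pG ∧ pE = pF' + pG ∧
      (NN (cr d pF' pE) → NN (cr d pF pE)) ∧ (PP (cr d pF' pE) → PP (cr d pF pE)) := by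
  haveI := wellFoundedGT_cohSub (E := E) hE
  haveI := hE.1
  let S := subLattice k hL hE hp
  obtain rfl := isHilbPoly_unique k hpF (isHilbPoly_toCoh k hL hE ι hF)
  obtain rfl := isHilbPoly_unique k hpE (isHilbPoly_top k hL hE)
  have hlt : toCoh hE ι hF < cTop hE := lt_of_le_of_ne (le_cTop hE _) fun e =>
    hi ((Subobject.isIso_iff_mk_eq_top ι).mpr (congrArg Subtype.val e))
  rcases S.exists_saturation (pure_subLattice k hL hE hp) (cBot_lt_toCoh k hL hE ι hF h0) hlt with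
    h | ⟨C, hC, hCt, hpure, h1, h2⟩
  · left
    rwa [Q_cBot, Q_cBot] at h
  right
  rw [Q_cBot, Q_cBot, Q_cBot] at h1 h2
  have hC1 : C.1 ≤ (⊤ : Subobject E) := hCt.le
  haveI : IsIso (cTop hE).1.arrow := inferInstanceAs (IsIso ((⊤ : Subobject E).arrow))
  let e : fac (show C.1 ≤ (cTop hE).1 from hCt.le) ≅ cokernel C.1.arrow :=
    cokernel.mapIso _ _ (Iso.refl _) (asIso (cTop hE).1.arrow)
      (by simp only [asIso_hom, Subobject.ofLE_arrow, Iso.refl_hom, Category.id_comp])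
  have hG : Coh.IsCoh (cokernel C.1.arrow) :=
    QCohMod.isCoh_of_iso e (isCoh_fac (hE := hE) hCt.le)
  have hbot : cBot hE < C := (cBot_lt_toCoh k hL hE ι hF h0).trans_le hC
  refine ⟨_, C.1.arrow, subPoly k hL C, S.Q C (cTop hE), inferInstance, C.2, fun hz => ?_,
    fun hi' => hCt.ne (Subtype.ext (Subobject.eq_top_of_isIso_arrow C.1)), hG,
    fun hz => not_isZero_fac (hE := hE) hCt (hz.of_iso e), fun hi' => ?_, ?_,
    isHilbPoly_subPoly k hL C, isHilbPoly_iso k e (isHilbPoly_fac' k hL hE hp hCt.le),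
    (add_sub_cancel _ _).symm, h1, h2⟩
  · refine pp_ne_zero (S.pp_of_lt hbot) ?_
    change S.Q (cBot hE) C = 0
    rw [Q_cBot]
    exact eq_zero_of_isZero k hz (isHilbPoly_subPoly k hL C)
  · have h := isHilbPoly_unique k (isHilbPoly_iso k (asIso (cokernel.π C.1.arrow))
      (isHilbPoly_top k hL hE)) (isHilbPoly_iso k e (isHilbPoly_fac' k hL hE hp hCt.le))
    change subPoly k hL (cTop hE) = subPoly k hL (cTop hE) - subPoly k hL C at h
    refine pp_ne_zero (S.pp_of_lt hbot) ?_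
    change S.Q (cBot hE) C = 0
    rw [Q_cBot]
    linear_combination h
  · intro G κ hκ hG' h0'
    exact (pure_iff k hL hE hp hCt.le).mp hpure G (κ ≫ e.inv) (mono_comp _ _) hG' h0'

include hL in
/-- A quotient of positive multiplicity has a nonzero proper kernel. -/
theorem exists_kernel_sub (hE : Coh.IsCoh E) {G : X.Modules} (π : E ⟶ G) [Epi π]
    (hG : Coh.IsCoh G) (hπ : ¬ IsIso π) {pE pG : Polynomial ℚ}
    (hpE : ShStab.IsHilbPoly k X L E pE) (hpG : ShStab.IsHilbPoly k X L G pG)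
    (hα : 0 < StabCat.alpha d pG) :
    Coh.IsCoh (kernel π) ∧ ¬ IsZero (kernel π) ∧ ¬ IsIso (kernel.ι π) ∧
      ∃ pK, ShStab.IsHilbPoly k X L (kernel π) pK ∧ cr d pK pE = cr d pE pG := by
  haveI := hG.1
  have hK := QCohMod.isCoh_kernel π hE
  obtain ⟨pK, hpK⟩ := exists_isHilbPoly k X hL hK
  have hadd := isHilbPoly_kernel_add k hL hE π hG hpK hpE hpG
  refine ⟨hK, fun hz => ?_, fun hi => ?_, pK, hpK, ?_⟩
  · haveI : Mono π := Preadditive.mono_of_kernel_zero (hz.eq_of_src _ _)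
    exact hπ (isIso_of_mono_of_epi π)
  · have := isHilbPoly_unique k (isHilbPoly_iso k (asIso (kernel.ι π)) hpK) hpE
    rw [hadd] at this
    rw [left_eq_add.mp this] at hα
    simp [StabCat.alpha] at hα
  · rw [hadd, cr_left_self, cr_right_self]

end Groth.HilbStab
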